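import Cfsg.Agent.Lib.Perm.CoprimeBase.RigidGraph

/-!
# Small rigid subsets of abelian groups of squarefree exponent
-/

namespace CfsgLib.Perm.CoprimeBase

universe u

/-- The size bound carried through the induction. -/
def Sparse {X : Type*} (T : Finset X) : Prop :=
  4 * T.card < Nat.card X ∨ Nat.card X = 32 ∧ T.card ≤ 13

/-- Multiples by a prime kill only what the prime kills. -/
def SqFree (X : Type*) [AddCommGroup X] : Prop :=
  ∀ r : ℕ, r.Prime → ∀ x : X, r • (r • x) = 0 → r • x = 0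

theorem isRigid_map {X Y : Type*} [AddCommGroup X] [AddCommGroup Y] (e : X ≃+ Y) {T : Finset X}
    (h : IsRigid T) : IsRigid (T.map e.toEquiv.toEmbedding) := by
  classical
  refine ⟨fun h0 => ?_, fun g hinj hg y => ?_⟩
  · obtain ⟨x, hx, hx0⟩ := Finset.mem_map.1 h0
    exact h.1 ((e.injective (hx0.trans (map_zero e).symm)) ▸ hx)
  · let g' : X →+ X := e.symm.toAddMonoidHom.comp (g.comp e.toAddMonoidHom)
    have hg' : ∀ x ∈ T, g' x ∈ T := fun x hx => by
      obtain ⟨z, hz, hze⟩ := Finset.mem_map.1 (hg (e x) (Finset.mem_map.2 ⟨x, hx, rfl⟩))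
      have : g' x = z := by
        show e.symm (g (e x)) = z
        rw [← hze]; exact e.symm_apply_apply z
      exact this ▸ hz
    have := h.2 g' (e.symm.injective.comp (hinj.comp e.injective)) hg' (e.symm y)
    have h2 : e.symm (g (e (e.symm y))) = e.symm y := this
    rw [e.apply_symm_apply] at h2
    exact e.symm.injective h2

theorem isRigid_of_card_le {X : Type*} [AddCommGroup X] [Finite X] (h : Nat.card X ≤ 2) :
    IsRigid (∅ : Finset X) := by
  refine ⟨Finset.notMem_empty _, fun g hinj _ x => ?_⟩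
  by_cases hx : x = 0
  · rw [hx, map_zero]
  by_contra hne
  have h0 : g x ≠ 0 := fun e => hx (hinj (e.trans (map_zero g).symm))
  let f : Fin 3 → X := ![0, x, g x]
  have hf : Function.Injective f := by
    intro i j hij
    fin_cases i <;> fin_cases j <;> simp [f] at hij ⊢ <;>
      first | exact hx hij | exact hx hij.symm | exact h0 hij | exact h0 hij.symm |
        exact hne hij | exact hne hij.symm
  have := Nat.card_le_card_of_injective f hf
  rw [Nat.card_eq_fintype_card, Fintype.card_fin] at this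
  omega

section Prod

variable {A Y : Type*} [AddCommGroup A] [AddCommGroup Y] [Finite A] [Finite Y]

theorem eq_zero_of_coprime {n m : ℕ} (h : n.Coprime m) {M : Type*} [AddCommGroup M] {x : M}
    (h1 : n • x = 0) (h2 : m • x = 0) : x = 0 :=
  AddMonoid.addOrderOf_eq_one_iff.1 (Nat.dvd_one.1 (h ▸ Nat.dvd_gcd
    (addOrderOf_dvd_of_nsmul_eq_zero h1) (addOrderOf_dvd_of_nsmul_eq_zero h2)))

/-- An endomorphism of a product of coprime groups is a product. -/
theorem exists_split (hcop : (Nat.card A).Coprime (Nat.card Y)) (g : A × Y →+ A × Y)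
    (hinj : Function.Injective g) : ∃ (p : A →+ A) (q : Y →+ Y), Function.Injective p ∧
      Function.Injective q ∧ ∀ a y, g (a, y) = (p a, q y) := by
  have h1 : ∀ a : A, (g (a, 0)).2 = 0 := fun a => eq_zero_of_coprime hcop (by
    rw [← Prod.smul_snd, ← map_nsmul, Prod.smul_mk, card_nsmul_eq_zero', smul_zero, Prod.mk_zero_zero, map_zero]
    rfl) card_nsmul_eq_zero'
  have h2 : ∀ y : Y, (g (0, y)).1 = 0 := fun y => eq_zero_of_coprime hcop card_nsmul_eq_zero' (by
    rw [← Prod.smul_fst, ← map_nsmul, Prod.smul_mk, card_nsmul_eq_zero', smul_zero, Prod.mk_zero_zero, map_zero]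
    rfl)
  refine ⟨(AddMonoidHom.fst A Y).comp (g.comp (AddMonoidHom.inl A Y)),
    (AddMonoidHom.snd A Y).comp (g.comp (AddMonoidHom.inr A Y)), fun a b h => ?_, fun a b h => ?_,
    fun a y => ?_⟩
  · have : g (a, 0) = g (b, 0) := Prod.ext h (by rw [h1, h1])
    exact congrArg Prod.fst (hinj this)
  · have : g (0, a) = g (0, b) := Prod.ext (by rw [h2, h2]) h
    exact congrArg Prod.snd (hinj this)
  · have e : g (a, y) = g (a, 0) + g (0, y) := by rw [← map_add]; simp
    rw [e]
    refine Prod.ext ?_ ?_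
    · rw [Prod.fst_add, h2, add_zero]; rfl
    · rw [Prod.snd_add, h1, zero_add]; rfl

/-- Union of rigid subsets of the factors. -/
theorem rigid_union [DecidableEq A] [DecidableEq Y] (hcop : (Nat.card A).Coprime (Nat.card Y)) {S : Finset A} {T : Finset Y}
    (hS : IsRigid S) (hT : IsRigid T) :
    IsRigid (S.image (fun a => (a, (0 : Y))) ∪ T.image (fun y => ((0 : A), y))) := by
  refine ⟨fun h0 => ?_, fun g hinj hg => ?_⟩
  · rcases Finset.mem_union.1 h0 with h | h <;> obtain ⟨x, hx, e⟩ := Finset.mem_image.1 h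
    · exact hS.1 ((show x = 0 from congrArg Prod.fst e) ▸ hx)
    · exact hT.1 ((show x = 0 from congrArg Prod.snd e) ▸ hx)
  obtain ⟨p, q, hp, hq, hpq⟩ := exists_split hcop g hinj
  have ep := hS.2 p hp fun a ha => by
    rcases Finset.mem_union.1 (hg _ (Finset.mem_union_left _ (Finset.mem_image_of_mem _ ha))) with
      h | h <;> obtain ⟨x, hx, e⟩ := Finset.mem_image.1 h <;> rw [hpq] at e
    · exact (show x = p a from congrArg Prod.fst e) ▸ hx
    · exfalso
      exact hT.1 ((show x = 0 by rw [show x = q 0 from congrArg Prod.snd e, map_zero]) ▸ hx)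
  have eq := hT.2 q hq fun a ha => by
    rcases Finset.mem_union.1 (hg _ (Finset.mem_union_right _ (Finset.mem_image_of_mem _ ha))) with
      h | h <;> obtain ⟨x, hx, e⟩ := Finset.mem_image.1 h <;> rw [hpq] at e
    · exfalso
      exact hS.1 ((show x = 0 by rw [show x = p 0 from congrArg Prod.fst e, map_zero]) ▸ hx)
    · exact (show x = q a from congrArg Prod.snd e) ▸ hx
  rintro ⟨a, y⟩
  rw [hpq, ep, eq]

/-- Labelling generators of a second factor by distinct elements of the first. -/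
theorem rigid_extend [DecidableEq A] [DecidableEq Y] (hcop : (Nat.card A).Coprime (Nat.card Y)) {S : Finset A} (hS : IsRigid S)
    {q m : ℕ} [Module (ZMod q) Y] (b : Module.Basis (Fin m) (ZMod q) Y)
    (hb : ∀ j, b j ≠ 0) (α : Fin m ↪ A) :
    IsRigid (S.image (fun a => (a, (0 : Y))) ∪ Finset.univ.image (fun j => (α j, b j))) := by
  refine ⟨fun h0 => ?_, fun g hinj hg => ?_⟩
  · rcases Finset.mem_union.1 h0 with h | h <;> obtain ⟨x, hx, e⟩ := Finset.mem_image.1 h
    · exact hS.1 ((show x = 0 from congrArg Prod.fst e) ▸ hx)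
    · exact hb x (congrArg Prod.snd e)
  obtain ⟨p, r, hp, hr, hpq⟩ := exists_split hcop g hinj
  have ep := hS.2 p hp fun a ha => by
    rcases Finset.mem_union.1 (hg _ (Finset.mem_union_left _ (Finset.mem_image_of_mem _ ha))) with
      h | h <;> obtain ⟨x, hx, e⟩ := Finset.mem_image.1 h <;> rw [hpq] at e
    · exact (show x = p a from congrArg Prod.fst e) ▸ hx
    · exfalso
      exact hb x (by rw [show b x = r 0 from congrArg Prod.snd e, map_zero])
  have er : ∀ j, r (b j) = b j := fun j => by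
    rcases Finset.mem_union.1 (hg _ (Finset.mem_union_right _
      (Finset.mem_image_of_mem _ (Finset.mem_univ j)))) with h | h <;>
      obtain ⟨x, -, e⟩ := Finset.mem_image.1 h <;> rw [hpq] at e
    · exact absurd ((map_eq_zero_iff r hr).1 (congrArg Prod.snd e).symm) (hb j)
    · have : α x = α j := by rw [show α x = p (α j) from congrArg Prod.fst e, ep]
      rw [← show b x = r (b j) from congrArg Prod.snd e, α.injective this]
  have : r.toZModLinearMap q = LinearMap.id := b.ext er
  rintro ⟨a, y⟩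
  rw [hpq, ep, show r y = y from DFunLike.congr_fun this y]

/-- A two-group of small rank times a three-group of small rank. -/
theorem rigid_mixed [DecidableEq A] [DecidableEq Y] [Module (ZMod 2) A] [Module (ZMod 3) Y]
    (hcop : (Nat.card A).Coprime (Nat.card Y)) {n : ℕ} (b : Module.Basis (Fin n) (ZMod 2) A)
    (c d : Y) (f : Fin n → Y) (hc : c ≠ 0) (hf : Function.Injective f)
    (hval : ∀ i, f i = 0 ∨ f i = c ∨ f i = (2 : ℕ) • c ∨ f i = d)
    (hgen : ∀ h : Y →+ Y, h c = c → (∀ i, h (f i) = f i) → ∀ y, h y = y) :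
    IsRigid ({((0 : A), c)} ∪ Finset.univ.image (fun i => (b i, f i))) := by
  refine ⟨fun h0 => ?_, fun g hinj hg => ?_⟩
  · rcases Finset.mem_union.1 h0 with h | h
    · exact hc (congrArg Prod.snd (Finset.mem_singleton.1 h)).symm
    · obtain ⟨x, -, e⟩ := Finset.mem_image.1 h
      exact b.ne_zero x (congrArg Prod.fst e)
  obtain ⟨p, r, hp, hr, hpq⟩ := exists_split hcop g hinj
  have hrc : r c = c := by
    rcases Finset.mem_union.1 (hg _ (Finset.mem_union_left _ (Finset.mem_singleton_self _))) with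
      h | h
    · rw [hpq, Finset.mem_singleton] at h; exact congrArg Prod.snd h
    · obtain ⟨x, -, e⟩ := Finset.mem_image.1 h
      rw [hpq, map_zero] at e
      exact absurd (congrArg Prod.fst e) (b.ne_zero x)
  have key : ∀ i, p (b i) = b i ∧ r (f i) = f i := fun i => by
    rcases Finset.mem_union.1 (hg _ (Finset.mem_union_right _
      (Finset.mem_image_of_mem _ (Finset.mem_univ i)))) with h | h
    · rw [hpq, Finset.mem_singleton] at h
      exact absurd ((map_eq_zero_iff p hp).1 (congrArg Prod.fst h)) (b.ne_zero i)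
    obtain ⟨k, -, e⟩ := Finset.mem_image.1 h
    rw [hpq] at e
    have e1 : b k = p (b i) := congrArg Prod.fst e
    have e2 : f k = r (f i) := congrArg Prod.snd e
    have hki : k = i := by
      apply hf
      rcases hval i with hi | hi | hi | hi
      · rw [e2, hi, map_zero]
      · rw [e2, hi, hrc]
      · rw [e2, hi, map_nsmul, hrc]
      · rcases hval k with hk | hk | hk | hk
        · rw [e2] at hk
          have hz := (map_eq_zero_iff r hr).1 hk
          rw [e2, hk, hz]
        · rw [hk]; exact (hr (hrc.trans (hk.symm.trans e2))).trans rfl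
        · rw [hk]
          exact (hr (((map_nsmul r 2 c).trans (congrArg _ hrc)).trans (hk.symm.trans e2))).trans rfl
        · rw [hk, hi]
    subst hki
    exact ⟨e1.symm, e2.symm⟩
  have : p.toZModLinearMap 2 = LinearMap.id := b.ext fun i => (key i).1
  rintro ⟨a, y⟩
  rw [hpq, show p a = a from DFunLike.congr_fun this a, hgen r hrc (fun i => (key i).2) y]

/-- Rank four times order three. -/
theorem rigid_mixed_four [DecidableEq A] [DecidableEq Y] [Module (ZMod 2) A] (hcop : (Nat.card A).Coprime (Nat.card Y))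
    (b : Module.Basis (Fin 4) (ZMod 2) A) (c : Y) (hc : c ≠ 0) (hc3 : c ≠ -c)
    (hgen : ∀ h : Y →+ Y, h c = c → ∀ y, h y = y) :
    IsRigid ({((0 : A), c), (b 0, (0 : Y)), (b 1, c), (b 3, c), (b 2, -c), (b 1 + b 2, 0)} :
      Finset (A × Y)) := by
  have hb : ∀ i, b i ≠ 0 := fun i => b.ne_zero i
  have h12 : b 1 + b 2 ≠ 0 := fun h => by
    have := congrArg (fun v => b.repr v 1) h
    simp at this
  have hc' : -c ≠ 0 := neg_ne_zero.2 hc
  refine ⟨?_, fun g hinj hg => ?_⟩
  · simp [Prod.ext_iff, hc.symm, hc'.symm, (hb 0).symm, h12.symm]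
  obtain ⟨p, r, hp, hr, hpq⟩ := exists_split hcop g hinj
  have hp0 : ∀ a, a ≠ 0 → p a ≠ 0 := fun a ha h => ha ((map_eq_zero_iff p hp).1 h)
  have hrc : r c = c := by
    have h := hg (0, c) (by simp)
    rw [hpq] at h
    simpa [Prod.ext_iff, (hb 0).symm, (hb 1).symm, (hb 2).symm, (hb 3).symm, h12.symm] using h
  have hr' : ∀ y, r y = y := hgen r hrc
  have k0 : p (b 0) = b 0 ∨ p (b 0) = b 1 + b 2 := by
    have h := hg (b 0, 0) (by simp)
    rw [hpq, hr'] at h
    simpa [Prod.ext_iff, hp0 _ (hb 0), hc.symm, hc'.symm] using h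
  have k12 : p (b 1) + p (b 2) = b 0 ∨ p (b 1) + p (b 2) = b 1 + b 2 := by
    have h := hg (b 1 + b 2, 0) (by simp)
    rw [hpq, hr'] at h
    simpa [Prod.ext_iff, hp0 _ h12, hc.symm, hc'.symm, ← map_add] using h
  have k1 : p (b 1) = b 1 ∨ p (b 1) = b 3 := by
    have h := hg (b 1, c) (by simp)
    rw [hpq, hr'] at h
    simpa [Prod.ext_iff, hp0 _ (hb 1), hc, hc3] using h
  have k3 : p (b 3) = b 1 ∨ p (b 3) = b 3 := by
    have h := hg (b 3, c) (by simp)
    rw [hpq, hr'] at h
    simpa [Prod.ext_iff, hp0 _ (hb 3), hc, hc3] using h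
  have k2 : p (b 2) = b 2 := by
    have h := hg (b 2, -c) (by simp)
    rw [hpq, hr'] at h
    simpa [Prod.ext_iff, hp0 _ (hb 2), hc, hc', hc3.symm] using h
  rw [k2] at k12
  have bad : ∀ i : Fin 4, i = 1 ∨ i = 3 → b i + b 2 ≠ b 0 := fun i hi h => by
    have := congrArg (fun v => b.repr v 2) h
    rcases hi with rfl | rfl <;> simp at this
  have hb13 : b 3 + b 2 ≠ b 1 + b 2 := fun h =>
    absurd (b.injective (add_right_cancel h)) (by decide)
  have e1 : p (b 1) = b 1 := by
    rcases k1 with h | h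
    · exact h
    rw [h] at k12
    exact (k12.elim (bad 3 (Or.inr rfl)) hb13).elim
  have e0 : p (b 0) = b 0 := by
    rcases k0 with h | h
    · exact h
    exfalso
    rw [← e1, ← k2, ← map_add] at h
    have h2 := congrArg (fun v => b.repr v 0) (hp h)
    simp at h2
  have e3 : p (b 3) = b 3 := by
    rcases k3 with h | h
    · exact absurd (b.injective (hp (h.trans e1.symm))) (by decide)
    · exact h
  have : p.toZModLinearMap 2 = LinearMap.id := b.ext fun i => by
    fin_cases i <;> assumption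
  rintro ⟨a, y⟩
  rw [hpq, show p a = a from DFunLike.congr_fun this a, hr']

/-- Rank at most two times order three. -/
theorem rigid_mixed_small [DecidableEq A] [DecidableEq Y] [Module (ZMod 2) A]
    (hcop : (Nat.card A).Coprime (Nat.card Y)) {n : ℕ} (hn : n ≤ 2)
    (b : Module.Basis (Fin n) (ZMod 2) A) (hn1 : 1 ≤ n) (c : Y) (hc : c ≠ 0)
    (hgen : ∀ h : Y →+ Y, h c = c → ∀ y, h y = y) :
    IsRigid (Finset.univ.image fun i : Fin n => (b i, if (i : ℕ) = 0 then c else 0)) := by
  refine ⟨fun h0 => ?_, fun g hinj hg => ?_⟩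
  · obtain ⟨x, -, e⟩ := Finset.mem_image.1 h0
    exact b.ne_zero x (congrArg Prod.fst e)
  obtain ⟨p, r, hp, hr, hpq⟩ := exists_split hcop g hinj
  have key : ∀ i, p (b i) = b i ∧ ((i : ℕ) = 0 → r c = c) := fun i => by
    obtain ⟨k, -, e⟩ := Finset.mem_image.1 (hg _ (Finset.mem_image_of_mem _ (Finset.mem_univ i)))
    rw [hpq] at e
    have e2 : (if (k : ℕ) = 0 then c else 0) = r (if (i : ℕ) = 0 then c else 0) :=
      congrArg Prod.snd e
    have e1 : b k = p (b i) := congrArg Prod.fst e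
    have hki : k = i := by
      refine Fin.ext ?_
      have hk := k.2
      have hi := i.2
      by_cases h : (i : ℕ) = 0 <;> by_cases h' : (k : ℕ) = 0
      · omega
      · rw [if_pos h, if_neg h'] at e2
        exact absurd ((map_eq_zero_iff r hr).1 e2.symm) hc
      · rw [if_neg h, if_pos h', map_zero] at e2
        exact absurd e2 hc
      · omega
    subst hki
    refine ⟨e1.symm, fun h => ?_⟩
    rw [if_pos h] at e2
    exact e2.symm
  have : p.toZModLinearMap 2 = LinearMap.id := b.ext fun i => (key i).1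
  rintro ⟨a, y⟩
  rw [hpq, show p a = a from DFunLike.congr_fun this a,
    hgen r ((key ⟨0, hn1⟩).2 rfl) y]

end Prod

theorem elementary_of_card {X : Type*} [AddCommGroup X] [Finite X] (hsf : SqFree X) {q k : ℕ}
    (hq : q.Prime) (h : Nat.card X = q ^ k) (x : X) : q • x = 0 := by
  have aux : ∀ k, q ^ k • x = 0 → q • x = 0 := by
    intro k
    induction k with
    | zero => intro h; rw [pow_zero, one_smul] at h; rw [h, smul_zero]
    | succ k ih =>
      intro h
      rcases Nat.eq_zero_or_pos k with rfl | hk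
      · simpa using h
      refine ih ?_
      obtain ⟨j, rfl⟩ : ∃ j, k = j + 1 := ⟨k - 1, by omega⟩
      have h2 : q • (q • (q ^ j • x)) = 0 := by
        rw [smul_smul, smul_smul, show q * q * q ^ j = q ^ (j + 1 + 1) by ring]
        exact h
      have h3 := hsf q hq _ h2
      rwa [smul_smul, ← pow_succ'] at h3
  exact aux k (by rw [← h]; exact card_nsmul_eq_zero')

theorem exists_basis {X : Type*} [AddCommGroup X] [Finite X] {q : ℕ} [Fact q.Prime]
    (h : ∀ x : X, q • x = 0) : ∃ (_ : Module (ZMod q) X) (n : ℕ),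
      Nat.card X = q ^ n ∧ Nonempty (Module.Basis (Fin n) (ZMod q) X) := by
  letI : Module (ZMod q) X := AddCommGroup.zmodModule (n := q) h
  haveI : Module.Finite (ZMod q) X := Module.Finite.of_finite
  exact ⟨inferInstance, _, by rw [Module.natCard_eq_pow_finrank (K := ZMod q), Nat.card_zmod],
    ⟨Module.finBasis (ZMod q) X⟩⟩

theorem exists_elementary {X : Type*} [AddCommGroup X] [Finite X] {r : ℕ} (hr : r.Prime)
    (h : ∀ x : X, r • x = 0)
    (h3 : Nat.card X ≠ 3) (h4 : Nat.card X ≠ 4) (h8 : Nat.card X ≠ 8) (h9 : Nat.card X ≠ 9)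
    (h16 : Nat.card X ≠ 16) : ∃ T : Finset X, IsRigid T ∧ Admissible T ∧ Sparse T := by
  haveI := Fact.mk hr
  obtain ⟨hmod, n, hn, ⟨b⟩⟩ := exists_basis h
  letI := hmod
  rcases Nat.lt_or_ge (Nat.card X) 3 with hlt | hge
  · have : 4 * (∅ : Finset X).card < Nat.card X := by
      rw [Finset.card_empty, mul_zero]; exact Nat.card_pos
    exact ⟨∅, isRigid_of_card_le (by omega), Or.inl this, Or.inl this⟩
  rcases Nat.lt_or_ge r 3 with h2 | h2
  · have : r = 2 := by have := hr.two_le; omega
    subst this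
    have h5 : 5 ≤ n := by
      by_contra hlt
      interval_cases n <;> omega
    rcases Nat.lt_or_ge n 9 with hn9 | hn9
    · exact Cert.exists_of_le b h5 (by omega)
    · obtain ⟨T, hT, hc⟩ := Graph.exists_rigid b hn9
      exact ⟨T, hT, Or.inl hc, Or.inl hc⟩
  · have : 5 ≤ Nat.card X := by omega
    obtain ⟨T, hT, hc⟩ := exists_rigid_odd r h2 h this h9
    exact ⟨T, hT, Or.inl hc, Or.inl hc⟩

open Classical in
theorem exists_mixed {A Y : Type*} [AddCommGroup A] [AddCommGroup Y] [Finite A] [Finite Y]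
    (h2 : ∀ x : A, 2 • x = 0) (h3 : ∀ x : Y, 3 • x = 0) {n m : ℕ}
    (hA : Nat.card A = 2 ^ n) (hY : Nat.card Y = 3 ^ m) (hn : 1 ≤ n) (hn4 : n ≤ 4) (hm : 1 ≤ m)
    (hm2 : m ≤ 2) : ∃ T : Finset (A × Y), IsRigid T ∧ 4 * T.card < Nat.card (A × Y) := by
  obtain ⟨mA, n', hn', ⟨b⟩⟩ := exists_basis (q := 2) h2
  obtain ⟨mY, m', hm', ⟨e⟩⟩ := exists_basis (q := 3) h3
  letI := mA
  letI := mY
  obtain rfl : n' = n := Nat.pow_right_injective le_rfl (hn'.symm.trans hA)
  obtain rfl : m' = m := Nat.pow_right_injective (by norm_num : 2 ≤ 3) (hm'.symm.trans hY)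
  have hcop : (Nat.card A).Coprime (Nat.card Y) := by
    rw [hA, hY]; exact Nat.Coprime.pow _ _ (by norm_num)
  have hcard : Nat.card (A × Y) = 2 ^ n' * 3 ^ m' := by rw [Nat.card_prod, hA, hY]
  set c := e ⟨0, by omega⟩ with hcdef
  have hc : c ≠ 0 := e.ne_zero _
  have hneg : (2 : ℕ) • c = -c := by
    refine eq_neg_of_add_eq_zero_left ?_
    calc (2 : ℕ) • c + c = 3 • c := by rw [succ_nsmul c 2]
      _ = 0 := h3 c
  have hc3 : c ≠ -c := fun h => hc (eq_zero_of_coprime (n := 2) (m := 3) (by norm_num)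
    (by rw [two_nsmul]; nth_rewrite 2 [h]; exact add_neg_cancel c) (h3 c))
  have hspan : ∀ h : Y →+ Y, (∀ j, h (e j) = e j) → ∀ y, h y = y := fun h hh => by
    have : h.toZModLinearMap 3 = LinearMap.id := e.ext hh
    exact fun y => DFunLike.congr_fun this y
  by_cases hm1 : m' = 1
  · subst hm1
    have hgen : ∀ h : Y →+ Y, h c = c → ∀ y, h y = y := fun h hh => hspan h fun j => by
      rw [show j = ⟨0, by omega⟩ from Fin.ext (by omega)]; exact hh
    by_cases h4 : n' = 4
    · subst h4
      refine ⟨_, rigid_mixed_four hcop b c hc hc3 hgen, ?_⟩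
      rw [hcard]
      exact lt_of_le_of_lt (Nat.mul_le_mul_left 4 Finset.card_le_six) (by norm_num)
    have hn3 : n' ≤ 3 := by omega
    by_cases hn2 : n' ≤ 2
    · refine ⟨_, rigid_mixed_small hcop hn2 b hn c hc hgen, ?_⟩
      refine lt_of_le_of_lt (Nat.mul_le_mul_left 4
        (Finset.card_image_le.trans (Finset.card_fin n').le)) ?_
      rw [hcard]
      interval_cases n' <;> norm_num at *
    let f : Fin n' → Y := fun i => ![0, c, (2 : ℕ) • c] ⟨i, by omega⟩
    refine ⟨_, rigid_mixed hcop b c 0 f hc (fun i j hij => ?_) (fun i => ?_)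
      (fun h hh _ => hgen h hh), ?_⟩
    · have hinj : Function.Injective ![0, c, (2 : ℕ) • c] := by
        intro a b hab
        rw [hneg] at hab
        fin_cases a <;> fin_cases b <;> simp at hab ⊢ <;>
          first | exact hc hab | exact hc hab.symm | exact hc3 hab | exact hc3 hab.symm |
            exact hc (neg_eq_zero.1 hab) | exact hc (neg_eq_zero.1 hab.symm)
      exact Fin.ext (congrArg Fin.val (hinj hij) :)
    · have : (i : ℕ) = 0 ∨ (i : ℕ) = 1 ∨ (i : ℕ) = 2 := by omega
      rcases this with h | h | h <;> simp [f, h]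
    · refine lt_of_le_of_lt (Nat.mul_le_mul_left 4 ((Finset.card_union_le _ _).trans
        (Nat.add_le_add (Finset.card_singleton _).le
          (Finset.card_image_le.trans (Finset.card_fin n').le)))) ?_
      rw [hcard]
      interval_cases n' <;> norm_num at *
  · obtain rfl : m' = 2 := by omega
    set d := e ⟨1, by omega⟩ with hddef
    have hd : ∀ k : ℕ, d ≠ k • c := fun k h => by
      have h2 := congrArg (fun v => e.repr v ⟨1, by omega⟩) h
      simp [hcdef, hddef] at h2
    let F : Fin 4 → Y := ![d, 0, c, (2 : ℕ) • c]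
    have hF : Function.Injective F := by
      intro a b hab
      have d0 := hd 0
      have d1 := hd 1
      have d2 := hd 2
      rw [zero_smul] at d0
      rw [one_smul] at d1
      rw [hneg] at d2
      simp only [F, hneg] at hab
      fin_cases a <;> fin_cases b <;> simp at hab ⊢ <;>
        first | exact hc hab | exact hc hab.symm | exact hc3 hab | exact hc3 hab.symm |
          exact d0 hab | exact d0 hab.symm | exact d1 hab | exact d1 hab.symm |
          exact d2 hab | exact d2 hab.symm |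
          exact hc (neg_eq_zero.1 hab) | exact hc (neg_eq_zero.1 hab.symm)
    let f : Fin n' → Y := fun i => F (Fin.castLE hn4 i)
    refine ⟨_, rigid_mixed hcop b c d f hc (hF.comp (Fin.castLE_injective hn4)) (fun i => ?_)
      (fun h hh hf => hspan h fun j => ?_), ?_⟩
    · show F _ = 0 ∨ F _ = c ∨ F _ = (2 : ℕ) • c ∨ F _ = d
      generalize Fin.castLE hn4 i = k
      fin_cases k <;> simp [F]
    · fin_cases j
      · exact hh
      · have := hf ⟨0, hn⟩
        simpa [f, F, hddef] using this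
    · refine lt_of_le_of_lt (Nat.mul_le_mul_left 4 ((Finset.card_union_le _ _).trans
        (Nat.add_le_add (Finset.card_singleton _).le
          (Finset.card_image_le.trans (Finset.card_fin n').le)))) ?_
      rw [hcard]
      interval_cases n' <;> norm_num at *

theorem exists_prod_split {X : Type u} [AddCommGroup X] [Finite X] (hsf : SqFree X) {r : ℕ}
    (hr : r.Prime) : ∃ (A Y : AddSubgroup X), (∀ a : A, r • a = 0) ∧
      (r ∣ Nat.card X → 2 ≤ Nat.card A) ∧
      (Nat.card A).Coprime (Nat.card Y) ∧ Nonempty (A × Y ≃+ X) := by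
  haveI := Fact.mk hr
  set φ := DistribMulAction.toAddMonoidHom X r
  have hdis : ∀ x, x ∈ φ.ker → x ∈ φ.range → x = 0 := by
    rintro _ hx ⟨z, rfl⟩
    exact hsf r hr z hx
  refine ⟨φ.ker, φ.range, fun a => Subtype.ext a.2, fun hdvd => ?_, ?_, ?_⟩
  · obtain ⟨x, hx⟩ := exists_prime_addOrderOf_dvd_card' r hdvd
    by_contra hlt
    haveI : Subsingleton φ.ker := Finite.card_le_one_iff_subsingleton.1 (by omega)
    have h1 : x ∈ φ.ker := show r • x = 0 from hx ▸ addOrderOf_nsmul_eq_zero x
    have : x = 0 := congrArg Subtype.val (Subsingleton.elim (⟨x, h1⟩ : φ.ker) 0)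
    rw [this, addOrderOf_zero] at hx
    exact hr.one_lt.ne hx
  · obtain ⟨k, hk⟩ : ∃ k, Nat.card φ.ker = r ^ k := by
      obtain ⟨_, k, hk, -⟩ := exists_basis (q := r) (X := φ.ker) fun a => Subtype.ext a.2
      exact ⟨k, hk⟩
    rw [hk]
    refine Nat.Coprime.pow_left k ((hr.coprime_iff_not_dvd).2 fun hdvd => ?_)
    obtain ⟨y, hy⟩ := exists_prime_addOrderOf_dvd_card' r hdvd
    have h1 : r • (y : X) = 0 := by
      rw [← AddSubgroup.coe_nsmul, ← hy, addOrderOf_nsmul_eq_zero]; rfl
    have : y = 0 := Subtype.ext (hdis _ h1 y.2)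
    rw [this, addOrderOf_zero] at hy
    exact hr.one_lt.ne hy
  · let f : φ.ker × φ.range →+ X := φ.ker.subtype.coprod φ.range.subtype
    have hf : Function.Injective f := by
      refine (injective_iff_map_eq_zero f).2 fun p hp => ?_
      have h0 : (p.1 : X) + p.2 = 0 := hp
      have h1 : (p.1 : X) = 0 := hdis _ p.1.2 (by
        rw [eq_neg_of_add_eq_zero_left h0]; exact neg_mem p.2.2)
      rw [h1, zero_add] at h0
      exact Prod.ext (Subtype.ext h1) (Subtype.ext h0)
    refine ⟨AddEquiv.ofBijective f ((Nat.bijective_iff_injective_and_card f).2 ⟨hf, ?_⟩)⟩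
    rw [Nat.card_prod, ← AddSubgroup.card_mul_index φ.ker, AddSubgroup.index_ker]

/-- The exceptional orders of factors. -/
def IsSmall (a : ℕ) : Prop := a = 2 ∨ a = 3 ∨ a = 4 ∨ a = 8 ∨ a = 9 ∨ a = 16

theorem sparse_extend {a s m y : ℕ} (hs : 4 * s < a ∨ a = 32 ∧ s ≤ 13) (ha5 : 5 ≤ a) (hm : m + 1 ≤ y)
    (hcop : a.Coprime y) (hy : 2 ≤ y) : 4 * (s + m) < a * y := by
  rcases hs with h | ⟨rfl, h⟩
  · obtain ⟨t, rfl⟩ : ∃ t, y = t + 1 := ⟨y - 1, by omega⟩
    nlinarith
  · have : y ≠ 2 := fun e => by rw [e] at hcop; norm_num at hcop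
    omega

theorem sparse_union {a s b y : ℕ} (hs : 4 * s < a ∨ a = 32 ∧ s ≤ 13)
    (ht : 4 * b < y ∨ y = 32 ∧ b ≤ 13) (ha5 : 5 ≤ a) (hy5 : 5 ≤ y) : 4 * (s + b) < a * y := by
  rcases hs with h | ⟨rfl, h⟩ <;> rcases ht with h' | ⟨rfl, h'⟩
  · nlinarith
  all_goals omega

/-- A finite abelian group of squarefree exponent has a sparse rigid subset, unless its order is
`3`, `4`, `8`, `9` or `16`. -/
theorem exists_rigid {X : Type u} [AddCommGroup X] [Finite X] (hsf : SqFree X)
    (h3 : Nat.card X ≠ 3) (h4 : Nat.card X ≠ 4) (h8 : Nat.card X ≠ 8) (h9 : Nat.card X ≠ 9)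
    (h16 : Nat.card X ≠ 16) : ∃ T : Finset X, IsRigid T ∧ Admissible T ∧ Sparse T := by
  induction hN : Nat.card X using Nat.strong_induction_on generalizing X with
  | _ N ih =>
  subst hN
  classical
  rcases Nat.lt_or_ge (Nat.card X) 3 with hlt | hge
  · have : 4 * (∅ : Finset X).card < Nat.card X := by
      rw [Finset.card_empty, mul_zero]; exact Nat.card_pos
    exact ⟨∅, isRigid_of_card_le (by omega), Or.inl this, Or.inl this⟩
  obtain ⟨r, hr, hrX⟩ := Nat.exists_prime_and_dvd (show Nat.card X ≠ 1 by omega)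
  haveI := Fact.mk hr
  obtain ⟨A, Y, hA, hrA, hcop, ⟨e⟩⟩ := exists_prod_split hsf hr
  have hcard : Nat.card X = Nat.card A * Nat.card Y := by
    rw [← Nat.card_congr e.toEquiv, Nat.card_prod]
  have hA2 : 2 ≤ Nat.card A := hrA hrX
  rcases Nat.lt_or_ge (Nat.card Y) 2 with hY1 | hY2
  · refine exists_elementary hr (fun x => ?_) h3 h4 h8 h9 h16
    obtain ⟨⟨a, y⟩, rfl⟩ := e.surjective x
    haveI : Subsingleton Y := Finite.card_le_one_iff_subsingleton.1 (by omega)
    rw [← map_nsmul, Prod.smul_mk, hA, Subsingleton.elim (r • y) 0, Prod.mk_zero_zero, map_zero]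
  have hsub : ∀ B : AddSubgroup X, SqFree B := fun B q hq x h =>
    Subtype.ext (hsf q hq (x : X) (congrArg Subtype.val h))
  have hAlt : Nat.card A < Nat.card X := by rw [hcard]; nlinarith
  have hYlt : Nat.card Y < Nat.card X := by rw [hcard]; nlinarith
  suffices h : ∃ T : Finset (A × Y), IsRigid T ∧ 4 * T.card < Nat.card (A × Y) by
    obtain ⟨T, hT, hc⟩ := h
    have hc' : 4 * (T.map e.toEquiv.toEmbedding).card < Nat.card X := by
      rw [Finset.card_map, ← Nat.card_congr e.toEquiv]; exact hc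
    exact ⟨_, isRigid_map e hT, Or.inl hc', Or.inl hc'⟩
  have good : ∀ B : AddSubgroup X, Nat.card B < Nat.card X → 2 ≤ Nat.card B →
      ¬ IsSmall (Nat.card B) → 5 ≤ Nat.card B ∧ ∃ T : Finset B, IsRigid T ∧ Sparse T := by
    intro B hB hB2 hns
    unfold IsSmall at hns
    obtain ⟨T, hT, -, hc⟩ := ih _ hB (hsub B) (by omega) (by omega) (by omega) (by omega) (by omega) rfl
    exact ⟨by omega, T, hT, hc⟩
  have small : ∀ B : AddSubgroup X, IsSmall (Nat.card B) → ∃ q k : ℕ, q.Prime ∧
      Nat.card B = q ^ k ∧ 1 ≤ k ∧ k ≤ 4 ∧ (q = 2 ∨ q = 3 ∧ k ≤ 2) ∧ ∀ x : B, q • x = 0 := by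
    intro B hB
    obtain ⟨q, k, hq, hk, h1, h2, h3⟩ : ∃ q k : ℕ, q.Prime ∧ Nat.card B = q ^ k ∧ 1 ≤ k ∧ k ≤ 4 ∧
        (q = 2 ∨ q = 3 ∧ k ≤ 2) := by
      rcases hB with h | h | h | h | h | h
      · exact ⟨2, 1, Nat.prime_two, h, by norm_num⟩
      · exact ⟨3, 1, Nat.prime_three, h, by norm_num⟩
      · exact ⟨2, 2, Nat.prime_two, h, by norm_num⟩
      · exact ⟨2, 3, Nat.prime_two, h, by norm_num⟩
      · exact ⟨3, 2, Nat.prime_three, h, by norm_num⟩
      · exact ⟨2, 4, Nat.prime_two, h, by norm_num⟩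
    exact ⟨q, k, hq, hk, h1, h2, h3, elementary_of_card (hsub B) hq hk⟩
  have ext : ∀ B C : AddSubgroup X, (Nat.card B).Coprime (Nat.card C) → 5 ≤ Nat.card B →
      (∃ T : Finset B, IsRigid T ∧ Sparse T) → IsSmall (Nat.card C) →
      ∃ T : Finset (B × C), IsRigid T ∧ 4 * T.card < Nat.card (B × C) := by
    rintro B C hco h5 ⟨S, hS, hc⟩ hC
    obtain ⟨q, k, hq, hk, hk1, hk4, -, hel⟩ := small C hC
    haveI := Fact.mk hq
    obtain ⟨hmod, m, hm, ⟨b⟩⟩ := exists_basis hel
    letI := hmod
    obtain rfl : m = k := Nat.pow_right_injective hq.two_le (hm.symm.trans hk)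
    haveI : Fintype B := Fintype.ofFinite B
    obtain ⟨α⟩ : Nonempty (Fin m ↪ B) := Function.Embedding.nonempty_of_card_le (by
      rw [Fintype.card_fin, ← Nat.card_eq_fintype_card]; omega)
    refine ⟨_, rigid_extend hco hS b (fun j => b.ne_zero j) α, ?_⟩
    refine lt_of_le_of_lt (Nat.mul_le_mul_left 4 ((Finset.card_union_le _ _).trans
      (Nat.add_le_add Finset.card_image_le
        (Finset.card_image_le.trans (Finset.card_fin m).le)))) ?_
    rw [Nat.card_prod]
    have : m + 1 ≤ Nat.card C := by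
      rw [hm]; exact Nat.succ_le_of_lt (Nat.lt_pow_self hq.one_lt)
    exact sparse_extend hc h5 this hco (by omega)
  have comm : ∀ {B C : AddSubgroup X}, (∃ T : Finset (B × C), IsRigid T ∧
      4 * T.card < Nat.card (B × C)) →
      ∃ T : Finset (C × B), IsRigid T ∧ 4 * T.card < Nat.card (C × B) := by
    rintro B C ⟨T, hT, hc⟩
    exact ⟨_, isRigid_map AddEquiv.prodComm hT, by
      rw [Finset.card_map, ← Nat.card_congr (AddEquiv.prodComm (M := B) (N := C)).toEquiv]
      exact hc⟩
  by_cases hAs : IsSmall (Nat.card A) <;> by_cases hYs : IsSmall (Nat.card Y)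
  · obtain ⟨q, k, hq, hk, hk1, hk4, hq23, hel⟩ := small A hAs
    obtain ⟨q', k', hq', hk', hk1', hk4', hq23', hel'⟩ := small Y hYs
    have hne : q ≠ q' := fun h => by
      rw [hk, hk', h] at hcop
      exact hq'.one_lt.ne' (Nat.dvd_one.1 (hcop ▸
        Nat.dvd_gcd (dvd_pow_self q' (by omega)) (dvd_pow_self q' (by omega))))
    rcases hq23 with rfl | ⟨rfl, hk2⟩ <;> rcases hq23' with rfl | ⟨rfl, hk2'⟩
    · exact absurd rfl hne
    · exact exists_mixed hel hel' hk hk' hk1 hk4 hk1' hk2'
    · exact comm (exists_mixed hel' hel hk' hk hk1' hk4' hk1 hk2)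
    · exact absurd rfl hne
  · obtain ⟨h5, hT⟩ := good Y hYlt hY2 hYs
    exact comm (ext Y A hcop.symm h5 hT hAs)
  · obtain ⟨h5, hT⟩ := good A hAlt hA2 hAs
    exact ext A Y hcop h5 hT hYs
  · obtain ⟨h5, S, hS, hsS⟩ := good A hAlt hA2 hAs
    obtain ⟨h5', T, hT, hsT⟩ := good Y hYlt hY2 hYs
    refine ⟨_, rigid_union hcop hS hT, ?_⟩
    refine lt_of_le_of_lt (Nat.mul_le_mul_left 4 ((Finset.card_union_le _ _).trans
      (Nat.add_le_add Finset.card_image_le Finset.card_image_le))) ?_
    rw [Nat.card_prod]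
    exact sparse_union hsS hsT h5 h5'

end CfsgLib.Perm.CoprimeBase
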