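import Cfsg.Agent.Lib.Perm.CoprimeBase.Frame
import Cfsg.Agent.Lib.Perm.CoprimeBase.RigidMain

/-!
# Stabilizers of vectors adapted to a frame
-/

namespace CfsgLib.Perm.CoprimeBase

universe u

open CfsgLib.Perm.OddBase
open scoped commutatorElement

namespace Frame

variable {G V : Type u} [Group G] [AddCommGroup V] [DistribMulAction G V] (fr : Frame G V)

attribute [local instance] Frame.hUn Frame.hMn

theorem scal {a b : fr.F} {x : V} (hx : x ≠ 0) (h : a • x = b • x) : a = b :=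
  sub_eq_zero.1 ((smul_eq_zero.1 (show (a - b) • x = 0 by rw [sub_smul, h, sub_self])).resolve_right hx)

theorem smul_ne {g : G} {x : V} (hx : x ≠ 0) : g • x ≠ 0 := fun h => hx ((smul_eq_zero_iff_eq g).1 h)

theorem hUL : fr.U ≤ fr.L := fun u hu => (fr.hL u).2 ⟨fr.hUM hu, fr.ψ u, fr.hψ u hu fr.v⟩

theorem hLM : fr.L ≤ fr.M := fun _ hl => ((fr.hL _).1 hl).1

theorem hDM : fr.D ≤ fr.M := fun _ hd => ((fr.hD _).1 hd).1

theorem hUD : fr.U ≤ fr.D := fr.hUL.trans fr.hLD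

theorem ψ_ne {u : G} (hu : u ∈ fr.U) : fr.ψ u ≠ 0 := fun e =>
  smul_ne fr.hv (g := u) (by rw [fr.hψ u hu, e, zero_smul])

theorem χ_ne {l : G} (hl : l ∈ fr.L) : fr.χ l ≠ 0 := fun e =>
  smul_ne fr.hv (g := l) (by rw [fr.hχ l hl, e, zero_smul])

/-- The element acts linearly. -/
def IsLin (g : G) : Prop := ∀ (k : fr.F) (x : V), g • k • x = k • g • x

/-- The commutator scalar. -/
def β (a b : G) : fr.F := fr.ψ ⁅a, b⁆

theorem smul_comm' {a b : G} (ha : a ∈ fr.M) (hb : b ∈ fr.M) (x : V) :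
    a • b • x = fr.β a b • b • a • x := by
  rw [β, ← fr.hψ _ (fr.hMcomm a ha b hb), ← mul_smul, ← mul_smul b a x, ← mul_smul,
    commutatorElement_def]
  congr 1
  group

theorem β_eq {a b : G} (ha : a ∈ fr.M) (hb : b ∈ fr.M) {k : fr.F} {x : V} (hx : x ≠ 0)
    (h : a • b • x = k • b • a • x) : fr.β a b = k :=
  fr.scal (smul_ne (smul_ne hx)) ((fr.smul_comm' ha hb x).symm.trans h)

theorem β_ne {a b : G} (ha : a ∈ fr.M) (hb : b ∈ fr.M) : fr.β a b ≠ 0 :=
  fr.ψ_ne (fr.hMcomm a ha b hb)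

theorem β_left {a b c : G} (ha : a ∈ fr.M) (hb : b ∈ fr.M) (hc : c ∈ fr.M) :
    fr.β (a * b) c = fr.β a c * fr.β b c := by
  refine fr.β_eq (fr.M.mul_mem ha hb) hc fr.hv ?_
  rw [mul_smul, fr.smul_comm' hb hc, fr.hMlin a ha, fr.smul_comm' ha hc, smul_smul, ← mul_smul a b,
    mul_comm (fr.β b c)]

theorem β_right {a b c : G} (ha : a ∈ fr.M) (hb : b ∈ fr.M) (hc : c ∈ fr.M) :
    fr.β a (b * c) = fr.β a b * fr.β a c := by
  refine fr.β_eq ha (fr.M.mul_mem hb hc) fr.hv ?_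
  rw [mul_smul, fr.smul_comm' ha hb, fr.smul_comm' ha hc, fr.hMlin b hb, smul_smul, mul_smul b c]

theorem β_comm {a b : G} (ha : a ∈ fr.M) (hb : b ∈ fr.M) (h : a * b = b * a) : fr.β a b = 1 :=
  fr.β_eq ha hb fr.hv (by rw [one_smul, ← mul_smul, h, mul_smul])

theorem comm_of_β {a b : G} (ha : a ∈ fr.M) (hb : b ∈ fr.M) (h : fr.β a b = 1) : a * b = b * a := by
  refine commutatorElement_eq_one_iff_mul_comm.1
    (fr.hfree _ (fr.hMcomm a ha b hb) fr.v fr.hv ?_)
  rw [fr.hψ _ (fr.hMcomm a ha b hb)]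
  show fr.β a b • fr.v = fr.v
  rw [h, one_smul]

theorem β_LD {l d : G} (hl : l ∈ fr.L) (hd : d ∈ fr.D) : fr.β l d = 1 :=
  fr.β_comm (fr.hLM hl) (fr.hDM hd) (((fr.hD d).1 hd).2 l hl)

theorem β_swap {a b : G} (ha : a ∈ fr.M) (hb : b ∈ fr.M) : fr.β b a = (fr.β a b)⁻¹ := by
  refine fr.β_eq hb ha fr.hv ?_
  rw [fr.smul_comm' ha hb, inv_smul_smul₀ (fr.β_ne ha hb)]

theorem β_inv {a b : G} (ha : a ∈ fr.M) (hb : b ∈ fr.M) : fr.β a b⁻¹ = (fr.β a b)⁻¹ := by
  refine eq_inv_of_mul_eq_one_left ?_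
  rw [← fr.β_right ha (fr.M.inv_mem hb) hb, inv_mul_cancel]
  exact fr.β_comm ha fr.M.one_mem (by simp)

/-- `D` is normal in `M`. -/
instance normal_D : (fr.D.subgroupOf fr.M).Normal := ⟨fun d hd m => by
  rw [Subgroup.mem_subgroupOf] at hd ⊢
  have e : ((m * d * m⁻¹ : fr.M) : G) = ⁅(m : G), (d : G)⁆ * d := by
    push_cast
    rw [commutatorElement_def]
    group
  rw [e]
  exact fr.D.mul_mem (fr.hUD (fr.hMcomm _ m.2 _ d.2)) hd⟩

/-- The index set of eigenspaces. -/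
def X : Type u := Additive (↥fr.M ⧸ fr.D.subgroupOf fr.M)

instance commGroupQuot : CommGroup (↥fr.M ⧸ fr.D.subgroupOf fr.M) :=
  { (inferInstance : Group (↥fr.M ⧸ fr.D.subgroupOf fr.M)) with
    mul_comm := fun a b => by
      induction a using QuotientGroup.induction_on with
      | _ a =>
      induction b using QuotientGroup.induction_on with
      | _ b =>
      rw [← QuotientGroup.mk_mul, ← QuotientGroup.mk_mul, QuotientGroup.eq, Subgroup.mem_subgroupOf]
      have e : (((a * b)⁻¹ * (b * a) : fr.M) : G) = ⁅(b : G)⁻¹, (a : G)⁻¹⁆ := by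
        push_cast
        rw [commutatorElement_def]; group
      rw [e]
      exact fr.hUD (fr.hMcomm _ (inv_mem b.2) _ (inv_mem a.2)) }

instance : AddCommGroup fr.X := inferInstanceAs (AddCommGroup (Additive _))

instance [Finite G] : Finite fr.X :=
  inferInstanceAs (Finite (↥fr.M ⧸ fr.D.subgroupOf fr.M))

/-- The class of an element of `M`. -/
def cl (m : fr.M) : fr.X := Additive.ofMul (QuotientGroup.mk m)

theorem cl_mul (a b : fr.M) : fr.cl (a * b) = fr.cl a + fr.cl b := rfl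

theorem cl_one : fr.cl 1 = 0 := rfl

theorem cl_surj (x : fr.X) : ∃ m, fr.cl m = x := QuotientGroup.mk_surjective (Additive.toMul x)

theorem cl_eq (a b : fr.M) : fr.cl a = fr.cl b ↔ (a : G)⁻¹ * b ∈ fr.D := by
  show (QuotientGroup.mk a : ↥fr.M ⧸ fr.D.subgroupOf fr.M) = QuotientGroup.mk b ↔ _
  rw [QuotientGroup.eq, Subgroup.mem_subgroupOf, Subgroup.coe_mul, InvMemClass.coe_inv]

theorem cl_eq_zero (a : fr.M) : fr.cl a = 0 ↔ (a : G) ∈ fr.D := by
  rw [← fr.cl_one, eq_comm, fr.cl_eq]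
  simp

theorem cl_pow (a : fr.M) (n : ℕ) : fr.cl (a ^ n) = n • fr.cl a := rfl

/-- The section. -/
noncomputable def sec (x : fr.X) : fr.M := (fr.cl_surj x).choose

theorem cl_sec (x : fr.X) : fr.cl (fr.sec x) = x := (fr.cl_surj x).choose_spec

theorem β_cl {l : G} (hl : l ∈ fr.L) {a b : fr.M} (h : fr.cl a = fr.cl b) :
    fr.β l a = fr.β l b := by
  have e : (b : G) = a * ((a : G)⁻¹ * b) := by rw [mul_inv_cancel_left]
  have hd := (fr.cl_eq a b).1 h
  rw [e, fr.β_right (fr.hLM hl) a.2 (fr.hDM hd), fr.β_LD hl hd, mul_one]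

theorem separates {x y : fr.X} (h : x ≠ y) :
    ∃ l ∈ fr.L, fr.β l (fr.sec x) ≠ fr.β l (fr.sec y) := by
  by_contra hall
  push Not at hall
  refine h ?_
  rw [← fr.cl_sec x, ← fr.cl_sec y, fr.cl_eq]
  refine (fr.hD _).2 ⟨fr.M.mul_mem (fr.M.inv_mem (fr.sec x).2) (fr.sec y).2, fun l hl => ?_⟩
  refine fr.comm_of_β (fr.hLM hl) (fr.M.mul_mem (fr.M.inv_mem (fr.sec x).2) (fr.sec y).2) ?_
  rw [fr.β_right (fr.hLM hl) (fr.M.inv_mem (fr.sec x).2) (fr.sec y).2,
    fr.β_inv (fr.hLM hl) (fr.sec x).2, hall l hl,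
    inv_mul_cancel₀ (fr.β_ne (fr.hLM hl) (fr.sec y).2)]

/-- The eigenvectors of `L` for the character of `v`. -/
def Ev (w : V) : Prop := ∀ l ∈ fr.L, l • w = fr.χ l • w

theorem ev_v : fr.Ev fr.v := fr.hχ

theorem ev_zero : fr.Ev 0 := fun l _ => by rw [smul_zero, smul_zero]

theorem ev_smul {k : fr.F} {w : V} (h : fr.Ev w) : fr.Ev (k • w) := fun l hl => by
  rw [fr.hMlin l (fr.hLM hl), h l hl, smul_comm]

theorem ev_add {a b : V} (ha : fr.Ev a) (hb : fr.Ev b) : fr.Ev (a + b) := fun l hl => by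
  rw [smul_add l, ha l hl, hb l hl, smul_add (fr.χ l)]

theorem ev_D {d : G} (hd : d ∈ fr.D) {w : V} (h : fr.Ev w) : fr.Ev (d • w) := fun l hl => by
  rw [smul_smul, ((fr.hD d).1 hd).2 l hl, mul_smul, h l hl, fr.hMlin d (fr.hDM hd)]

theorem eig {m : G} (hm : m ∈ fr.M) {w : V} (hw : fr.Ev w) {l : G} (hl : l ∈ fr.L) :
    l • m • w = (fr.β l m * fr.χ l) • m • w := by
  rw [fr.smul_comm' (fr.hLM hl) hm, hw l hl, fr.hMlin m hm, smul_smul]

theorem scalar_of_ev {m : G} (hm : m ∈ fr.M) {w : V} (hw : w ≠ 0) (hev : fr.Ev w) {k : fr.F}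
    (h : m • w = k • w) : m ∈ fr.L := fr.hmax w hw hev m hm k h

section Sum

variable [Finite G]

/-- Components in distinct eigenspaces are independent. -/
theorem indep (s : fr.X → fr.M) (hs : ∀ x, fr.cl (s x) = x) [Fintype fr.X] (u : fr.X → V)
    (hu : ∀ x, fr.Ev (u x)) (h : ∑ x, (s x : G) • u x = 0) : ∀ x, u x = 0 := by
  classical
  suffices key : ∀ (S : Finset fr.X) (F : fr.X → V),
      (∀ x, ∀ l ∈ fr.L, l • F x = (fr.β l (s x) * fr.χ l) • F x) →
      ∑ x ∈ S, F x = 0 → ∀ x ∈ S, F x = 0 by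
    intro x
    have := key Finset.univ (fun x => (s x : G) • u x)
      (fun x l hl => fr.eig (s x).2 (hu x) hl) h x (Finset.mem_univ x)
    exact (smul_eq_zero_iff_eq _).1 this
  intro S
  induction S using Finset.induction_on with
  | empty => intro F _ _ x hx; simp at hx
  | insert x0 S hx0 ih =>
    intro F hF hsum
    have hS : ∀ x ∈ S, F x = 0 := by
      intro x hx
      obtain ⟨l, hl, hne⟩ := fr.separates (show x ≠ x0 from fun e => hx0 (e ▸ hx))
      rw [fr.β_cl hl ((fr.cl_sec x).trans (hs x).symm),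
        fr.β_cl hl ((fr.cl_sec x0).trans (hs x0).symm)] at hne
      let F' : fr.X → V := fun y => (fr.χ l * (fr.β l (s y) - fr.β l (s x0))) • F y
      have hF' : ∀ y, ∀ k ∈ fr.L, k • F' y = (fr.β k (s y) * fr.χ k) • F' y := fun y k hk => by
        simp only [F']
        rw [fr.hMlin k (fr.hLM hk), hF y k hk, smul_comm]
      have hsum' : ∑ y ∈ S, F' y = 0 := by
        have h1 : ∑ y ∈ insert x0 S, F' y = 0 := by
          have : ∀ y, F' y = l • F y - (fr.β l (s x0) * fr.χ l) • F y := fun y => by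
            rw [hF y l hl, ← sub_smul]
            simp only [F']
            congr 1
            ring
          rw [Finset.sum_congr rfl fun y _ => this y, Finset.sum_sub_distrib,
            ← Finset.smul_sum, ← Finset.smul_sum, hsum, smul_zero, smul_zero, sub_zero]
        rw [Finset.sum_insert hx0] at h1
        have : F' x0 = 0 := by
          simp only [F']
          rw [sub_self, mul_zero, zero_smul]
        rwa [this, zero_add] at h1
      have := ih F' hF' hsum' x hx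
      exact (smul_eq_zero.1 this).resolve_left (mul_ne_zero (fr.χ_ne hl) (sub_ne_zero.2 hne))
    intro x hx
    rcases Finset.mem_insert.1 hx with rfl | hx
    · rw [Finset.sum_insert hx0, Finset.sum_eq_zero hS, add_zero] at hsum
      exact hsum
    · exact hS x hx

end Sum

section Stab

variable {g : G} (hg : g • fr.v = fr.v)

include hg

theorem g_inv : g⁻¹ • fr.v = fr.v := by rw [inv_smul_eq_iff, hg]

theorem L_conj_mem {l : G} (hl : l ∈ fr.L) : g * l * g⁻¹ ∈ fr.L :=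
  (fr.hL _).2 ⟨fr.hMn.conj_mem l (fr.hLM hl) g, fr.cj g (fr.χ l), by
    rw [mul_smul, mul_smul, fr.g_inv hg, fr.hχ l hl, fr.hcj, hg]⟩

theorem χ_conj {l : G} (hl : l ∈ fr.L) : fr.χ (g * l * g⁻¹) = fr.cj g (fr.χ l) := by
  refine fr.scal fr.hv ?_
  rw [← fr.hχ _ (fr.L_conj_mem hg hl), mul_smul, mul_smul, fr.g_inv hg, fr.hχ l hl, fr.hcj, hg]

theorem D_conj_mem {d : G} (hd : d ∈ fr.D) : g * d * g⁻¹ ∈ fr.D := by
  refine (fr.hD _).2 ⟨fr.hMn.conj_mem d (fr.hDM hd) g, fun l hl => ?_⟩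
  have h := ((fr.hD d).1 hd).2 _ (fr.L_conj_mem (fr.g_inv hg) hl)
  calc l * (g * d * g⁻¹) = g * ((g⁻¹ * l * g⁻¹⁻¹) * d) * g⁻¹ := by group
    _ = g * (d * (g⁻¹ * l * g⁻¹⁻¹)) * g⁻¹ := by rw [h]
    _ = g * d * g⁻¹ * l := by group

theorem ev_g {w : V} (hw : fr.Ev w) : fr.Ev (g • w) := fun l hl => by
  have hl' := fr.L_conj_mem (fr.g_inv hg) hl
  have h := congrArg (g • ·) (hw _ hl')
  simp only [fr.hcj] at h
  rw [← fr.χ_conj hg hl', show g * (g⁻¹ * l * g⁻¹⁻¹) * g⁻¹ = l by group, smul_smul,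
    show g * (g⁻¹ * l * g⁻¹⁻¹) = l * g by group, mul_smul] at h
  exact h

/-- The automorphism of the index set induced by `g`. -/
noncomputable def A : fr.X →+ fr.X :=
  MonoidHom.toAdditive (QuotientGroup.map (fr.D.subgroupOf fr.M) (fr.D.subgroupOf fr.M)
    (MulAut.conjNormal g : MulAut fr.M).toMonoidHom (fun d hd => by
      rw [Subgroup.mem_subgroupOf] at hd
      show ((MulAut.conjNormal g d : fr.M) : G) ∈ fr.D
      rw [MulAut.conjNormal_apply]
      exact fr.D_conj_mem hg hd))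

theorem A_cl (m : fr.M) : fr.A hg (fr.cl m) = fr.cl (MulAut.conjNormal g m) := rfl

theorem A_inj : Function.Injective (fr.A hg) := by
  refine (injective_iff_map_eq_zero _).2 fun x hx => ?_
  obtain ⟨m, rfl⟩ := fr.cl_surj x
  rw [fr.A_cl, fr.cl_eq_zero, MulAut.conjNormal_apply] at hx
  rw [fr.cl_eq_zero]
  have := fr.D_conj_mem (fr.g_inv hg) hx
  rwa [show g⁻¹ * (g * (m : G) * g⁻¹) * g⁻¹⁻¹ = m by group] at this

/-- Comparison of components. -/
theorem compare [Finite G] [Fintype fr.X] (s : fr.X → fr.M) (hs : ∀ x, fr.cl (s x) = x)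
    (u : fr.X → V) (hu : ∀ x, fr.Ev (u x))
    (hw : g • ∑ x, (s x : G) • u x = ∑ x, (s x : G) • u x) (x : fr.X) :
    (s (fr.A hg x) : G)⁻¹ * (g * (s x : G) * g⁻¹) ∈ fr.D ∧
      ((s (fr.A hg x) : G)⁻¹ * (g * (s x : G) * g⁻¹)) • g • u x = u (fr.A hg x) := by
  classical
  set δ : fr.X → G := fun x => (s (fr.A hg x) : G)⁻¹ * (g * (s x : G) * g⁻¹) with hδdef
  have hδ : ∀ x, δ x ∈ fr.D := fun x => by
    have h1 : fr.cl (s (fr.A hg x)) = fr.cl (MulAut.conjNormal g (s x)) := by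
      rw [hs, ← fr.A_cl hg, hs]
    have h2 := (fr.cl_eq _ _).1 h1
    rwa [MulAut.conjNormal_apply] at h2
  refine ⟨hδ x, ?_⟩
  let e := Equiv.ofBijective _ (Finite.injective_iff_bijective.1 (fr.A_inj hg))
  let u' : fr.X → V := fun y => δ (e.symm y) • g • u (e.symm y) - u y
  have hu' : ∀ y, fr.Ev (u' y) := fun y l hl => by
    simp only [u']
    rw [smul_sub l, (fr.ev_D (hδ _) (fr.ev_g hg (hu _))) l hl, hu y l hl, smul_sub (fr.χ l)]
  have hsum : ∑ y, (s y : G) • u' y = 0 := by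
    simp only [u', smul_sub, Finset.sum_sub_distrib]
    have e1 : ∑ y, (s y : G) • δ (e.symm y) • g • u (e.symm y) = g • ∑ x, (s x : G) • u x := by
      rw [Finset.smul_sum, ← Equiv.sum_comp e]
      refine Finset.sum_congr rfl fun x _ => ?_
      rw [Equiv.symm_apply_apply]
      show (s (fr.A hg x) : G) • δ x • g • u x = g • (s x : G) • u x
      rw [hδdef, smul_smul, smul_smul, smul_smul]
      congr 1
      group
    rw [e1, hw, sub_self]
  have := fr.indep s hs u' hu' hsum (fr.A hg x)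
  simp only [u'] at this
  rw [show e.symm (fr.A hg x) = x from e.symm_apply_apply x] at this
  exact sub_eq_zero.1 this

end Stab

section Linear

theorem cj_eq (g : G) (k : fr.F) (c : fr.F) (h : g • k • fr.v = c • g • fr.v) : fr.cj g k = c :=
  fr.scal (smul_ne fr.hv) ((fr.hcj g k fr.v).symm.trans h)

/-- The field automorphism attached to an element. -/
def σ (g : G) : fr.F →+* fr.F where
  toFun := fr.cj g
  map_one' := fr.cj_eq g 1 1 (by rw [one_smul, one_smul])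
  map_mul' a b := fr.cj_eq g _ _ (by rw [mul_smul, fr.hcj, fr.hcj, smul_smul])
  map_zero' := fr.cj_eq g 0 0 (by rw [zero_smul, zero_smul, smul_zero])
  map_add' a b := fr.cj_eq g _ _ (by rw [add_smul, smul_add, fr.hcj, fr.hcj, add_smul])

theorem charP [Nontrivial V] {p : ℕ} [hp : Fact p.Prime] (hV : ∀ x : V, p • x = 0) :
    CharP fr.F p := by
  have h0 : (p : fr.F) = 0 := by
    refine (smul_eq_zero.1 (show (p : fr.F) • fr.v = 0 from ?_)).resolve_right fr.hv
    rw [Nat.cast_smul_eq_nsmul]; exact hV _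
  obtain ⟨q, hq⟩ := CharP.exists fr.F
  rcases (Nat.dvd_prime hp.out).1 ((CharP.cast_eq_zero_iff fr.F q p).1 h0) with rfl | rfl
  · exact absurd rfl (CharP.char_ne_one fr.F 1)
  · exact hq

/-- Few values of `θ` under the field automorphisms. -/
theorem few_conjugates {p : ℕ} [hp : Fact p.Prime] [CharP fr.F p] (h2 : p ≠ 2) :
    ∃ S : Finset fr.F, 2 * S.card + 1 < Fintype.card fr.F ∧
      ∀ g : G, fr.cj g fr.θ ≠ fr.θ → fr.cj g fr.θ ∈ S := by
  classical
  letI : Algebra (ZMod p) fr.F := ZMod.algebra _ p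
  haveI : Fintype (fr.F →ₐ[ZMod p] fr.F) := Fintype.ofFinite _
  let S0 : Finset fr.F := Finset.univ.image fun φ : fr.F →ₐ[ZMod p] fr.F => φ fr.θ
  have hcomm : ∀ (g : G) (r : ZMod p),
      fr.σ g (algebraMap (ZMod p) fr.F r) = algebraMap (ZMod p) fr.F r := fun g r =>
    RingHom.ext_iff.1
      (RingHom.ext_zmod ((fr.σ g).comp (algebraMap (ZMod p) fr.F)) (algebraMap (ZMod p) fr.F)) r
  refine ⟨S0.erase fr.θ, ?_, fun g hg => Finset.mem_erase.2 ⟨hg, Finset.mem_image.2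
    ⟨{ fr.σ g with commutes' := hcomm g },
      Finset.mem_univ _, rfl⟩⟩⟩
  have hθ : fr.θ ∈ S0 := Finset.mem_image.2 ⟨AlgHom.id _ _, Finset.mem_univ _, rfl⟩
  rw [Finset.card_erase_of_mem hθ]
  have h1 : S0.card ≤ Module.finrank (ZMod p) fr.F := Finset.card_image_le.trans (by
    rw [Finset.card_univ, ← Nat.card_eq_fintype_card]
    exact card_algHom_le_finrank (ZMod p) fr.F fr.F)
  have h3 : 3 ≤ p := by have := hp.out.two_le; omega
  have hpos : 1 ≤ S0.card := Finset.card_pos.2 ⟨_, hθ⟩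
  rw [Module.card_eq_pow_finrank (K := ZMod p) (V := fr.F), ZMod.card]
  have hf : ∀ f, 1 ≤ f → 2 * (f - 1) + 1 < p ^ f := by
    intro f hf
    induction f, hf using Nat.le_induction with
    | base => simp; omega
    | succ f hf ih =>
      rw [pow_succ]
      have := Nat.mul_le_mul_left (p ^ f) h3
      omega
  have := hf _ (hpos.trans h1)
  omega

theorem indep_y0 (hy : fr.y0 ∉ fr.L) {a b : fr.F} (h : a • fr.v + b • fr.y0 • fr.v = 0) :
    a = 0 ∧ b = 0 := by
  have hb : b = 0 := by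
    by_contra hb
    refine hy ((fr.hL _).2 ⟨fr.hDM fr.hy0, -(b⁻¹ * a), ?_⟩)
    have h1 : b • fr.y0 • fr.v = -(a • fr.v) := eq_neg_of_add_eq_zero_right h
    calc fr.y0 • fr.v = b⁻¹ • b • fr.y0 • fr.v := (inv_smul_smul₀ hb _).symm
      _ = -(b⁻¹ * a) • fr.v := by rw [h1, smul_neg, smul_smul, neg_smul]
  rw [hb, zero_smul, add_zero] at h
  exact ⟨(smul_eq_zero.1 h).resolve_right fr.hv, hb⟩

/-- A vector which makes the stabilizer linear and trivial on the span of `D`. -/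
theorem exists_w0 [Nontrivial V] {p : ℕ} [Fact p.Prime] (hV : ∀ x : V, p • x = 0) (h2 : p ≠ 2) :
    ∃ w0 : V, fr.Ev w0 ∧ ∀ g : G, g • fr.v = fr.v → g • w0 = w0 →
      fr.IsLin g ∧ g • fr.y0 • fr.v = fr.y0 • fr.v := by
  classical
  rcases fr.hcase with ⟨hDL, hy1⟩ | ⟨hyL, hyU, z, hzD, hzU, hzy, hone, -, -, hgen⟩
  · refine ⟨fr.θ • fr.v, fr.ev_smul fr.ev_v, fun g hg hw => ⟨fr.hθlin g ?_, by rw [hy1, one_smul, hg]⟩⟩
    rw [fr.hcj, hg] at hw
    exact fr.scal fr.hv hw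
  haveI := fr.charP hV
  obtain ⟨S, hS, hSmem⟩ := fr.few_conjugates h2
  obtain ⟨pz, qz, hz⟩ := fr.hspan z hzD
  set a := fr.ψ (fr.y0 ^ 2)
  have hyy : fr.y0 • fr.y0 • fr.v = a • fr.v := by rw [← mul_smul, ← sq, fr.hψ _ hyU]
  let bad : Finset fr.F := (S.image fun t => qz / pz * (fr.θ - t)) ∪
    (S.image fun t => pz / (a * qz) * (fr.θ - t)) ∪ {0}
  have hbad : bad.card < Fintype.card fr.F := by
    refine lt_of_le_of_lt ?_ hS
    refine (Finset.card_union_le _ _).trans (Nat.add_le_add ?_ (Finset.card_singleton _).le)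
    refine (Finset.card_union_le _ _).trans ?_
    rw [two_mul]
    exact Nat.add_le_add Finset.card_image_le Finset.card_image_le
  obtain ⟨b, hb⟩ : ∃ b, b ∉ bad := by
    by_contra hall
    push Not at hall
    rw [Finset.eq_univ_of_forall hall, Finset.card_univ] at hbad
    omega
  simp only [bad, Finset.mem_union, Finset.mem_image, Finset.mem_singleton, not_or, not_exists,
    not_and] at hb
  obtain ⟨⟨hb1, hb2⟩, hb0⟩ := hb
  have hev : fr.Ev (fr.y0 • fr.v) := fr.ev_D fr.hy0 fr.ev_v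
  refine ⟨fr.θ • fr.v + b • fr.y0 • fr.v,
    fr.ev_add (fr.ev_smul fr.ev_v) (fr.ev_smul hev), fun g hg hw => ?_⟩
  have hcgD := fr.D_conj_mem hg fr.hy0
  obtain ⟨P, Q, hPQ⟩ := fr.hspan _ hcgD
  have hgy : g • fr.y0 • fr.v = P • fr.v + Q • fr.y0 • fr.v := by
    rw [← hPQ, mul_smul, mul_smul, fr.g_inv hg]
  rw [smul_add, fr.hcj, fr.hcj, hg, hgy, smul_add, smul_smul, smul_smul] at hw
  have h0 : (fr.cj g fr.θ + fr.cj g b * P - fr.θ) • fr.v +
      (fr.cj g b * Q - b) • fr.y0 • fr.v = 0 := by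
    rw [sub_smul, sub_smul, add_smul]
    rw [← sub_eq_zero] at hw
    rw [← hw]
    abel
  obtain ⟨e1, e2⟩ := fr.indep_y0 hyL h0
  have hQb : fr.cj g b * Q = b := sub_eq_zero.1 e2
  have hQ : Q ≠ 0 := fun e => hb0 (by rw [← hQb, e, mul_zero])
  suffices hθ : fr.cj g fr.θ = fr.θ by
    have hlin := fr.hθlin g hθ
    have hcb : fr.cj g b = b := fr.cj_eq g b b (hlin b fr.v)
    rw [hθ, hcb, add_sub_cancel_left] at e1
    rw [hcb] at hQb
    have hP : P = 0 := (mul_eq_zero.1 e1).resolve_left hb0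
    have hQ1 : Q = 1 := mul_left_cancel₀ hb0 (by rw [hQb, mul_one])
    exact ⟨hlin, by rw [hgy, hP, hQ1, zero_smul, one_smul, zero_add]⟩
  by_contra hne
  have hS' := hSmem g hne
  have key : P * b = Q * (fr.θ - fr.cj g fr.θ) := by
    linear_combination P * hQb.symm + Q * e1
  -- the coset of the conjugate
  obtain ⟨i, j, l, hl, hdec⟩ := hgen _ hcgD
  have hv' : (g * fr.y0 * g⁻¹) • fr.v = fr.χ l •
      ((if i then fr.y0 else 1) • (if j then z else 1) • fr.v) := by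
    rw [hdec, mul_smul, fr.hχ l hl, fr.hMlin _ (fr.M.mul_mem ?_ ?_), mul_smul]
    · cases i
      · exact fr.M.one_mem
      · exact fr.hDM fr.hy0
    · cases j
      · exact fr.M.one_mem
      · exact fr.hDM hzD
  have hcomb : ∀ p' q' : fr.F, (g * fr.y0 * g⁻¹) • fr.v = p' • fr.v + q' • fr.y0 • fr.v →
      P = p' ∧ Q = q' := by
    intro p' q' h
    have h3 : (P - p') • fr.v + (Q - q') • fr.y0 • fr.v = 0 := by
      rw [sub_smul, sub_smul]
      rw [hPQ, ← sub_eq_zero] at h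
      rw [← h]; abel
    obtain ⟨h4, h5⟩ := fr.indep_y0 hyL h3
    exact ⟨sub_eq_zero.1 h4, sub_eq_zero.1 h5⟩
  have hl0 := fr.χ_ne hl
  have hdne : fr.θ - fr.cj g fr.θ ≠ 0 := sub_ne_zero.2 (Ne.symm hne)
  cases i <;> cases j <;> simp only [if_true, if_false, one_smul, Bool.false_eq_true] at hv'
  · obtain ⟨-, hq⟩ := hcomb (fr.χ l) 0 (by rw [hv', zero_smul, add_zero])
    exact hQ hq
  · obtain ⟨hp', hq'⟩ := hcomb (fr.χ l * pz) (fr.χ l * qz) (by rw [hv', hz, smul_add, smul_smul, smul_smul])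
    rw [hp', hq', mul_assoc, mul_assoc] at key
    have key := mul_left_cancel₀ hl0 key
    by_cases hpz : pz = 0
    · rw [hpz, zero_mul] at key
      exact mul_ne_zero (fun e => hQ (by rw [hq', e, mul_zero])) hdne key.symm
    · exact hb1 _ hS' (by rw [div_mul_eq_mul_div, ← key, mul_div_cancel_left₀ _ hpz])
  · obtain ⟨hp', -⟩ := hcomb 0 (fr.χ l) (by rw [hv', zero_smul, zero_add])
    rw [hp', zero_mul] at key
    exact mul_ne_zero hQ hdne key.symm
  · obtain ⟨hp', hq'⟩ := hcomb (fr.χ l * (a * qz)) (fr.χ l * pz) (by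
      rw [hv', hz, smul_add fr.y0, fr.hMlin _ (fr.hDM fr.hy0), fr.hMlin _ (fr.hDM fr.hy0), hyy,
        smul_add, smul_smul, smul_smul, smul_smul, add_comm]
      congr 2
      ring)
    rw [hp', hq', mul_assoc, mul_assoc (fr.χ l) pz] at key
    have key := mul_left_cancel₀ hl0 key
    by_cases haq : a * qz = 0
    · rw [haq, zero_mul] at key
      exact mul_ne_zero (fun e => hQ (by rw [hq', e, mul_zero])) hdne key.symm
    · exact hb2 _ hS' (by rw [div_mul_eq_mul_div, ← key, mul_div_cancel_left₀ _ haq])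

end Linear

section Fix

variable {g : G} (hlin : fr.IsLin g) (hg : g • fr.v = fr.v)
  (hy : g • fr.y0 • fr.v = fr.y0 • fr.v)

include hlin hg hy

theorem fix_D {d : G} (hd : d ∈ fr.D) : g • d • fr.v = d • fr.v := by
  obtain ⟨a, b, h⟩ := fr.hspan d hd
  rw [h, smul_add, hlin, hlin, hg, hy]

/-- The fixed classes: representatives moved only by multiples fixing `v`. -/
theorem fix_mul_D {m d : G} (hm : m ∈ fr.M) (hd : d ∈ fr.D) (h : g • m • fr.v = m • fr.v) :
    g • (m * d) • fr.v = (m * d) • fr.v := by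
  have hδM : m⁻¹ * (g * m * g⁻¹) ∈ fr.M := fr.M.mul_mem (fr.M.inv_mem hm) (fr.hMn.conj_mem m hm g)
  have hδv : (m⁻¹ * (g * m * g⁻¹)) • fr.v = fr.v := by
    rw [mul_smul, mul_smul, mul_smul, fr.g_inv hg, h, inv_smul_smul]
  have hδL : m⁻¹ * (g * m * g⁻¹) ∈ fr.L := (fr.hL _).2 ⟨hδM, 1, by rw [hδv, one_smul]⟩
  have hdv := fr.fix_D hlin hg hy hd
  calc g • (m * d) • fr.v = (g * m * g⁻¹) • g • d • fr.v := by
        rw [← mul_smul, ← mul_smul, ← mul_smul]; congr 1; group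
    _ = m • (m⁻¹ * (g * m * g⁻¹)) • d • fr.v := by
        rw [hdv, smul_smul m, mul_inv_cancel_left]
    _ = m • d • (m⁻¹ * (g * m * g⁻¹)) • fr.v := by
        rw [smul_smul (m⁻¹ * (g * m * g⁻¹)), ((fr.hD d).1 hd).2 _ hδL, mul_smul]
    _ = (m * d) • fr.v := by rw [hδv, mul_smul]

/-- Triviality from many fixed components. -/
theorem kill [Finite G] (T : Finset fr.X) (hT : 4 * T.card < Nat.card fr.X)
    (hfix : ∀ x, x ∉ T → g • (fr.sec x : G) • fr.v = (fr.sec x : G) • fr.v) : g = 1 := by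
  classical
  haveI : Fintype fr.X := Fintype.ofFinite _
  have hfix' : ∀ m : fr.M, fr.cl m ∉ T → g • (m : G) • fr.v = (m : G) • fr.v := by
    intro m hm
    have h := fr.fix_mul_D hlin hg hy (fr.sec (fr.cl m)).2
      ((fr.cl_eq _ m).1 (fr.cl_sec (fr.cl m))) (hfix _ hm)
    rwa [mul_inv_cancel_left] at h
  suffices hcen : ∀ m ∈ fr.M, g * m = m * g from
    fr.hfree g (fr.hlinCM g hlin hcen) fr.v fr.hv hg
  intro m hm
  set k : G := g * m * g⁻¹ * m⁻¹ with hk
  have hkM : k ∈ fr.M := fr.M.mul_mem (fr.hMn.conj_mem m hm g) (fr.M.inv_mem hm)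
  set μ := fr.cl ⟨m, hm⟩
  let S : Finset fr.X := Finset.univ.filter fun x => x ∉ T ∧ x - μ ∉ T
  have hS : Nat.card fr.X < 2 * S.card := by
    have h1 : Sᶜ ⊆ T ∪ T.image (fun x => x + μ) := by
      intro x hx
      simp only [S, Finset.mem_compl, Finset.mem_filter, Finset.mem_univ, true_and, not_and_or,
        not_not] at hx
      rcases hx with hx | hx
      · exact Finset.mem_union_left _ hx
      · exact Finset.mem_union_right _ (Finset.mem_image.2 ⟨_, hx, sub_add_cancel x μ⟩)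
    have h2 := (Finset.card_le_card h1).trans
      ((Finset.card_union_le _ _).trans (Nat.add_le_add_left Finset.card_image_le _))
    rw [Finset.card_compl, ← Nat.card_eq_fintype_card] at h2
    have h3 : S.card ≤ Nat.card fr.X := by
      rw [Nat.card_eq_fintype_card]; exact Finset.card_le_univ _
    omega
  have hkfix : ∀ x ∈ S, k • (fr.sec x : G) • fr.v = (fr.sec x : G) • fr.v := by
    intro x hx
    obtain ⟨-, hx1, hx2⟩ := Finset.mem_filter.1 hx
    let m' : fr.M := (⟨m, hm⟩ : fr.M)⁻¹ * fr.sec x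
    have hm' : fr.cl m' ∉ T := by
      rwa [fr.cl_mul, show fr.cl (⟨m, hm⟩ : fr.M)⁻¹ = -μ from rfl, fr.cl_sec, neg_add_eq_sub]
    have h1 := hfix' m' hm'
    have hs1 := hfix x hx1
    have h1' : g • (m⁻¹ * (fr.sec x : G)) • fr.v = (m⁻¹ * (fr.sec x : G)) • fr.v := h1
    calc k • (fr.sec x : G) • fr.v = g • m • g⁻¹ • (m⁻¹ * (fr.sec x : G)) • fr.v := by
          rw [hk]; simp only [smul_smul]; congr 1; group
      _ = g • m • (m⁻¹ * (fr.sec x : G)) • fr.v := by rw [inv_smul_eq_iff.2 h1'.symm]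
      _ = g • (fr.sec x : G) • fr.v := by rw [smul_smul m, mul_inv_cancel_left]
      _ = (fr.sec x : G) • fr.v := hs1
  obtain ⟨x0, hx0⟩ : S.Nonempty := Finset.card_pos.1 (by omega)
  -- `k` lies in `L`
  set ζ : fr.X → fr.F := fun x => fr.β k (fr.sec x)
  have hkv : ∀ x ∈ S, ζ x • k • fr.v = fr.v := fun x hx => by
    refine MulAction.injective (fr.sec x : G) ?_
    show (fr.sec x : G) • ζ x • k • fr.v = (fr.sec x : G) • fr.v
    rw [fr.hMlin _ (fr.sec x).2, ← fr.smul_comm' hkM (fr.sec x).2, hkfix x hx]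
  have hkL : k ∈ fr.L := (fr.hL k).2 ⟨hkM, (ζ x0)⁻¹, by
    conv_rhs => rw [← hkv x0 hx0]
    rw [inv_smul_smul₀ (fr.β_ne hkM (fr.sec x0).2)]⟩
  have hζ : ∀ x ∈ S, ζ x * fr.χ k = 1 := fun x hx => by
    refine fr.scal fr.hv ?_
    rw [mul_smul, one_smul, ← fr.hχ k hkL, hkv x hx]
  -- the character is trivial
  have hζ1 : ∀ x, ζ x = 1 := by
    intro z
    obtain ⟨a, ha, c, hc, rfl⟩ : ∃ a ∈ S, ∃ c ∈ S, z = a - c := by
      by_contra hall
      push Not at hall
      have hdis : Disjoint S (S.image fun c => c + z) := by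
        rw [Finset.disjoint_left]
        intro a ha hb
        obtain ⟨c, hc, rfl⟩ := Finset.mem_image.1 hb
        exact hall _ ha c hc (add_sub_cancel_left c z).symm
      have h1 := Finset.card_le_univ (S ∪ S.image fun c => c + z)
      rw [Finset.card_union_of_disjoint hdis, Finset.card_image_of_injective _
        (add_left_injective z), ← Nat.card_eq_fintype_card] at h1
      omega
    have hmul : ζ (a - c) * ζ c = ζ a := by
      simp only [ζ]
      rw [← fr.β_right hkM (fr.sec _).2 (fr.sec _).2, ← Subgroup.coe_mul]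
      refine fr.β_cl hkL ?_
      rw [fr.cl_mul, fr.cl_sec, fr.cl_sec, fr.cl_sec, sub_add_cancel]
    have e : ζ a = ζ c := mul_right_cancel₀ (fr.χ_ne hkL) ((hζ a ha).trans (hζ c hc).symm)
    rw [e] at hmul
    exact mul_eq_right₀ (fr.β_ne hkM (fr.sec c).2) |>.1 hmul
  have hkχ : fr.χ k = 1 := by
    have := hζ x0 hx0
    rwa [hζ1, one_mul] at this
  have hkU : k ∈ fr.U := by
    refine fr.hlinCM k (fr.hMlin k hkM) fun n hn => fr.comm_of_β hkM hn ?_
    rw [← fr.β_cl hkL (a := fr.sec (fr.cl ⟨n, hn⟩)) (b := ⟨n, hn⟩) (fr.cl_sec _)]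
    exact hζ1 _
  have hk1 : k = 1 := fr.hfree k hkU fr.v fr.hv (by rw [fr.hχ k hkL, hkχ, one_smul])
  rw [hk, mul_inv_eq_one] at hk1
  calc g * m = g * m * g⁻¹ * g := by group
    _ = m * g := by rw [hk1]

/-- Fixed components spread over cubes. -/
theorem cube {a p q r : fr.M}
    (h : ∀ m ∈ ({a * p, a * q, a * r, a * p * q, a * p * r, a * q * r, a * p * q * r} : Set fr.M),
      g • (m : G) • fr.v = (m : G) • fr.v) :
    g • (a : G) • fr.v = (a : G) • fr.v := by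
  let e : fr.M → G := fun m => (m : G)⁻¹ * (g * m * g⁻¹)
  have heM : ∀ m, e m ∈ fr.M := fun m =>
    fr.M.mul_mem (fr.M.inv_mem m.2) (fr.hMn.conj_mem _ m.2 g)
  have he : ∀ m : fr.M, g • (m : G) • fr.v = (m : G) • e m • fr.v := fun m => by
    rw [smul_smul (m : G), mul_inv_cancel_left, mul_smul, mul_smul, fr.g_inv hg]
  have hev : ∀ m : fr.M, g • (m : G) • fr.v = (m : G) • fr.v → e m • fr.v = fr.v := fun m hm =>
    MulAction.injective (m : G) ((he m).symm.trans hm)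
  have hprod : ∀ (m n : fr.M) (km : fr.F), e m • fr.v = km • fr.v → e m ∈ fr.L →
      ∀ kn : fr.F, e n • fr.v = kn • fr.v →
      e (m * n) • fr.v = (fr.β (e m) n * km * kn) • fr.v := by
    intro m n km hm hmL kn hn
    have h1 : e (m * n) = (n : G)⁻¹ * e m * n * e n := by simp only [e, Subgroup.coe_mul]; group
    rw [h1, mul_smul, hn, fr.hMlin _ (fr.M.mul_mem (fr.M.mul_mem (fr.M.inv_mem n.2) (heM m)) n.2),
      mul_smul, mul_smul, fr.smul_comm' (heM m) n.2, fr.hMlin _ (fr.M.inv_mem n.2), inv_smul_smul,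
      hm, smul_smul, smul_smul]
    congr 1
    ring
  let E : Subgroup fr.M :=
    { carrier := {m | e m ∈ fr.L}
      one_mem' := by simp [e, fr.L.one_mem]
      mul_mem' := fun {m n} hm hn => (fr.hL _).2 ⟨heM _, _,
        hprod m n _ (fr.hχ _ hm) hm _ (fr.hχ _ hn)⟩
      inv_mem' := fun {m} hm => by
        show e m⁻¹ ∈ fr.L
        have h1 : e m⁻¹ = (m : G) * (e m)⁻¹ * (m : G)⁻¹ := by simp only [e, InvMemClass.coe_inv]; group
        have hL1 : (e m)⁻¹ ∈ fr.L := fr.L.inv_mem hm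
        rw [h1, show (m : G) * (e m)⁻¹ * (m : G)⁻¹ = ⁅(m : G), (e m)⁻¹⁆ * (e m)⁻¹ by
          rw [commutatorElement_def]; group]
        exact fr.L.mul_mem (fr.hUL (fr.hMcomm _ m.2 _ (fr.hLM hL1))) hL1 }
  let Λ : fr.M → fr.F := fun m => fr.χ (e m)
  have hΛ : ∀ m n : fr.M, m ∈ E → n ∈ E → Λ (m * n) = fr.β (e m) n * Λ m * Λ n := fun m n hm hn =>
    fr.scal fr.hv ((fr.hχ _ (E.mul_mem hm hn)).symm.trans
      (hprod m n _ (fr.hχ _ hm) hm _ (fr.hχ _ hn)))
  have hfixE : ∀ m : fr.M, g • (m : G) • fr.v = (m : G) • fr.v → m ∈ E ∧ Λ m = 1 := fun m hm => by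
    have hL1 : e m ∈ fr.L := (fr.hL _).2 ⟨heM m, 1, by rw [hev m hm, one_smul]⟩
    exact ⟨hL1, fr.scal fr.hv (by
      show fr.χ (e m) • fr.v = _
      rw [← fr.hχ _ hL1, hev m hm, one_smul])⟩
  obtain ⟨hap, lap⟩ := hfixE _ (h (a * p) (by simp))
  obtain ⟨haq, laq⟩ := hfixE _ (h (a * q) (by simp))
  obtain ⟨har, lar⟩ := hfixE _ (h (a * r) (by simp))
  obtain ⟨hapq, lapq⟩ := hfixE _ (h (a * p * q) (by simp))
  obtain ⟨hapr, lapr⟩ := hfixE _ (h (a * p * r) (by simp))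
  obtain ⟨haqr, laqr⟩ := hfixE _ (h (a * q * r) (by simp))
  obtain ⟨hapqr, lapqr⟩ := hfixE _ (h (a * p * q * r) (by simp))
  have hq' : q ∈ E := by
    have := E.mul_mem (E.inv_mem hap) hapq
    rwa [inv_mul_cancel_left] at this
  have hr' : r ∈ E := by
    have := E.mul_mem (E.inv_mem hap) hapr
    rwa [inv_mul_cancel_left] at this
  have ha : a ∈ E := by
    have := E.mul_mem haq (E.inv_mem hq')
    rwa [mul_inv_cancel_right] at this
  suffices hΛa : Λ a = 1 by
    have hL1 : e a ∈ fr.L := ha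
    have : e a • fr.v = fr.v := by
      rw [fr.hχ _ hL1, show fr.χ (e a) = 1 from hΛa, one_smul]
    rw [he, this]
  -- the second difference does not depend on the base point
  have hdiff : ∀ c : fr.M, c ∈ E →
      Λ (c * q * r) * Λ c = fr.β (e q) r * (Λ (c * q) * Λ (c * r)) := by
    intro c hc
    have hmulL : fr.β (e (c * q)) r = fr.β (e c) r * fr.β (e q) r := by
      rw [← fr.β_left (heM c) (heM q) r.2]
      have h1 : e (c * q) = ⁅(q : G)⁻¹, e c⁆ * (e c * e q) := by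
        simp only [e, Subgroup.coe_mul]; rw [commutatorElement_def]; group
      have hU : ⁅(q : G)⁻¹, e c⁆ ∈ fr.U := fr.hMcomm _ (fr.M.inv_mem q.2) _ (heM c)
      rw [h1, fr.β_left (fr.hUM hU) (fr.M.mul_mem (heM c) (heM q)) r.2]
      have : fr.β ⁅(q : G)⁻¹, e c⁆ (r : G) = 1 := by
        refine fr.β_eq (fr.hUM hU) r.2 fr.hv ?_
        rw [fr.hψ _ hU, fr.hψ _ hU, fr.hMlin _ r.2, one_smul]
      rw [this, one_mul]
    rw [hΛ (c * q) r (E.mul_mem hc hq') hr', hΛ c q hc hq', hΛ c r hc hr', hmulL]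
    ring
  have h1 := hdiff a ha
  have h2 := hdiff (a * p) hap
  simp only [laqr, laq, lar, one_mul, mul_one] at h1
  simp only [lapqr, lap, lapq, lapr, one_mul, mul_one] at h2
  rw [h1, ← h2]

end Fix

end Frame

end CfsgLib.Perm.CoprimeBase
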