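import Mathlib

/-!
# Two-point bases and fixed-point counts

The number of pairs with a given stabilizer depends only on the numbers of fixed points of the
subgroups, so two actions with the same numbers have two-point bases together.
-/

namespace CfsgLib.Perm.CoprimeBase

namespace Count

variable (A : Type*) [Group A] (α : Type*) [MulAction A α]

/-- Two points whose common stabilizer is the kernel. -/
def Good : Prop := ∃ x y : α, ∀ a : A, a • x = x → a • y = y → ∀ z : α, a • z = z

/-- The points fixed by a subgroup. -/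
def fixSet (B : Subgroup A) : Set α := {x | ∀ b ∈ B, b • x = x}

/-- The pairs with a given stabilizer. -/
def exact (B : Subgroup A) : Set (α × α) :=
  {q | MulAction.stabilizer A q = B}

variable {A α}

theorem mem_fixSet_prod (B : Subgroup A) (q : α × α) :
    B ≤ MulAction.stabilizer A q ↔ q.1 ∈ fixSet A α B ∧ q.2 ∈ fixSet A α B := by
  constructor
  · exact fun h => ⟨fun b hb => congrArg Prod.fst (h hb), fun b hb => congrArg Prod.snd (h hb)⟩
  · exact fun h b hb => Prod.ext (h.1 b hb) (h.2 b hb)

theorem card_sq_eq_sum [Finite A] [Finite α] [Fintype (Subgroup A)] [DecidableEq (Subgroup A)]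
    [DecidableRel (α := Subgroup A) (· ≤ ·)] (B : Subgroup A) :
    Nat.card (fixSet A α B) * Nat.card (fixSet A α B) =
      ∑ C ∈ Finset.univ.filter (B ≤ ·), Nat.card (exact A α C) := by
  classical
  haveI : Fintype α := Fintype.ofFinite α
  rw [← Nat.card_prod, Nat.card_congr ((Equiv.Set.prod _ _).symm.trans (Equiv.setCongr (t :=
    {q : α × α | B ≤ MulAction.stabilizer A q}) (Set.ext fun q => (mem_fixSet_prod B q).symm)))]
  simp only [Nat.card_coe_set_eq, Set.ncard_eq_toFinset_card', exact]
  rw [Finset.card_eq_sum_card_fiberwise (f := fun q : α × α => MulAction.stabilizer A q)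
    (t := Finset.univ.filter (B ≤ ·)) (fun q hq => by simpa using hq)]
  refine Finset.sum_congr rfl fun C hC => congrArg _ (Finset.ext fun q => ?_)
  simp only [Finset.mem_filter, Finset.mem_univ, true_and] at hC
  simp only [Finset.mem_filter, Set.mem_toFinset, Set.mem_ofPred_eq]
  exact ⟨fun h => h.2, fun h => ⟨h ▸ hC, h⟩⟩

variable {β : Type*} [MulAction A β]

theorem exact_eq [Finite A] [Finite α] [Finite β]
    (h : ∀ B, Nat.card (fixSet A α B) = Nat.card (fixSet A β B)) (B : Subgroup A) :
    Nat.card (exact A α B) = Nat.card (exact A β B) := by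
  classical
  haveI : Fintype (Subgroup A) := Fintype.ofFinite _
  induction B using WellFoundedGT.induction with
  | ind B ih =>
    have e1 := card_sq_eq_sum (α := α) B
    have e2 := card_sq_eq_sum (α := β) B
    have hB : B ∈ Finset.univ.filter (B ≤ ·) := by simp
    rw [← Finset.add_sum_erase _ _ hB] at e1 e2
    have e3 : ∑ C ∈ (Finset.univ.filter (B ≤ ·)).erase B, Nat.card (exact A α C) =
        ∑ C ∈ (Finset.univ.filter (B ≤ ·)).erase B, Nat.card (exact A β C) := by
      refine Finset.sum_congr rfl fun C hC => ih C ?_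
      simp only [Finset.mem_erase, Finset.mem_filter, Finset.mem_univ, true_and] at hC
      exact lt_of_le_of_ne hC.2 (Ne.symm hC.1)
    rw [h B] at e1
    omega

theorem fixes_all_iff [Finite α] (a : A) :
    (∀ z : α, a • z = z) ↔
      Nat.card (fixSet A α (Subgroup.zpowers a)) = Nat.card (fixSet A α (⊥ : Subgroup A)) := by
  have hbot : fixSet A α (⊥ : Subgroup A) = Set.univ := Set.eq_univ_of_forall fun z b hb => by
    rw [Subgroup.mem_bot.1 hb, one_smul]
  constructor
  · intro h
    have : Subgroup.zpowers a ≤ (MulAction.toPermHom A α).ker :=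
      Subgroup.zpowers_le.2 (Equiv.ext h)
    congr 1
    rw [hbot]
    exact congrArg _ (Set.eq_univ_of_forall fun z b hb => congrFun (congrArg DFunLike.coe (this hb)) z)
  · intro h z
    rw [hbot, Nat.card_coe_set_eq, Nat.card_coe_set_eq, Set.ncard_univ] at h
    have hu : fixSet A α (Subgroup.zpowers a) = Set.univ := by
      refine Set.eq_of_subset_of_ncard_le (Set.subset_univ _) ?_
      rw [Set.ncard_univ, h]
    have hz : z ∈ fixSet A α (Subgroup.zpowers a) := by rw [hu]; trivial
    exact hz a (Subgroup.mem_zpowers a)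

/-- Transfer of two-point bases. -/
theorem Good.transfer [Finite A] [Finite α] [Finite β]
    (h : ∀ B, Nat.card (fixSet A α B) = Nat.card (fixSet A β B)) (hg : Good A β) : Good A α := by
  obtain ⟨x, y, hxy⟩ := hg
  have hpos : 0 < Nat.card (exact A α (MulAction.stabilizer A (x, y))) := by
    rw [exact_eq h]
    haveI : Nonempty (exact A β (MulAction.stabilizer A (x, y))) := ⟨⟨(x, y), rfl⟩⟩
    exact Nat.card_pos
  obtain ⟨⟨⟨⟨x', y'⟩, hst⟩⟩, -⟩ := Nat.card_pos_iff.1 hpos
  refine ⟨x', y', fun a ha hb => ?_⟩
  have h1 : a ∈ MulAction.stabilizer A (x', y') := Prod.ext ha hb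
  rw [show MulAction.stabilizer A (x', y') = MulAction.stabilizer A (x, y) from hst] at h1
  rw [fixes_all_iff, h, h, ← fixes_all_iff]
  exact hxy a (congrArg Prod.fst h1) (congrArg Prod.snd h1)

/-- Products. -/
theorem good_prod (hα : Good A α) (hβ : Good A β) : Good A (α × β) := by
  obtain ⟨x, y, h⟩ := hα
  obtain ⟨x', y', h'⟩ := hβ
  exact ⟨(x, x'), (y, y'), fun a h1 h2 z =>
    Prod.ext (h a (congrArg Prod.fst h1) (congrArg Prod.fst h2) z.1)
      (h' a (congrArg Prod.snd h1) (congrArg Prod.snd h2) z.2)⟩

theorem good_pi {ι : Type*} {f : ι → Type*} [∀ i, MulAction A (f i)] (h : ∀ i, Good A (f i)) :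
    Good A (∀ i, f i) := by
  choose x y hxy using h
  exact ⟨x, y, fun a h1 h2 z => funext fun i =>
    hxy i a (congrFun h1 i) (congrFun h2 i) (z i)⟩

theorem card_fix_prod (B : Subgroup A) :
    Nat.card (fixSet A (α × β) B) = Nat.card (fixSet A α B) * Nat.card (fixSet A β B) := by
  rw [← Nat.card_prod]
  exact Nat.card_congr
    { toFun := fun z => (⟨z.1.1, fun b hb => congrArg Prod.fst (z.2 b hb)⟩,
        ⟨z.1.2, fun b hb => congrArg Prod.snd (z.2 b hb)⟩)
      invFun := fun z => ⟨(z.1.1, z.2.1), fun b hb => Prod.ext (z.1.2 b hb) (z.2.2 b hb)⟩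
      left_inv := fun z => rfl
      right_inv := fun z => rfl }

theorem card_fix_pi {ι : Type*} [Fintype ι] {f : ι → Type*} [∀ i, MulAction A (f i)]
    (B : Subgroup A) :
    Nat.card (fixSet A (∀ i, f i) B) = ∏ i, Nat.card (fixSet A (f i) B) := by
  rw [← Nat.card_pi]
  exact Nat.card_congr
    { toFun := fun z i => ⟨z.1 i, fun b hb => congrFun (z.2 b hb) i⟩
      invFun := fun z => ⟨fun i => (z i).1, fun b hb => funext fun i => (z i).2 b hb⟩
      left_inv := fun z => rfl
      right_inv := fun z => rfl }

end Count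

end CfsgLib.Perm.CoprimeBase
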