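import Cfsg.Agent.Lib.Perm.CoprimeBase.Main
import Cfsg.Agent.Lib.Perm.CoprimeBase.Count
import Cfsg.Agent.Lib.Coprime.Sylow

/-!
# Coprime solvable groups of automorphisms

The fixed-point numbers of a coprime action multiply over invariant normal subgroups and over
invariant Sylow subgroups, which reduces two-point bases to the linear case.
-/

namespace CfsgLib.Perm.CoprimeBase

namespace Auto

open Count
open scoped commutatorElement

universe u v

variable {A : Type u} [Group A] {K : Type v} [Group K] [MulDistribMulAction A K]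

/-- The action on an invariant subgroup. -/
@[instance_reducible] def subAct (N : Subgroup K) (hN : ∀ (a : A) (n : K), n ∈ N → a • n ∈ N) :
    MulDistribMulAction A N where
  smul a n := ⟨a • (n : K), hN a n n.2⟩
  one_smul n := Subtype.ext (one_smul A (n : K))
  mul_smul a b n := Subtype.ext (mul_smul a b (n : K))
  smul_mul a n m := Subtype.ext (smul_mul' a (n : K) (m : K))
  smul_one a := Subtype.ext (smul_one a : a • (1 : K) = 1)

/-- The action on an invariant quotient. -/
@[instance_reducible] def quotAct (N : Subgroup K) [N.Normal]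
    (hN : ∀ (a : A) (n : K), n ∈ N → a • n ∈ N) : MulDistribMulAction A (K ⧸ N) where
  smul a q := QuotientGroup.map N N (MulDistribMulAction.toMonoidHom K a) (fun n hn => hN a n hn) q
  one_smul q := QuotientGroup.induction_on q fun k => congrArg _ (one_smul A k)
  mul_smul a b q := QuotientGroup.induction_on q fun k => congrArg _ (mul_smul a b k)
  smul_mul _ q r := map_mul (QuotientGroup.map N N (MulDistribMulAction.toMonoidHom K _) _) q r
  smul_one _ := map_one (QuotientGroup.map N N (MulDistribMulAction.toMonoidHom K _) _)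

variable (A K) in
/-- The semidirect product. -/
abbrev Hol := K ⋊[MulDistribMulAction.toMulAut A K] A

theorem conj_inl (a : A) (k : K) :
    (SemidirectProduct.inr a : Hol A K) * SemidirectProduct.inl k * (SemidirectProduct.inr a)⁻¹ =
      SemidirectProduct.inl (a • k) := by
  rw [← map_inv]
  exact (SemidirectProduct.inl_aut (φ := MulDistribMulAction.toMulAut A K) a k).symm

theorem mem_centralizer_iff (B : Subgroup A) (k : K) :
    (SemidirectProduct.inl k : Hol A K) ∈ Subgroup.centralizer
      ((B.map SemidirectProduct.inr : Subgroup (Hol A K)) : Set (Hol A K)) ↔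
      ∀ b ∈ B, b • k = k := by
  rw [Subgroup.mem_centralizer_iff]
  constructor
  · intro h b hb
    have h1 := h _ ⟨b, hb, rfl⟩
    refine SemidirectProduct.inl_injective (φ := MulDistribMulAction.toMulAut A K) ?_
    rw [← conj_inl, h1, mul_inv_cancel_right]
  · rintro h _ ⟨b, hb, rfl⟩
    rw [← mul_inv_eq_iff_eq_mul, conj_inl, h b hb]

theorem le_normalizer_inl (B : Subgroup A) (N : Subgroup K)
    (hN : ∀ (a : A) (n : K), n ∈ N → a • n ∈ N) :
    (B.map SemidirectProduct.inr : Subgroup (Hol A K)) ≤
      Subgroup.normalizer ((N.map SemidirectProduct.inl : Subgroup (Hol A K)) : Set (Hol A K)) := by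
  refine Subgroup.le_normalizer_iff.2 ?_
  rintro _ ⟨b, -, rfl⟩ _ ⟨n, hn, rfl⟩
  exact ⟨b • n, hN b n hn, (conj_inl b n).symm⟩

theorem card_map_inl (N : Subgroup K) :
    Nat.card (N.map SemidirectProduct.inl : Subgroup (Hol A K)) = Nat.card N :=
  (Nat.card_congr (Subgroup.equivMapOfInjective N _ SemidirectProduct.inl_injective).toEquiv).symm

theorem card_map_inr (B : Subgroup A) :
    Nat.card (B.map SemidirectProduct.inr : Subgroup (Hol A K)) = Nat.card B :=
  (Nat.card_congr (Subgroup.equivMapOfInjective B _ SemidirectProduct.inr_injective).toEquiv).symm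

theorem isSolvable_map_inr [Group.IsSolvable A] (B : Subgroup A) :
    Group.IsSolvable (B.map SemidirectProduct.inr : Subgroup (Hol A K)) :=
  solvable_of_surjective (f := (Subgroup.equivMapOfInjective B _
    (SemidirectProduct.inr_injective (φ := MulDistribMulAction.toMulAut A K))).toMonoidHom)
    (MulEquiv.surjective _)

theorem finite_hol [Finite A] [Finite K] : Finite (Hol A K) :=
  Finite.of_equiv _ SemidirectProduct.equivProd.symm

theorem exists_fix_mul [Finite A] [Group.IsSolvable A] [Finite K] (N : Subgroup K)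
    (hN : ∀ (a : A) (n : K), n ∈ N → a • n ∈ N) (B : Subgroup A)
    (hcop : (Nat.card A).Coprime (Nat.card K)) {k : K} (hk : ∀ b ∈ B, (b • k) * k⁻¹ ∈ N) :
    ∃ n ∈ N, ∀ b ∈ B, b • (n * k) = n * k := by
  haveI := finite_hol (A := A) (K := K)
  obtain ⟨x, ⟨n, hn, rfl⟩, hx⟩ := CfsgLib.Coprime.exists_mul_mem_centralizer
    (le_normalizer_inl B N hN) (by
      rw [card_map_inl, card_map_inr]
      exact (hcop.coprime_dvd_left B.card_subgroup_dvd_card).coprime_dvd_right
        N.card_subgroup_dvd_card)
    (Or.inl (isSolvable_map_inr B)) (k := (SemidirectProduct.inl k : Hol A K)) (by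
      rintro _ ⟨b, hb, rfl⟩
      refine ⟨(b • k) * k⁻¹, hk b hb, ?_⟩
      rw [map_mul, map_inv, ← conj_inl, commutatorElement_def])
  exact ⟨n, hn, (mem_centralizer_iff B (n * k)).1 (by rwa [map_mul])⟩

/-- Fixed-point numbers multiply over invariant normal subgroups. -/
theorem card_fix_mul [Finite A] [Group.IsSolvable A] [Finite K] (N : Subgroup K) [N.Normal]
    (hN : ∀ (a : A) (n : K), n ∈ N → a • n ∈ N) (hcop : (Nat.card A).Coprime (Nat.card K))
    (B : Subgroup A) :
    letI := subAct N hN
    letI := quotAct N hN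
    Nat.card (fixSet A K B) = Nat.card (fixSet A (↥N × (K ⧸ N)) B) := by
  letI := subAct N hN
  letI := quotAct N hN
  rw [card_fix_prod]
  let Fs : Subgroup K :=
    { carrier := fixSet A K B
      one_mem' := fun b _ => smul_one b
      mul_mem' := fun {x y} hx hy b hb => by rw [smul_mul', hx b hb, hy b hb]
      inv_mem' := fun {x} hx b hb => by rw [smul_inv', hx b hb] }
  let f : Fs →* K ⧸ N := (QuotientGroup.mk' N).comp Fs.subtype
  have hrange : (f.range : Set (K ⧸ N)) = fixSet A (K ⧸ N) B := by
    ext q
    constructor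
    · rintro ⟨⟨x, hx⟩, rfl⟩ b hb
      show QuotientGroup.mk (b • x) = QuotientGroup.mk x
      rw [hx b hb]
    · intro hq
      obtain ⟨k, rfl⟩ := QuotientGroup.mk_surjective q
      obtain ⟨n, hn, hfix⟩ := exists_fix_mul N hN B hcop (k := k) fun b hb => by
        have h1 : QuotientGroup.mk (b • k) = (QuotientGroup.mk k : K ⧸ N) := hq b hb
        rw [← QuotientGroup.eq_one_iff, QuotientGroup.mk_mul, QuotientGroup.mk_inv, h1,
          mul_inv_cancel]
      refine ⟨⟨n * k, hfix⟩, ?_⟩
      show QuotientGroup.mk (n * k) = (QuotientGroup.mk k : K ⧸ N)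
      rw [QuotientGroup.mk_mul, (QuotientGroup.eq_one_iff n).2 hn, one_mul]
  have hker : Nat.card f.ker = Nat.card (fixSet A N B) := Nat.card_congr
    { toFun := fun x => ⟨⟨(x.1 : K), (QuotientGroup.eq_one_iff _).1 x.2⟩,
        fun b hb => Subtype.ext (x.1.2 b hb)⟩
      invFun := fun x => ⟨⟨(x.1 : K), fun b hb => congrArg Subtype.val (x.2 b hb)⟩,
        (QuotientGroup.eq_one_iff _).2 x.1.2⟩
      left_inv := fun x => rfl
      right_inv := fun x => rfl }
  calc Nat.card (fixSet A K B) = Nat.card Fs := rfl
    _ = Nat.card (Fs ⧸ f.ker) * Nat.card f.ker := Subgroup.card_eq_card_quotient_mul_card_subgroup _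
    _ = Nat.card f.range * Nat.card (fixSet A N B) := by
      rw [Nat.card_congr (QuotientGroup.quotientKerEquivRange f).toEquiv, hker]
    _ = Nat.card (fixSet A (K ⧸ N) B) * Nat.card (fixSet A N B) := by rw [← hrange]; rfl
    _ = _ := mul_comm _ _

theorem good_of_normal [Finite A] [Group.IsSolvable A] [Finite K] (N : Subgroup K) [N.Normal]
    (hN : ∀ (a : A) (n : K), n ∈ N → a • n ∈ N) (hcop : (Nat.card A).Coprime (Nat.card K))
    (h1 : letI := subAct N hN; Good A N) (h2 : letI := quotAct N hN; Good A (K ⧸ N)) :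
    Good A K := by
  letI := subAct N hN
  letI := quotAct N hN
  exact Good.transfer (card_fix_mul N hN hcop) (good_prod h1 h2)

theorem good_elementary [Finite A] [Group.IsSolvable A] [Finite K] {p : ℕ} [Fact p.Prime]
    (hcomm : ∀ x y : K, x * y = y * x) (hexp : ∀ x : K, x ^ p = 1)
    (hcop : (Nat.card A).Coprime (Nat.card K)) : Good A K := by
  rcases subsingleton_or_nontrivial K with hK | hK
  · exact ⟨1, 1, fun a _ _ z => Subsingleton.elim _ _⟩
  letI : CommGroup K := { (inferInstance : Group K) with mul_comm := hcomm }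
  let act : A →* AddMonoid.End (Additive K) :=
    { toFun := fun a => MonoidHom.toAdditive (MulDistribMulAction.toMonoidHom K a)
      map_one' := AddMonoidHom.ext fun x => congrArg Additive.ofMul (one_smul A (Additive.toMul x))
      map_mul' := fun a b => AddMonoidHom.ext fun x =>
        congrArg Additive.ofMul (mul_smul a b (Additive.toMul x)) }
  let φ := act.toHomUnits
  letI : DistribMulAction φ.range (Additive K) :=
    DistribMulAction.compHom _ ((Units.coeHom (AddMonoid.End (Additive K))).comp φ.range.subtype)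
  haveI : Finite φ.range := Finite.of_surjective φ.rangeRestrict φ.rangeRestrict_surjective
  haveI : Group.IsSolvable φ.range := solvable_of_surjective φ.rangeRestrict_surjective
  have hdvd : p ∣ Nat.card K := by
    obtain ⟨x, hx⟩ := exists_ne (1 : K)
    rw [← orderOf_eq_prime (hexp x) hx]
    exact orderOf_dvd_natCard x
  obtain ⟨x, y, h⟩ := exists_pair φ.range (Additive K)
    (fun x => congrArg Additive.ofMul (hexp (Additive.toMul x)))
    ((hcop.coprime_dvd_left (Subgroup.card_range_dvd φ)).coprime_dvd_right hdvd)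
  exact ⟨Additive.toMul x, Additive.toMul y, fun a h1 h2 z =>
    congrArg Additive.toMul (h ⟨φ a, a, rfl⟩ (congrArg Additive.ofMul h1)
      (congrArg Additive.ofMul h2) (Additive.ofMul z))⟩

theorem good_pgroup [Finite A] [Group.IsSolvable A] {p : ℕ} [Fact p.Prime] :
    ∀ (n : ℕ) (K : Type v) [Group K] [Finite K] [MulDistribMulAction A K], Nat.card K = n →
      IsPGroup p K → (Nat.card A).Coprime (Nat.card K) → Good A K := by
  intro n
  induction n using Nat.strong_induction_on with
  | _ n ih =>
    intro K _ _ _ hn hp hcop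
    have key : ∀ N : Subgroup K, N.Normal → (∀ (a : A) (k : K), k ∈ N → a • k ∈ N) → N ≠ ⊥ →
        N ≠ ⊤ → Good A K := by
      intro N hNn hN hbot htop
      haveI := hNn
      letI := subAct N hN
      letI := quotAct N hN
      have hN1 : 1 < Nat.card N := (Subgroup.one_lt_card_iff_ne_bot N).2 hbot
      have hNlt : Nat.card N < Nat.card K :=
        lt_of_le_of_ne (Nat.le_of_dvd Nat.card_pos N.card_subgroup_dvd_card) fun e =>
          htop (Subgroup.eq_top_of_card_eq N e)
      have hprod := Subgroup.card_eq_card_quotient_mul_card_subgroup N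
      refine good_of_normal N hN hcop (ih _ (hn ▸ hNlt) N rfl (hp.to_subgroup N)
        (hcop.coprime_dvd_right N.card_subgroup_dvd_card)) (ih _ ?_ (K ⧸ N) rfl (hp.to_quotient N)
        (hcop.coprime_dvd_right (Subgroup.card_quotient_dvd_card N)))
      rw [← hn, hprod]
      exact lt_mul_of_one_lt_right Nat.card_pos hN1
    rcases subsingleton_or_nontrivial K with hK | hK
    · exact ⟨1, 1, fun a _ _ z => Subsingleton.elim _ _⟩
    by_cases hcomm : Subgroup.center K = ⊤
    · have hc : ∀ x y : K, x * y = y * x := fun x y => Subgroup.mem_center_iff.1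
        (hcomm.symm ▸ Subgroup.mem_top y : y ∈ Subgroup.center K) x
      by_cases hexp : ∀ x : K, x ^ p = 1
      · exact good_elementary hc hexp hcop
      let N : Subgroup K :=
        { carrier := {x | x ^ p = 1}
          one_mem' := one_pow p
          mul_mem' := fun {x y} hx hy => by
            show (x * y) ^ p = 1
            rw [(show Commute x y from hc x y).mul_pow, show x ^ p = 1 from hx, show y ^ p = 1 from hy, one_mul]
          inv_mem' := fun {x} hx => by
            show x⁻¹ ^ p = 1
            rw [inv_pow, show x ^ p = 1 from hx, inv_one] }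
      refine key N ⟨fun x hx g => by rwa [show g * x * g⁻¹ = x by rw [hc g x, mul_inv_cancel_right]]⟩
        (fun a k hk => by
          show (a • k) ^ p = 1
          rw [← smul_pow', show k ^ p = 1 from hk, smul_one]) ?_ ?_
      · intro e
        obtain ⟨m, hm0, hm⟩ := hp.nontrivial_iff_card.1 hK
        obtain ⟨x, hx⟩ := exists_prime_orderOf_dvd_card' p (hm ▸ dvd_pow_self p hm0.ne')
        have : x ∈ N := by show x ^ p = 1; rw [← hx, pow_orderOf_eq_one]
        rw [e, Subgroup.mem_bot] at this
        rw [this, orderOf_one] at hx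
        exact (Fact.out : p.Prime).one_lt.ne hx
      · intro e
        exact hexp fun x => (e.symm ▸ Subgroup.mem_top x : x ∈ N)
    · refine key _ inferInstance (fun a k hk => Subgroup.mem_center_iff.2 fun g => ?_)
        (Subgroup.nontrivial_iff_ne_bot _ |>.1 hp.center_nontrivial) hcomm
      have := congrArg (a • ·) (Subgroup.mem_center_iff.1 hk (a⁻¹ • g))
      simpa [smul_mul', smul_inv_smul] using this

/-- An invariant Sylow subgroup meets every fixed-point subgroup in a Sylow subgroup of it. -/
theorem exists_sylow_fix [Finite A] [Group.IsSolvable A] [Finite K]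
    (hcop : (Nat.card A).Coprime (Nat.card K)) (p : ℕ) [Fact p.Prime] :
    ∃ (P : Subgroup K), IsPGroup p P ∧ (∀ (a : A) (k : K), k ∈ P → a • k ∈ P) ∧
      ∀ B : Subgroup A, Nat.card {k : K // k ∈ P ∧ k ∈ fixSet A K B} =
        p ^ (Nat.card (fixSet A K B)).factorization p := by
  haveI := finite_hol (A := A) (K := K)
  set ι : K →* Hol A K := SemidirectProduct.inl
  set j : A →* Hol A K := SemidirectProduct.inr
  set KX : Subgroup (Hol A K) := (⊤ : Subgroup K).map ι
  have hA : ∀ B : Subgroup A, B.map j ≤ Subgroup.normalizer (KX : Set (Hol A K)) := fun B =>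
    le_normalizer_inl B ⊤ fun _ _ _ => Subgroup.mem_top _
  have hc : ∀ B : Subgroup A, (Nat.card (B.map j)).Coprime (Nat.card KX) := fun B => by
    rw [card_map_inr, card_map_inl, Subgroup.card_top]
    exact hcop.coprime_dvd_left B.card_subgroup_dvd_card
  obtain ⟨P, hP⟩ := CfsgLib.Coprime.exists_invariant_sylow (hA ⊤) (hc ⊤)
    (Or.inl (isSolvable_map_inr ⊤)) p
  set PX := (P : Subgroup KX).map KX.subtype
  refine ⟨PX.comap ι, (P.isPGroup'.map KX.subtype).comap_of_injective ι
    SemidirectProduct.inl_injective, fun a k hk => ?_, fun B => ?_⟩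
  · show ι (a • k) ∈ PX
    rw [← conj_inl]
    exact Subgroup.le_normalizer_iff.1 hP (j a) ⟨a, Subgroup.mem_top a, rfl⟩ _ hk
  -- the fixed subgroup inside the semidirect product
  set C : Subgroup (Hol A K) := KX ⊓ Subgroup.centralizer ((B.map j : Subgroup _) : Set (Hol A K))
  have hCeq : Nat.card C = Nat.card (fixSet A K B) := Nat.card_congr
    { toFun := fun x => ⟨x.1.left, by
        obtain ⟨⟨k, -, hk⟩, hx⟩ := x.2
        rw [← hk] at hx ⊢
        exact (mem_centralizer_iff B k).1 hx⟩
      invFun := fun k => ⟨ι k.1, ⟨⟨k.1, Subgroup.mem_top _, rfl⟩, (mem_centralizer_iff B k.1).2 k.2⟩⟩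
      left_inv := fun x => by
        obtain ⟨⟨k, -, hk⟩, -⟩ := x.2
        refine Subtype.ext ?_
        show ι x.1.left = x.1
        rw [← hk]; rfl
      right_inv := fun k => rfl }
  have hCP : Nat.card (PX ⊓ C : Subgroup (Hol A K)) =
      Nat.card {k : K // k ∈ PX.comap ι ∧ k ∈ fixSet A K B} := Nat.card_congr
    { toFun := fun x => ⟨x.1.left, by
        obtain ⟨⟨k, -, hk⟩, hx⟩ := x.2.2
        have hP' := x.2.1
        rw [← hk] at hx hP' ⊢
        exact ⟨hP', (mem_centralizer_iff B k).1 hx⟩⟩
      invFun := fun k => ⟨ι k.1, k.2.1,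
        ⟨⟨k.1, Subgroup.mem_top _, rfl⟩, (mem_centralizer_iff B k.1).2 k.2.2⟩⟩
      left_inv := fun x => by
        obtain ⟨⟨k, -, hk⟩, -⟩ := x.2.2
        refine Subtype.ext ?_
        show ι x.1.left = x.1
        rw [← hk]; rfl
      right_inv := fun k => rfl }
  rw [← hCP, ← hCeq]
  -- a Sylow subgroup of the fixed subgroup
  let S : Sylow p C := default
  set U := (S : Subgroup C).map C.subtype
  have hUC : U ≤ C := Subgroup.map_subtype_le _
  have hUB : B.map j ≤ Subgroup.normalizer (U : Set (Hol A K)) := by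
    refine Subgroup.le_normalizer_iff.2 fun b hb u hu => ?_
    rw [Subgroup.mem_centralizer_iff.1 (hUC hu).2 b hb, mul_inv_cancel_right]
    exact hu
  obtain ⟨Q, hUQ, hQ⟩ := CfsgLib.Coprime.exists_le_invariant_sylow (hA B) (hc B)
    (Or.inl (isSolvable_map_inr B)) (hUC.trans inf_le_left) (S.isPGroup'.map _) hUB
  obtain ⟨c, hc1, hc2⟩ := CfsgLib.Coprime.exists_centralizer_conj_sylow (hA B) (hc B)
    (Or.inl (isSolvable_map_inr B)) Q P hQ (le_trans (Subgroup.map_mono le_top) hP)
  have hUP : U.map (MulAut.conj (c : Hol A K)).toMonoidHom ≤ PX ⊓ C := by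
    refine le_inf ?_ (Subgroup.map_le_iff_le_comap.2 fun u hu => ?_)
    · show _ ≤ (P : Subgroup KX).map KX.subtype
      rw [← hc2, CfsgLib.Coprime.map_smul_sylow]
      exact Subgroup.map_mono hUQ
    · show (c : Hol A K) * u * (c : Hol A K)⁻¹ ∈ C
      exact C.mul_mem (C.mul_mem ⟨c.2, hc1⟩ (hUC hu)) (C.inv_mem ⟨c.2, hc1⟩)
  have h1 := Subgroup.card_le_of_le hUP
  rw [CfsgLib.Coprime.card_conj_map, CfsgLib.Coprime.card_map_subtype,
    S.card_eq_multiplicity] at h1
  obtain ⟨m, hm⟩ := ((P.isPGroup'.map KX.subtype).to_le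
    (inf_le_left : PX ⊓ C ≤ PX)).exists_card_eq
  have hle : m ≤ (Nat.card C).factorization p :=
    ((Fact.out : p.Prime).pow_dvd_iff_le_factorization Nat.card_pos.ne').1
      (hm ▸ Subgroup.card_dvd_of_le inf_le_right)
  rw [hm] at h1 ⊢
  rw [le_antisymm hle ((Nat.pow_le_pow_iff_right (Fact.out : p.Prime).one_lt).1 h1)]

/-- A coprime solvable group of automorphisms has two points whose common stabilizer is the kernel. -/
theorem good [Finite A] [Group.IsSolvable A] [Finite K]
    (hcop : (Nat.card A).Coprime (Nat.card K)) : Good A K := by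
  classical
  set ι := {p : ℕ // p ∈ (Nat.card K).primeFactors}
  have hp : ∀ i : ι, Fact (Nat.Prime i.1) := fun i => ⟨Nat.prime_of_mem_primeFactors i.2⟩
  choose P hPp hPinv hPcard using fun i : ι => @exists_sylow_fix A _ K _ _ _ _ _ hcop i.1 (hp i)
  letI : ∀ i, MulDistribMulAction A (P i) := fun i => subAct (P i) (hPinv i)
  refine Good.transfer (β := ∀ i, P i) (fun B => ?_) (good_pi fun i => ?_)
  · rw [card_fix_pi]
    set c := Nat.card (fixSet A K B)
    have hc : c ≠ 0 := by
      haveI : Nonempty (fixSet A K B) := ⟨⟨1, fun b _ => smul_one b⟩⟩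
      exact Nat.card_pos.ne'
    have hcK : c ∣ Nat.card K := by
      let Fs : Subgroup K :=
        { carrier := fixSet A K B
          one_mem' := fun b _ => smul_one b
          mul_mem' := fun {x y} hx hy b hb => by rw [smul_mul', hx b hb, hy b hb]
          inv_mem' := fun {x} hx b hb => by rw [smul_inv', hx b hb] }
      exact Fs.card_subgroup_dvd_card
    conv_lhs => rw [← Nat.prod_factorization_pow_eq_self hc]
    rw [Finsupp.prod_of_support_subset _ (s := (Nat.card K).primeFactors) (by
      rw [Nat.support_factorization]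
      exact Nat.primeFactors_mono hcK Nat.card_pos.ne') _ (fun i _ => pow_zero i),
      ← Finset.prod_coe_sort]
    refine Finset.prod_congr rfl fun i _ => ?_
    refine (hPcard i B).symm.trans (Nat.card_congr
      { toFun := fun x => ⟨⟨x.1, x.2.1⟩, fun b hb => Subtype.ext (x.2.2 b hb)⟩
        invFun := fun x => ⟨x.1.1, x.1.2, fun b hb => congrArg Subtype.val (x.2 b hb)⟩
        left_inv := fun x => rfl
        right_inv := fun x => rfl })
  · haveI := hp i
    exact good_pgroup _ (P i) rfl (hPp i)
      (hcop.coprime_dvd_right (P i).card_subgroup_dvd_card)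

/-- The faithful case. -/
theorem exists_two [Finite A] [Group.IsSolvable A] [Finite K] [FaithfulSMul A K]
    (hcop : (Nat.card A).Coprime (Nat.card K)) :
    ∃ x y : K, ∀ a : A, a • x = x → a • y = y → a = 1 := by
  obtain ⟨x, y, h⟩ := good hcop
  exact ⟨x, y, fun a h1 h2 => FaithfulSMul.eq_of_smul_eq_smul (α := K) fun z => by
    rw [h a h1 h2 z, one_smul]⟩

end Auto

end CfsgLib.Perm.CoprimeBase
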