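import Cfsg.Agent.Lib.Perm.CoprimeBase.RigidCert

/-!
# Searching through the automorphisms of a small elementary abelian two-group

A linear map on codes is built up one basis vector at a time; the table of its values on the codes
below `2 ^ k` is the state of the search.
-/

namespace CfsgLib.Perm.CoprimeBase

namespace LinSearch

/-- Extend a table by one more basis image. -/
def grow (T : List ℕ) (c : ℕ) : List ℕ := T ++ T.map (fun t => t ^^^ c)

/-- Every injective linear table passing all tests passes the final test. -/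
def search (n : ℕ) (ok : List ℕ → Bool) (leaf : List ℕ → Bool) : ℕ → List ℕ → Bool
  | 0, T => leaf T
  | k + 1, T => (List.range (2 ^ n)).all fun c =>
      T.contains c || !ok (grow T c) || search n ok leaf k (grow T c)

theorem grow_eq {n : ℕ} (f : ℕ → ℕ)
    (hadd : ∀ x y, x < 2 ^ n → y < 2 ^ n → f (x ^^^ y) = f x ^^^ f y) {k : ℕ} (hk : k < n) :
    grow ((List.range (2 ^ k)).map f) (f (2 ^ k)) = (List.range (2 ^ (k + 1))).map f := by
  have hp : (2 : ℕ) ^ (k + 1) = 2 ^ k + 2 ^ k := by rw [pow_succ]; omega
  rw [grow, hp, List.range_add, List.map_append, List.map_map, List.map_map]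
  congr 1
  refine List.map_congr_left fun t ht => ?_
  rw [List.mem_range] at ht
  have h1 : 2 ^ k < 2 ^ n := Nat.pow_lt_pow_right one_lt_two hk
  have e : 2 ^ k + t = t ^^^ 2 ^ k := by
    refine Nat.eq_of_testBit_eq fun i => ?_
    rw [Nat.testBit_xor]
    rcases lt_trichotomy i k with h | h | h
    · rw [Nat.testBit_two_pow_add_gt h, Nat.testBit_two_pow, decide_eq_false (by omega)]
      cases t.testBit i <;> rfl
    · subst h
      rw [Nat.testBit_two_pow_add_eq, Nat.testBit_lt_two_pow ht, Nat.testBit_two_pow]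
      simp
    · have h2 : 2 ^ k + t < 2 ^ i := lt_of_lt_of_le (by omega : 2 ^ k + t < 2 ^ (k + 1))
        (Nat.pow_le_pow_right (by norm_num) h)
      rw [Nat.testBit_lt_two_pow h2, Nat.testBit_lt_two_pow (lt_of_le_of_lt (Nat.le_add_left _ _) h2),
        Nat.testBit_two_pow, decide_eq_false (by omega)]
      rfl
  show f t ^^^ f (2 ^ k) = f (2 ^ k + t)
  rw [e, hadd t (2 ^ k) (lt_trans ht h1) h1]

theorem sound {n : ℕ} (ok leaf : List ℕ → Bool) (f : ℕ → ℕ)
    (hlt : ∀ x, x < 2 ^ n → f x < 2 ^ n)
    (hadd : ∀ x y, x < 2 ^ n → y < 2 ^ n → f (x ^^^ y) = f x ^^^ f y)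
    (hinj : ∀ x y, x < 2 ^ n → y < 2 ^ n → f x = f y → x = y)
    (hok : ∀ k, 1 ≤ k → k ≤ n → ok ((List.range (2 ^ k)).map f) = true)
    (hs : search n ok leaf n [0] = true) : leaf ((List.range (2 ^ n)).map f) = true := by
  have h0 : f 0 = 0 := by
    have := hadd 0 0 (by positivity) (by positivity)
    rwa [Nat.xor_self, Nat.xor_self] at this
  suffices key : ∀ k j, j + k = n →
      search n ok leaf k ((List.range (2 ^ j)).map f) = true →
      leaf ((List.range (2 ^ n)).map f) = true by
    refine key n 0 (zero_add n) ?_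
    simpa [h0] using hs
  intro k
  induction k with
  | zero =>
    intro j hj h
    rw [add_zero] at hj
    subst hj
    exact h
  | succ k ih =>
    intro j hj h
    simp only [search, List.all_eq_true, List.mem_range, Bool.or_eq_true] at h
    have hjn : j < n := by omega
    have h1 : 2 ^ j < 2 ^ n := Nat.pow_lt_pow_right one_lt_two hjn
    refine ih (j + 1) (by omega) ?_
    have := h (f (2 ^ j)) (hlt _ h1)
    rw [grow_eq f hadd hjn] at this
    rcases this with (h2 | h2) | h2
    · exfalso
      rw [List.contains_iff_mem, List.mem_map] at h2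
      obtain ⟨t, ht, e⟩ := h2
      rw [List.mem_range] at ht
      exact absurd (hinj t _ (lt_trans ht h1) h1 e) ht.ne
    · rw [hok (j + 1) (by omega) (by omega)] at h2
      simp at h2
    · exact h2

end LinSearch

namespace Cert

variable {n : ℕ} {X : Type*} [AddCommGroup X] [Module (ZMod 2) X]
  (b : Module.Basis (Fin n) (ZMod 2) X)

open Classical in
/-- The code of an element. -/
noncomputable def code (x : X) : ℕ := (emb_surj b x).choose

theorem code_lt (x : X) : code b x < 2 ^ n := (emb_surj b x).choose_spec.1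

theorem emb_code (x : X) : emb b (code b x) = x := (emb_surj b x).choose_spec.2

theorem code_emb {c : ℕ} (h : c < 2 ^ n) : code b (emb b c) = c :=
  emb_inj b (code_lt b _) h (emb_code b _)

theorem code_zero : code b 0 = 0 := by
  have : emb b 0 = (0 : X) := by simp [emb]
  conv_lhs => rw [← this]
  exact code_emb b (by positivity)

/-- An endomorphism as a function on codes. -/
noncomputable def fn (g : X →+ X) (c : ℕ) : ℕ := code b (g (emb b c))

theorem fn_spec (g : X →+ X) :
    (∀ x, x < 2 ^ n → fn b g x < 2 ^ n) ∧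
    (∀ x y, x < 2 ^ n → y < 2 ^ n → fn b g (x ^^^ y) = fn b g x ^^^ fn b g y) ∧
    (Function.Injective g → ∀ x y, x < 2 ^ n → y < 2 ^ n → fn b g x = fn b g y → x = y) := by
  refine ⟨fun x _ => code_lt b _, fun x y _ _ => ?_, fun hg x y hx hy h => ?_⟩
  · refine emb_inj b (code_lt b _) (Nat.xor_lt_two_pow (code_lt b _) (code_lt b _)) ?_
    rw [emb_xor, fn, fn, fn, emb_code, emb_code, emb_code, emb_xor, map_add]
  · refine emb_inj b hx hy (hg ?_)
    rw [← emb_code b (g (emb b x)), ← emb_code b (g (emb b y))]
    exact congrArg (emb b) h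

theorem emb_fn (g : X →+ X) (c : ℕ) : emb b (fn b g c) = g (emb b c) := emb_code b _

theorem eq_id_of_fn (g : X →+ X) (h : (List.range (2 ^ n)).map (fn b g) = List.range (2 ^ n))
    (x : X) : g x = x := by
  obtain ⟨c, hc, rfl⟩ := emb_surj b x
  rw [← emb_fn b g c]
  have := congrArg (fun L => L.getD c 0) h
  simp [List.getD_eq_getElem?_getD, hc] at this
  rw [this]

end Cert

end CfsgLib.Perm.CoprimeBase
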