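import Cfsg.Agent.Lib.Perm.CoprimeBase.RigidMain
import Cfsg.Agent.Lib.Perm.CoprimeBase.LinSearch
import Cfsg.Agent.Lib.Perm.SolvBase.Colour

/-!
# Colourings of solvable permutation groups of order prime to `p` by `p` colours

For `p ≥ 5` five colours suffice for every solvable group; for `p = 3` the order matters.
-/

namespace CfsgLib.Perm.CoprimeBase

universe u

/-- A colouring by `p` colours whose stabilizer acts trivially. -/
def HasShift (p : ℕ) (G α : Type*) [Group G] [MulAction G α] : Prop :=
  ∃ c : α → ZMod p, ∀ g : G, (∀ x, c (g • x) = c x) → ∀ x : α, g • x = x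

/-- An element cannot shift all colours. -/
theorem shift_eq {p : ℕ} [Fact p.Prime] {G α : Type*} [Group G] [Finite G] [MulAction G α]
    [Nonempty α] (hcop : (Nat.card G).Coprime p) {c : α → ZMod p} {g : G} {d : ZMod p}
    (h : ∀ x, c (g • x) = c x + d) : d = 0 := by
  have hk : ∀ (k : ℕ) x, c (g ^ k • x) = c x + k * d := by
    intro k
    induction k with
    | zero => intro x; simp
    | succ k ih =>
      intro x
      rw [pow_succ, mul_smul, ih, h]
      push_cast
      ring
  obtain ⟨x⟩ := ‹Nonempty α›
  have h1 := hk (orderOf g) x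
  rw [pow_orderOf_eq_one, one_smul, left_eq_add] at h1
  refine (mul_eq_zero.1 h1).resolve_left fun h0 => ?_
  rw [ZMod.natCast_eq_zero_iff] at h0
  exact Nat.Prime.one_lt (Fact.out : p.Prime) |>.ne'
    (Nat.dvd_one.1 (hcop ▸ Nat.dvd_gcd (h0.trans (orderOf_dvd_natCard g)) dvd_rfl))

namespace Three

open Cert LinSearch

/-- Composition of tables. -/
def comp (A B : List ℕ) : List ℕ := B.map fun x => A.getD x 0

/-- Powers of a table. -/
def power (n : ℕ) (A : List ℕ) : ℕ → List ℕ
  | 0 => List.range (2 ^ n)
  | k + 1 => comp (power n A k) A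

def isId (n : ℕ) (A : List ℕ) : Bool := A == List.range (2 ^ n)

/-- The colours on sixteen points. -/
def colours : List ℕ := [0, 1, 0, 2, 2, 1, 1, 0, 1, 1, 2, 2, 1, 2, 2, 0]

theorem four : search 2 (fun _ => true)
    (fun A => isId 2 (power 2 A 2) || isId 2 (power 2 A 3)) 2 [0] = true := by decide +kernel

theorem eight : search 3 (fun _ => true)
    (fun A => isId 3 (power 3 A 4) || isId 3 (power 3 A 3) || isId 3 (power 3 A 7)) 3 [0] = true := by
  decide +kernel

theorem eight_pair : search 3 (fun _ => true) (fun A => isId 3 A || !isId 3 (power 3 A 7) ||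
    search 3 (fun _ => true) (fun T => isId 3 T || !isId 3 (power 3 T 2) ||
      (List.range 7).any fun k => let U := comp (power 3 A k) T
        isId 3 (power 3 U 3) && !isId 3 U) 3 [0]) 3 [0] = true := by
  decide +kernel

theorem sixteen : ((List.range 16).all fun t => search 4
    (fun T => (List.range T.length).all fun c =>
      colours.getD ((T.getD c 0) ^^^ t) 0 == colours.getD c 0)
    (fun T => isId 4 T && t == 0) 4 [0]) = true := by
  decide +kernel

end Three

open Three Cert LinSearch in
/-- A solvable group of order prime to three with a regular normal subgroup. -/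
theorem hasShift_regular {R α : Type u} [Group R] [Finite R] [Finite α] [MulAction R α]
    [FaithfulSMul R α] (hcop : (Nat.card R).Coprime 3) (N : Subgroup R) [N.Normal]
    (hNab : ∀ a ∈ N, ∀ b ∈ N, a * b = b * a) (hN0 : N ≠ ⊥)
    (hmin : ∀ A : Subgroup R, A.Normal → A ≠ ⊥ → (∀ a ∈ A, ∀ b ∈ A, a * b = b * a) →
      Nat.card N ≤ Nat.card A) (hNtr : ∀ x y : α, ∃ n ∈ N, n • x = y) (x0 : α) :
    HasShift 3 R α := by
  classical
  have hreg : ∀ n ∈ N, n • x0 = x0 → n = 1 := by
    intro n hn h
    refine FaithfulSMul.eq_of_smul_eq_smul (α := α) fun y => ?_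
    obtain ⟨m, hm, rfl⟩ := hNtr x0 y
    rw [one_smul, ← mul_smul, hNab n hn m hm, mul_smul, h]
  letI : CommGroup N :=
    { (inferInstance : Group N) with mul_comm := fun a b => Subtype.ext (hNab a a.2 b b.2) }
  have hsf : SqFree (Additive N) := by
    intro r hr x hx
    by_contra hne
    let T : Subgroup R :=
      { carrier := {n | n ∈ N ∧ n ^ r = 1}
        one_mem' := ⟨N.one_mem, one_pow r⟩
        mul_mem' := fun {a b} ha hb => ⟨N.mul_mem ha.1 hb.1, by
          rw [Commute.mul_pow (hNab a ha.1 b hb.1), ha.2, hb.2, mul_one]⟩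
        inv_mem' := fun {a} ha => ⟨N.inv_mem ha.1, by rw [inv_pow, ha.2, inv_one]⟩ }
    haveI hTn : T.Normal := ⟨fun n hn g => ⟨Subgroup.Normal.conj_mem ‹N.Normal› n hn.1 g, by
      rw [← MulAut.conj_apply, ← map_pow, hn.2, map_one]⟩⟩
    have hT0 : T ≠ ⊥ := fun e => hne (by
      have h1 : ((Additive.toMul (r • x) : N) : R) ∈ T :=
        ⟨(Additive.toMul (r • x)).2, congrArg (fun z => ((Additive.toMul z : N) : R)) hx⟩
      rw [e, Subgroup.mem_bot] at h1
      exact Additive.toMul.injective (Subtype.ext h1))
    have hTN : T = N := Subgroup.eq_of_le_of_card_ge (fun n hn => hn.1)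
      (hmin T hTn hT0 fun a ha b hb => hNab a ha.1 b hb.1)
    have h2 : ((Additive.toMul x : N) : R) ∈ T := by rw [hTN]; exact (Additive.toMul x).2
    exact hne (Additive.toMul.injective (Subtype.ext h2.2))
  choose nn hnn hnx using fun y => hNtr x0 y
  have hnn' : ∀ n (hn : n ∈ N), nn (n • x0) = n := fun n hn => by
    have h := hreg ((n)⁻¹ * nn (n • x0)) (N.mul_mem (N.inv_mem hn) (hnn _))
      (by rw [mul_smul, hnx, inv_smul_smul])
    exact (inv_mul_eq_one.1 h).symm
  let lab : α → Additive N := fun y => Additive.ofMul ⟨nn y, hnn y⟩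
  let f : R → Additive N →+ Additive N := fun g =>
    { toFun := fun m => Additive.ofMul
        ⟨g * (Additive.toMul m : N) * g⁻¹,
          Subgroup.Normal.conj_mem ‹N.Normal› _ (Additive.toMul m).2 g⟩
      map_zero' := Additive.toMul.injective (Subtype.ext (by
        show g * 1 * g⁻¹ = 1
        group))
      map_add' := fun a b => Additive.toMul.injective (Subtype.ext (by
        show g * ((Additive.toMul a : N) * (Additive.toMul b : N) : R) * g⁻¹ =
          (g * (Additive.toMul a : N) * g⁻¹) * (g * (Additive.toMul b : N) * g⁻¹)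
        group)) }
  have hfinj : ∀ g, Function.Injective (f g) := fun g a b h => by
    have h1 := congrArg (fun z => ((Additive.toMul z : N) : R)) h
    simp only [f, AddMonoidHom.coe_mk, ZeroHom.coe_mk, toMul_ofMul, mul_left_inj,
      mul_right_inj] at h1
    exact Additive.toMul.injective (Subtype.ext h1)
  have hfmul : ∀ g k m, f (g * k) m = f g (f k m) := fun g k m =>
    Additive.toMul.injective (Subtype.ext (by
      show g * k * (Additive.toMul m : N) * (g * k)⁻¹ = g * (k * (Additive.toMul m : N) * k⁻¹) * g⁻¹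
      group))
  have hlab0 : ∀ y, lab y = 0 ↔ y = x0 := fun y => by
    constructor
    · intro h
      have : nn y = 1 := congrArg (fun z => ((Additive.toMul z : N) : R)) h
      rw [← hnx y, this, one_smul]
    · rintro rfl
      exact Additive.toMul.injective (Subtype.ext (hreg _ (hnn y) (hnx y)))
  have hlab : ∀ g y, lab (g • y) = f g (lab y) + lab (g • x0) := fun g y => by
    refine Additive.toMul.injective (Subtype.ext ?_)
    show nn (g • y) = g * nn y * g⁻¹ * nn (g • x0)
    have e : g • y = (g * nn y * g⁻¹ * nn (g • x0)) • x0 := by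
      rw [mul_smul, hnx, mul_smul, inv_smul_smul, mul_smul, hnx]
    rw [e]
    exact hnn' _ (N.mul_mem (Subgroup.Normal.conj_mem ‹N.Normal› _ (hnn y) g) (hnn _))
  have hlabx : ∀ g : R, g • x0 = x0 → ∀ y, lab (g • y) = f g (lab y) := fun g hg y => by
    rw [hlab g y, hg, (hlab0 x0).2 rfl, add_zero]
  have htriv : ∀ g : R, g • x0 = x0 → (∀ m, f g m = m) → g = 1 := by
    intro g hg0 hf
    refine FaithfulSMul.eq_of_smul_eq_smul (α := α) fun x => ?_
    obtain ⟨m, hm, rfl⟩ := hNtr x0 x
    have h1 : g * m * g⁻¹ = m :=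
      congrArg (fun z => ((Additive.toMul z : N) : R)) (hf (Additive.ofMul ⟨m, hm⟩))
    rw [one_smul]
    calc g • m • x0 = (g * m * g⁻¹) • g • x0 := by
          rw [smul_smul, smul_smul]; congr 1; group
      _ = m • x0 := by rw [h1, hg0]
  have hN3 : ¬ 3 ∣ Nat.card N := fun h => absurd (Nat.dvd_gcd
    (h.trans (Subgroup.card_subgroup_dvd_card N)) dvd_rfl) (by rw [hcop]; norm_num)
  have hcardA : Nat.card (Additive N) = Nat.card N := rfl
  by_cases hexc : Nat.card N = 4 ∨ Nat.card N = 8 ∨ Nat.card N = 16
  swap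
  · obtain ⟨T, hT, -, -⟩ := exists_rigid hsf (fun h => hN3 (by rw [← hcardA, h]))
      (fun h => hexc (Or.inl h)) (fun h => hexc (Or.inr (Or.inl h)))
      (fun h => hN3 (by rw [← hcardA, h]; norm_num)) (fun h => hexc (Or.inr (Or.inr h)))
    refine ⟨fun y => if y = x0 then 2 else if lab y ∈ T then 1 else 0, fun g hg x => ?_⟩
    have hg0 : g • x0 = x0 := by
      by_contra hne
      have h := hg x0
      simp only [if_neg hne, if_true] at h
      split_ifs at h <;> exact absurd h (by decide)
    have hf : ∀ m, f g m = m := by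
      refine hT.2 _ (hfinj g) fun m hm => ?_
      set y := ((Additive.toMul m : N) : R) • x0
      have hy : lab y = m := Additive.toMul.injective (Subtype.ext (hnn' _ (Additive.toMul m).2))
      have hy0 : y ≠ x0 := fun e => hT.1 ((hlab0 y).2 e ▸ hy.symm ▸ hm)
      have hgy : g • y ≠ x0 := fun e => hy0 (MulAction.injective g (e.trans hg0.symm))
      have h := hg y
      simp only [if_neg hgy, if_neg hy0, hy, if_pos hm] at h
      rw [← hy, ← hlabx g hg0]
      by_contra hn
      rw [if_neg hn] at h
      exact absurd h (by decide)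
    rw [htriv g hg0 hf, one_smul]
  -- small regular subgroups
  obtain ⟨n, hn, hcardn⟩ : ∃ n, (n = 2 ∨ n = 3 ∨ n = 4) ∧ Nat.card N = 2 ^ n := by
    rcases hexc with h | h | h
    exacts [⟨2, by simp, h⟩, ⟨3, by simp, h⟩, ⟨4, by simp, h⟩]
  have h2 : ∀ x : Additive N, 2 • x = 0 := elementary_of_card hsf Nat.prime_two hcardn
  obtain ⟨hmod, n', hn', ⟨b⟩⟩ := exists_basis (q := 2) h2
  letI := hmod
  obtain rfl : n' = n := Nat.pow_right_injective le_rfl (hn'.symm.trans hcardn)
  let tab : R → List ℕ := fun g => (List.range (2 ^ n')).map (fn b (f g))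
  have hfid : ∀ g, isId n' (tab g) = true → ∀ m, f g m = m := fun g h =>
    eq_id_of_fn b (f g) (by simpa [isId] using h)
  have hone : tab 1 = List.range (2 ^ n') := by
    refine (List.map_congr_left (g := id) fun c hc => ?_).trans (List.map_id _)
    rw [List.mem_range] at hc
    show code b (f 1 (emb b c)) = c
    have : f 1 (emb b c) = emb b c := Additive.toMul.injective (Subtype.ext (by
      show (1 : R) * _ * (1 : R)⁻¹ = _
      group))
    rw [this, code_emb b hc]
  have hmulT : ∀ g k, tab (g * k) = comp (tab g) (tab k) := fun g k => by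
    simp only [tab, comp, List.map_map]
    refine List.map_congr_left fun c hc => ?_
    have := code_lt b (f k (emb b c))
    show code b (f (g * k) (emb b c)) = ((List.range (2 ^ n')).map (fn b (f g))).getD (fn b (f k) c) 0
    simp only [fn, List.getD_eq_getElem?_getD, List.getElem?_map, List.getElem?_range this,
      Option.map_some, Option.getD_some, emb_code, hfmul]
  have hpow : ∀ g k, tab (g ^ k) = power n' (tab g) k := fun g k => by
    induction k with
    | zero => rw [pow_zero, hone]; rfl
    | succ k ih => rw [pow_succ, hmulT, ih]; rfl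
  have hsound : ∀ (ok leaf : List ℕ → Bool) g,
      (∀ k, 1 ≤ k → k ≤ n' → ok ((List.range (2 ^ k)).map (fn b (f g))) = true) →
      search n' ok leaf n' [0] = true → leaf (tab g) = true := fun ok leaf g hok =>
    LinSearch.sound ok leaf _ (fn_spec b _).1 (fn_spec b _).2.1 ((fn_spec b _).2.2 (hfinj g)) hok
  by_cases h16 : n' = 4
  · subst h16
    refine ⟨fun y => ((colours.getD (code b (lab y)) 0 : ℕ) : ZMod 3), fun g hg x => ?_⟩
    set t := code b (lab (g • x0))
    have hcol : ∀ c, c < 2 ^ 4 →
        colours.getD (fn b (f g) c ^^^ t) 0 = colours.getD c 0 := fun c hc => by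
      have h := hg (((Additive.toMul (emb b c) : N) : R) • x0)
      set y := ((Additive.toMul (emb b c) : N) : R) • x0
      have hy : lab y = emb b c :=
        Additive.toMul.injective (Subtype.ext (hnn' _ (SetLike.coe_mem _)))
      have e : code b (lab (g • y)) = fn b (f g) c ^^^ t := by
        refine emb_inj b (code_lt b _) (Nat.xor_lt_two_pow (code_lt b _) (code_lt b _)) ?_
        rw [emb_code, emb_xor, emb_fn, emb_code, hlab g y, hy]
      have hb : ∀ i, colours.getD i 0 < 3 := fun i => by
        rcases Nat.lt_or_ge i 16 with h | h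
        · interval_cases i <;> decide
        · rw [List.getD_eq_default _ _ (by simpa [colours] using h)]; norm_num
      simp only [e, hy, code_emb b hc] at h
      have h2 := (ZMod.natCast_eq_natCast_iff' _ _ _).1 h
      rwa [Nat.mod_eq_of_lt (hb _), Nat.mod_eq_of_lt (hb _)] at h2
    have hs := sixteen
    simp only [List.all_eq_true, List.mem_range] at hs
    have hleaf := hsound _ _ g (fun k _ hk => by
      simp only [List.all_eq_true, List.mem_range, List.length_map, List.length_range, beq_iff_eq]
      intro c hc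
      rw [show ((List.range (2 ^ k)).map (fn b (f g))).getD c 0 = fn b (f g) c by
        simp [List.getD_eq_getElem?_getD, hc]]
      exact hcol c (lt_of_lt_of_le hc (Nat.pow_le_pow_right (by norm_num) hk)))
      (hs t (code_lt b _))
    simp only [Bool.and_eq_true, beq_iff_eq] at hleaf
    have hg0 : g • x0 = x0 := by
      refine (hlab0 _).1 ?_
      rw [← emb_code b (lab (g • x0))]
      show emb b t = 0
      rw [hleaf.2]
      simp [emb]
    rw [htriv g hg0 (hfid g hleaf.1), one_smul]
  -- the stabilizer of a point is then a two-group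
  refine ⟨fun y => if y = x0 then 2 else if code b (lab y) = 1 then 1 else 0, fun g hg x => ?_⟩
  have hg0 : g • x0 = x0 := by
    by_contra hne
    have h := hg x0
    simp only [if_neg hne, if_true] at h
    split_ifs at h <;> exact absurd h (by decide)
  have hone' : (1 : ℕ) < 2 ^ n' := Nat.one_lt_two_pow (by omega)
  suffices g = 1 by rw [this, one_smul]
  by_contra hgne
  set H := MulAction.stabilizer R x0 with hH
  have hid : ∀ k : R, k ∈ H → isId n' (tab k) = true → k = 1 :=
    fun k hk h => htriv k hk (hfid k h)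
  have hthree : ∀ k : R, k ∈ H → isId n' (power n' (tab k) 3) = true → k = 1 := by
    intro k hk h
    rw [← hpow] at h
    have h1 : k ^ 3 = 1 := hid _ (H.pow_mem hk 3) h
    exact orderOf_eq_one_iff.1 (Nat.dvd_one.1 (hcop ▸
      Nat.dvd_gcd (orderOf_dvd_natCard k) (orderOf_dvd_of_pow_eq_one h1)))
  -- a two-group would have a smaller normal subgroup
  have h2grp : ¬ ∀ k ∈ H, k ^ 4 = 1 := by
    intro h4
    haveI : MulAction.IsPretransitive R α := ⟨fun x y => by
      obtain ⟨n, -, h⟩ := hNtr x y; exact ⟨n, h⟩⟩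
    have hcardα : Nat.card α = 2 ^ n' := by
      rw [← hcardn]
      refine (Nat.card_congr (Equiv.ofBijective (fun n : N => (n : R) • x0) ⟨fun a c h => ?_,
        fun y => ⟨⟨nn y, hnn y⟩, hnx y⟩⟩)).symm
      exact Subtype.ext ((hnn' _ a.2).symm.trans ((congrArg nn h).trans (hnn' _ c.2)))
    haveI : Fact (Nat.Prime 2) := ⟨Nat.prime_two⟩
    have hHp : IsPGroup 2 H := fun k => ⟨2, Subtype.ext (h4 k k.2)⟩
    obtain ⟨a, ha⟩ := IsPGroup.iff_card.1 hHp
    have hR : IsPGroup 2 R := IsPGroup.of_card (n := n' + a) (by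
      rw [← Subgroup.card_mul_index H, ha, hH, MulAction.index_stabilizer_of_transitive, hcardα]
      ring)
    haveI : Nontrivial R := ⟨⟨g, 1, hgne⟩⟩
    haveI := hR.center_nontrivial
    obtain ⟨z, hz⟩ := exists_prime_orderOf_dvd_card' (G := Subgroup.center R) 2 (by
      obtain ⟨e, he⟩ := IsPGroup.iff_card.1 (hR.to_subgroup (Subgroup.center R))
      rw [he]
      refine dvd_pow_self 2 fun h0 => ?_
      rw [h0, pow_zero] at he
      exact absurd he (Finite.one_lt_card.ne'))
    have hzo : orderOf (z : R) = 2 := by rw [Subgroup.orderOf_coe, hz]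
    have hcent : ∀ a ∈ Subgroup.zpowers (z : R), ∀ r : R, r * a = a * r := fun a ha =>
      Subgroup.mem_center_iff.1 ((Subgroup.zpowers_le.2 z.2) ha)
    have := hmin (Subgroup.zpowers (z : R)) ⟨fun a ha r => by rw [hcent a ha, mul_inv_cancel_right]; exact ha⟩
      (fun e => by
        rw [Subgroup.zpowers_eq_bot] at e
        rw [e, orderOf_one] at hzo
        norm_num at hzo)
      fun a _ c hc => hcent c hc a
    rw [Nat.card_zpowers, hzo, hcardn] at this
    have : 2 ^ 2 ≤ 2 ^ n' := Nat.pow_le_pow_right (by norm_num) (by omega)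
    omega
  rcases hn with rfl | rfl | rfl
  · refine h2grp fun k hk => ?_
    have h := hsound _ _ k (fun _ _ _ => rfl) Three.four
    simp only [Bool.or_eq_true] at h
    rcases h with h | h
    · rw [← hpow] at h
      rw [pow_mul k 2 2, hid _ (H.pow_mem hk 2) h, one_pow]
    · rw [hthree k hk h, one_pow]
  · have hgH : g ∈ H := hg0
    -- the element has order two or four
    have hfix1 : f g (emb b 1) = emb b 1 := by
      have h := hg (((Additive.toMul (emb b 1) : N) : R) • x0)
      set y := ((Additive.toMul (emb b 1) : N) : R) • x0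
      have hy : lab y = emb b 1 :=
        Additive.toMul.injective (Subtype.ext (hnn' _ (SetLike.coe_mem _)))
      have hy0 : y ≠ x0 := fun e => by
        have h2 := code_emb b hone'
        rw [← hy, (hlab0 y).2 e, code_zero] at h2
        exact zero_ne_one h2
      have hgy : g • y ≠ x0 := fun e => hy0 (MulAction.injective g (e.trans hg0.symm))
      have e : code b (lab (g • y)) = 1 := by
        simp only [if_neg hgy, if_neg hy0, hy, code_emb b hone', if_true] at h
        by_contra hne
        rw [if_neg hne] at h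
        exact absurd h (by decide)
      calc f g (emb b 1) = lab (g • y) := by rw [← hy, hlabx g hg0 y]
        _ = emb b (code b (lab (g • y))) := (emb_code b _).symm
        _ = emb b 1 := by rw [e]
    have hne7 : ¬ isId 3 (power 3 (tab g) 7) = true := by
      intro h
      have hfix : fn b (f g) 1 = 1 := by rw [fn, hfix1, code_emb b hone']
      have h2 := LinSearch.sound (n := 3) (fun T => T.getD 1 0 == 1)
        (fun T => !isId 3 (power 3 T 7) || isId 3 T) (fn b (f g)) (fn_spec b _).1 (fn_spec b _).2.1
        ((fn_spec b _).2.2 (hfinj g)) (fun k hk _ => by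
          have : 1 < 2 ^ k := Nat.one_lt_two_pow (by omega)
          simp [List.getD_eq_getElem?_getD, this, hfix]) (by decide +kernel)
      simp only [Bool.or_eq_true, Bool.not_eq_true'] at h2
      rcases h2 with h2 | h2
      · rw [h] at h2; exact Bool.noConfusion h2
      · exact hgne (hid g hgH h2)
    have hord : g ^ 4 = 1 := by
      have h := hsound _ _ g (fun _ _ _ => rfl) Three.eight
      simp only [Bool.or_eq_true] at h
      rcases h with (h | h) | h
      · rw [← hpow] at h; exact hid _ (H.pow_mem hgH 4) h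
      · exact absurd (hthree g hgH h) hgne
      · exact absurd h hne7
    obtain ⟨t, htH, ht1, ht2⟩ : ∃ t ∈ H, t ≠ 1 ∧ t ^ 2 = 1 := by
      by_cases h : g ^ 2 = 1
      · exact ⟨g, hgH, hgne, h⟩
      · exact ⟨g ^ 2, H.pow_mem hgH 2, h, by rw [← pow_mul]; exact hord⟩
    refine h2grp fun k hk => ?_
    have h := hsound _ _ k (fun _ _ _ => rfl) Three.eight
    simp only [Bool.or_eq_true] at h
    rcases h with (h | h) | h
    · rw [← hpow] at h; exact hid _ (H.pow_mem hk 4) h
    · rw [hthree k hk h, one_pow]
    · by_cases hk1 : k = 1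
      · rw [hk1, one_pow]
      exfalso
      have hp := hsound _ _ k (fun _ _ _ => rfl) Three.eight_pair
      simp only [Bool.or_eq_true, Bool.not_eq_true'] at hp
      rcases hp with (h' | h') | h'
      · exact hk1 (hid k hk h')
      · rw [h] at h'; exact Bool.noConfusion h'
      · have hq := hsound _ _ t (fun _ _ _ => rfl) h'
        simp only [Bool.or_eq_true, Bool.not_eq_true', List.any_eq_true, List.mem_range,
          Bool.and_eq_true] at hq
        rcases hq with (h'' | h'') | ⟨j, -, h3, hne⟩
        · exact ht1 (hid t htH h'')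
        · rw [← hpow, ht2, hone] at h''
          simp [isId] at h''
        · rw [← hpow, ← hmulT] at hne h3
          have := hthree _ (H.mul_mem (H.pow_mem hk j) htH) h3
          rw [this, hone] at hne
          simp [isId] at hne
  · exact absurd rfl h16

/-- Solvable groups of order prime to three have such a colouring with three colours. -/
theorem exists_three : ∀ (n : ℕ) (G α : Type u) [Group G] [Finite G] [Group.IsSolvable G] [Finite α]
    [MulAction G α], Nat.card α = n → (Nat.card G).Coprime 3 → HasShift 3 G α := by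
  intro n
  induction n using Nat.strong_induction_on with
  | _ n ih =>
  intro G α _ _ _ _ _ hn hcop
  classical
  subst hn
  rcases isEmpty_or_nonempty α with hα | ⟨⟨x0⟩⟩
  · exact ⟨fun _ => 0, fun g _ x => (IsEmpty.false x).elim⟩
  by_cases htr : ∀ y : α, ∃ g : G, g • x0 = y
  swap
  · -- two invariant parts
    simp only [not_forall, not_exists] at htr
    obtain ⟨y0, hy0⟩ := htr
    set O := MulAction.orbit G x0 with hO
    have hOinv : ∀ (g : G), ∀ x ∈ O, g • x ∈ O := by
      rintro g x ⟨k, rfl⟩
      exact ⟨g * k, mul_smul g k x0⟩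
    have hOc : ∀ (g : G), ∀ x ∈ Oᶜ, g • x ∈ Oᶜ := fun g x hx hgx =>
      hx (by simpa using hOinv g⁻¹ _ hgx)
    have hlt : ∀ P : Set α, ∀ z, z ∉ P → Nat.card P < Nat.card α := fun P z hz => by
      rw [Nat.card_coe_set_eq, ← Set.ncard_univ]
      exact Set.ncard_lt_ncard (Set.ssubset_univ_iff.2 fun e => hz (e ▸ trivial)) (Set.toFinite _)
    letI a1 : MulAction G O :=
      { smul := fun g x => ⟨g • (x : α), hOinv g _ x.2⟩
        one_smul := fun x => Subtype.ext (one_smul G (x : α))
        mul_smul := fun g h x => Subtype.ext (mul_smul g h (x : α)) }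
    letI a2 : MulAction G ↥Oᶜ :=
      { smul := fun g x => ⟨g • (x : α), hOc g _ x.2⟩
        one_smul := fun x => Subtype.ext (one_smul G (x : α))
        mul_smul := fun g h x => Subtype.ext (mul_smul g h (x : α)) }
    obtain ⟨c1, h1⟩ := ih _ (hlt O y0 fun ⟨g, hg⟩ => hy0 g hg) G O rfl hcop
    obtain ⟨c2, h2⟩ := ih _ (hlt Oᶜ x0 fun h => h (MulAction.mem_orbit_self x0)) G ↥Oᶜ rfl hcop
    refine ⟨fun x => if h : x ∈ O then c1 ⟨x, h⟩ else c2 ⟨x, h⟩, fun g hg x => ?_⟩
    have k1 := h1 g fun z => by
      have := hg z.1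
      simp only [dif_pos (hOinv g _ z.2), dif_pos z.2] at this
      exact this
    have k2 := h2 g fun z => by
      have := hg z.1
      simp only [dif_neg (show g • (z : α) ∉ O from hOc g _ z.2), dif_neg (show (z : α) ∉ O from z.2)] at this
      exact this
    by_cases hx : x ∈ O
    · exact congrArg Subtype.val (k1 ⟨x, hx⟩)
    · exact congrArg Subtype.val (k2 ⟨x, hx⟩)
  -- the image is faithful
  let φ := MulAction.toPermHom G α
  haveI : Group.IsSolvable φ.range := Group.isSolvable_of_surjective φ.rangeRestrict_surjective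
  haveI : Finite φ.range := Finite.of_surjective φ.rangeRestrict φ.rangeRestrict_surjective
  have hcopR : (Nat.card φ.range).Coprime 3 := hcop.coprime_dvd_left (Subgroup.card_range_dvd φ)
  suffices h : HasShift 3 φ.range α by
    obtain ⟨c, hc⟩ := h
    exact ⟨c, fun g hg x => hc ⟨φ g, g, rfl⟩ hg x⟩
  haveI : MulAction.IsPretransitive φ.range α := ⟨fun a b => by
    obtain ⟨g, rfl⟩ := htr a
    obtain ⟨k, rfl⟩ := htr b
    exact ⟨⟨φ (k * g⁻¹), _, rfl⟩, by
      show (k * g⁻¹) • g • x0 = k • x0
      rw [smul_smul, inv_mul_cancel_right]⟩⟩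
  set R := φ.range
  rcases subsingleton_or_nontrivial R with hR | hR
  · exact ⟨fun _ => 0, fun g _ x => by rw [Subsingleton.elim g 1, one_smul]⟩
  have hex : ∃ A : Subgroup R, A.Normal ∧ A ≠ ⊥ ∧ ∀ a ∈ A, ∀ b ∈ A, a * b = b * a := by
    obtain ⟨m, hm⟩ := Group.IsSolvable.solvable (G := R)
    by_contra hall
    push Not at hall
    have hall' : ∀ i, derivedSeries R i ≠ ⊥ := by
      intro i
      induction i with
      | zero => rw [derivedSeries_zero]; exact top_ne_bot
      | succ i hi =>
        intro h0
        obtain ⟨a, ha, b, hb, hab⟩ := hall _ (derivedSeries_normal R i) hi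
        refine hab (commutatorElement_eq_one_iff_mul_comm.1 ?_)
        rw [← Subgroup.mem_bot, ← h0, derivedSeries_succ]
        exact Subgroup.commutator_mem_commutator ha hb
    exact hall' m hm
  obtain ⟨A, hA⟩ := hex
  obtain ⟨N, ⟨hNn, hN0, hNab⟩, hmin⟩ := Set.exists_min_image
    {A : Subgroup R | A.Normal ∧ A ≠ ⊥ ∧ ∀ a ∈ A, ∀ b ∈ A, a * b = b * a}
    (fun A => Nat.card A) (Set.toFinite _) ⟨A, hA⟩
  haveI := hNn
  by_cases hNtr : ∀ x y : α, ∃ n ∈ N, n • x = y
  · exact hasShift_regular hcopR N hNab hN0
      (fun A h1 h2 h3 => hmin A ⟨h1, h2, h3⟩) hNtr x0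
  -- blocks
  simp only [not_forall] at hNtr
  obtain ⟨a, b, hab⟩ := hNtr
  let s : Setoid α :=
    { r := fun a b => ∃ n ∈ N, n • a = b
      iseqv :=
        { refl := fun a => ⟨1, N.one_mem, one_smul R a⟩
          symm := fun ⟨n, hn, e⟩ => ⟨n⁻¹, N.inv_mem hn, by rw [← e, inv_smul_smul]⟩
          trans := fun ⟨n, hn, e⟩ ⟨m, hm, f⟩ =>
            ⟨m * n, N.mul_mem hm hn, by rw [mul_smul, e, f]⟩ } }
  have hresp : ∀ (g : R) (a b : α), s a b → s (g • a) (g • b) := by
    rintro g a b ⟨n, hn, rfl⟩
    exact ⟨g * n * g⁻¹, Subgroup.Normal.conj_mem hNn n hn g, by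
      rw [mul_smul, mul_smul, inv_smul_smul]⟩
  letI : MulAction R (Quotient s) :=
    { smul := fun g q => Quotient.map (fun a => g • a) (fun a b h => hresp g a b h) q
      one_smul := fun q => Quotient.inductionOn q fun a => congrArg _ (one_smul R a)
      mul_smul := fun g k q => Quotient.inductionOn q fun a => congrArg _ (mul_smul g k a) }
  let π : α → Quotient s := Quotient.mk s
  have hπ : ∀ (g : R) (x : α), π (g • x) = g • π x := fun _ _ => rfl
  have hβlt : Nat.card (Quotient s) < Nat.card α := by
    refine lt_of_le_of_ne (Nat.card_le_card_of_surjective _ Quotient.mk_surjective) fun e => ?_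
    obtain ⟨n, hn, hn1⟩ : ∃ n ∈ N, n ≠ 1 := (Subgroup.bot_or_exists_ne_one N).resolve_left hN0
    refine hn1 (FaithfulSMul.eq_of_smul_eq_smul (α := α) fun z => ?_)
    rw [one_smul]
    exact (((Nat.bijective_iff_surjective_and_card _).2 ⟨Quotient.mk_surjective, e.symm⟩).1
      (Quotient.sound ⟨n, hn, rfl⟩ : π z = π (n • z))).symm
  let b0 := π x0
  have htq : ∀ q, ∃ g : R, g • b0 = q := fun q => by
    induction q using Quotient.inductionOn with
    | _ y =>
      obtain ⟨g, hg⟩ := MulAction.exists_smul_eq R x0 y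
      exact ⟨g, by rw [← hπ, hg]⟩
  choose t ht using htq
  let F : Set α := {x | π x = b0}
  letI aF : MulAction (MulAction.stabilizer R b0) F :=
    { smul := fun g x => ⟨(g : R) • (x : α), by
        show π _ = b0
        rw [hπ, x.2]; exact g.2⟩
      one_smul := fun x => Subtype.ext (one_smul R (x : α))
      mul_smul := fun g h x => Subtype.ext (mul_smul (g : R) (h : R) (x : α)) }
  haveI : Nonempty F := ⟨⟨x0, rfl⟩⟩
  have hFlt : Nat.card F < Nat.card α := by
    rw [Nat.card_coe_set_eq, ← Set.ncard_univ]
    refine Set.ncard_lt_ncard (Set.ssubset_univ_iff.2 fun e => hab ?_) (Set.toFinite _)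
    have ha : π a = b0 := (show a ∈ F by rw [e]; trivial)
    have hb : π b = b0 := (show b ∈ F by rw [e]; trivial)
    exact Quotient.exact (ha.trans hb.symm)
  haveI : Group.IsSolvable (MulAction.stabilizer R b0) :=
    solvable_of_solvable_injective (f := (MulAction.stabilizer R b0).subtype) Subtype.val_injective
  haveI : Fact (Nat.Prime 3) := ⟨Nat.prime_three⟩
  have hcopS : (Nat.card (MulAction.stabilizer R b0)).Coprime 3 :=
    hcopR.coprime_dvd_left (Subgroup.card_subgroup_dvd_card _)
  obtain ⟨cF, hcF⟩ := ih _ hFlt (MulAction.stabilizer R b0) F rfl hcopS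
  obtain ⟨T, hT⟩ := ih _ hβlt R (Quotient s) rfl hcopR
  refine ⟨fun x => cF ⟨(t (π x))⁻¹ • x, by
    show π _ = b0
    rw [hπ, inv_smul_eq_iff, ht]⟩ + T (π x), fun g hg x => ?_⟩
  have hs : ∀ q, (t (g • q))⁻¹ * g * t q ∈ MulAction.stabilizer R b0 := fun q => by
    rw [MulAction.mem_stabilizer_iff, mul_smul, mul_smul, ht, inv_smul_eq_iff, ht]
  have hblock : ∀ q, T (g • q) = T q ∧
      ∀ y : F, (⟨_, hs q⟩ : MulAction.stabilizer R b0) • y = y := by
    intro q
    have key : ∀ y : F, cF ((⟨_, hs q⟩ : MulAction.stabilizer R b0) • y) =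
        cF y + (T q - T (g • q)) := fun y => by
      have h1 : π (t q • (y : α)) = q := by rw [hπ, show π (y : α) = b0 from y.2, ht]
      have h := hg (t q • (y : α))
      rw [← add_sub_assoc, eq_sub_iff_add_eq]
      convert h using 2
      · congr 1
        apply Subtype.ext
        show ((t (g • q))⁻¹ * g * t q) • (y : α) = (t (π (g • t q • (y : α))))⁻¹ • g • t q • (y : α)
        rw [mul_smul, mul_smul, hπ, h1]
      · rw [hπ, h1]
      · congr 1
        apply Subtype.ext
        show (y : α) = (t (π (t q • (y : α))))⁻¹ • t q • (y : α)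
        rw [h1, inv_smul_smul]
      · rw [h1]
    have hd := shift_eq hcopS key
    exact ⟨(sub_eq_zero.1 hd).symm, hcF _ fun y => by rw [key y, hd, add_zero]⟩
  have hfix : ∀ q : Quotient s, g • q = q := hT g fun q => (hblock q).1
  set q := π x with hq
  have h := congrArg Subtype.val ((hblock q).2 ⟨(t q)⁻¹ • x, by
    show π _ = b0
    rw [hπ, ← hq, inv_smul_eq_iff, ht]⟩)
  change ((t (g • q))⁻¹ * g * t q) • ((t q)⁻¹ • x) = (t q)⁻¹ • x at h
  rw [hfix q, mul_smul, mul_smul, smul_inv_smul] at h
  exact MulAction.injective _ h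

/-- Solvable groups of order prime to an odd prime `p` have such a colouring with `p` colours. -/
theorem exists_shift (p : ℕ) [hp : Fact p.Prime] (hp2 : p ≠ 2) (G α : Type u) [Group G] [Finite G]
    [Group.IsSolvable G] [Finite α] [MulAction G α] (hcop : (Nat.card G).Coprime p) :
    HasShift p G α := by
  by_cases h3 : p = 3
  · subst h3
    exact exists_three _ G α rfl hcop
  · have h5 : 5 ≤ p := by
      have := hp.out.two_le
      by_contra hlt
      have : p = 4 := by omega
      exact absurd hp.out (by rw [this]; norm_num)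
    obtain ⟨c, hc⟩ := SolvBase.exists_colour _ G α rfl
    refine ⟨fun x => ((c x : ℕ) : ZMod p), fun g hg => hc g fun x => Fin.ext ?_⟩
    have := congrArg ZMod.val (hg x)
    rwa [ZMod.val_natCast_of_lt (lt_of_lt_of_le (c _).2 h5),
      ZMod.val_natCast_of_lt (lt_of_lt_of_le (c _).2 h5)] at this

end CfsgLib.Perm.CoprimeBase
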