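import Cfsg.Agent.Lib.Perm.OddBase.Idem
import Cfsg.Agent.Lib.Perm.CoprimeBase.Colour

/-!
# Bases of size two for coprime solvable linear groups: first reductions
-/

namespace CfsgLib.Perm.CoprimeBase

universe u

open CfsgLib.Perm.OddBase

/-- The main statement for modules with fewer than `n` elements. -/
def CoprimeBelow (p n : ℕ) : Prop :=
  ∀ (G V : Type u) [Group G] [Finite G] [Group.IsSolvable G] [AddCommGroup V] [Finite V]
    [DistribMulAction G V], Nat.card V < n → (∀ x : V, p • x = 0) → (Nat.card G).Coprime p →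
      HasPair G V

variable {G V : Type u} [Group G] [AddCommGroup V] [DistribMulAction G V]

/-- Maschke's theorem. -/
theorem isCR_of_coprime [Finite G] [Finite V] {p : ℕ} [Fact p.Prime] (hp : ∀ x : V, p • x = 0)
    (hcop : (Nat.card G).Coprime p) : IsCR G V := by
  classical
  haveI : Fintype G := Fintype.ofFinite G
  letI : Module (ZMod p) V := AddCommGroup.zmodModule (n := p) hp
  intro U hU
  let S : Submodule (ZMod p) V := AddSubgroup.toZModSubmodule p U
  obtain ⟨S', hS'⟩ := Submodule.exists_isCompl S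
  let π : V →ₗ[ZMod p] V := S.subtype.comp (Submodule.linearProjOfIsCompl S S' hS')
  have hπU : ∀ x, π x ∈ U := fun x => (Submodule.linearProjOfIsCompl S S' hS' x).2
  have hπid : ∀ u ∈ U, π u = u := fun u hu =>
    congrArg Subtype.val (Submodule.linearProjOfIsCompl_apply_left hS' ⟨u, hu⟩)
  set c : ZMod p := ((Nat.card G : ZMod p))⁻¹ with hc
  have hc1 : c * (Nat.card G : ZMod p) = 1 := by
    refine inv_mul_cancel₀ fun h0 => ?_
    rw [ZMod.natCast_eq_zero_iff] at h0
    exact (Fact.out : p.Prime).one_lt.ne' (Nat.dvd_one.1 (hcop ▸ Nat.dvd_gcd h0 dvd_rfl))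
  have hsmul : ∀ (g : G) (a : ZMod p) (x : V), g • (a • x) = a • (g • x) := fun g a x =>
    ZMod.map_smul (DistribMulAction.toAddMonoidHom V g) a x
  let av : V → V := fun x => c • ∑ g : G, g • π (g⁻¹ • x)
  have hadd : ∀ x y, av (x + y) = av x + av y := fun x y => by
    simp only [av, smul_add, map_add, Finset.sum_add_distrib]
  have havU : ∀ x, av x ∈ U := fun x =>
    (AddSubgroup.toZModSubmodule p U).smul_mem c
      (U.sum_mem fun g _ => hU g _ (hπU _))
  have havid : ∀ u ∈ U, av u = u := fun u hu => by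
    simp only [av]
    rw [Finset.sum_congr rfl fun g _ => by rw [hπid _ (hU g⁻¹ u hu), smul_inv_smul],
      Finset.sum_const, Finset.card_univ, ← Nat.card_eq_fintype_card,
      ← Nat.cast_smul_eq_nsmul (ZMod p), smul_smul, hc1, one_smul]
  have heq : ∀ (k : G) x, av (k • x) = k • av x := fun k x => by
    simp only [av]
    rw [hsmul, Finset.smul_sum (r := k)]
    congr 1
    refine Fintype.sum_equiv (Equiv.mulLeft k⁻¹) _ _ fun g => ?_
    simp only [Equiv.coe_mulLeft, mul_inv_rev, inv_inv, mul_smul, smul_inv_smul]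
  let W : AddSubgroup V := (AddMonoidHom.mk' av hadd).ker
  refine ⟨W, fun g x hx => ?_, ?_, ?_⟩
  · show av (g • x) = 0
    rw [heq, show av x = 0 from hx, smul_zero]
  · refine (AddSubgroup.eq_bot_iff_forall _).2 fun x hx => ?_
    rw [← havid x hx.1]; exact hx.2
  · refine (AddSubgroup.eq_top_iff' _).2 fun x => AddSubgroup.mem_sup.2
      ⟨av x, havU x, x - av x, ?_, add_sub_cancel _ _⟩
    show (AddMonoidHom.mk' av hadd) (x - av x) = 0
    rw [map_sub]
    show av x - av (av x) = 0
    rw [havid _ (havU x), sub_self]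

/-- From one pair we get `p` pairs in different orbits. -/
theorem shift_pairs [Finite G] [Nontrivial V] {p : ℕ} [Fact p.Prime] (hp : ∀ x : V, p • x = 0)
    (hcop : (Nat.card G).Coprime p) (h : HasPair G V) :
    ∃ P : ZMod p → V × V, ∀ (g : G) (i j : ZMod p), g • P i = P j →
      i = j ∧ ∀ x : V, g • x = x := by
  letI : Module (ZMod p) V := AddCommGroup.zmodModule (n := p) hp
  obtain ⟨a, b, ha, hab⟩ : ∃ a b : V, a ≠ 0 ∧
      ∀ g : G, g • a = a → g • b = b → ∀ x : V, g • x = x := by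
    obtain ⟨v, w, hvw⟩ := h
    by_cases hv : v = 0
    · by_cases hw : w = 0
      · obtain ⟨z, hz⟩ := exists_ne (0 : V)
        exact ⟨z, 0, hz, fun g _ _ => hvw g (by rw [hv, smul_zero]) (by rw [hw, smul_zero])⟩
      · exact ⟨w, v, hw, fun g h1 h2 => hvw g h2 h1⟩
    · exact ⟨v, w, hv, hvw⟩
  refine ⟨fun i => (a, b + i • a), fun g i j hg => ?_⟩
  rw [Prod.smul_mk, Prod.mk.injEq] at hg
  obtain ⟨h1, h2⟩ := hg
  have hsmul : ∀ (k : ZMod p) (x : V), g • (k • x) = k • (g • x) := fun k x =>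
    ZMod.map_smul (DistribMulAction.toAddMonoidHom V g) k x
  rw [smul_add, hsmul, h1] at h2
  have h3 : g • b = b + (j - i) • a := by
    rw [sub_smul, ← add_sub_assoc, eq_sub_iff_add_eq]
    exact h2
  have hk : ∀ k : ℕ, g ^ k • b = b + ((k : ZMod p) * (j - i)) • a := by
    intro k
    induction k with
    | zero => simp
    | succ k ih =>
      have e : g ^ (k + 1) • b = g • (g ^ k • b) := by rw [pow_succ', mul_smul]
      rw [e, ih, smul_add, hsmul, h1, h3, add_assoc, ← add_smul]
      push_cast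
      ring_nf
  have hd : j - i = 0 := by
    have h4 := hk (orderOf g)
    rw [pow_orderOf_eq_one, one_smul, left_eq_add, smul_eq_zero] at h4
    refine (mul_eq_zero.1 (h4.resolve_right ha)).resolve_left fun h0 => ?_
    rw [ZMod.natCast_eq_zero_iff] at h0
    exact (Fact.out : p.Prime).one_lt.ne'
      (Nat.dvd_one.1 (hcop ▸ Nat.dvd_gcd (h0.trans (orderOf_dvd_natCard g)) dvd_rfl))
  exact ⟨(sub_eq_zero.1 hd).symm, hab g h1 (by rw [h3, hd, zero_smul, add_zero])⟩

/-- Reducible modules. -/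
theorem hasPair_reducible [Finite G] [Group.IsSolvable G] [Finite V] {p : ℕ}
    (hp : ∀ x : V, p • x = 0) (hcop : (Nat.card G).Coprime p)
    (IH : CoprimeBelow.{u} p (Nat.card V)) (hcr : IsCR G V) (hred : ¬ IsIrred G V) :
    HasPair G V := by
  simp only [IsIrred, not_forall, not_or] at hred
  obtain ⟨U, hU, hbot, htop⟩ := hred
  obtain ⟨W, hW, h1, h2⟩ := hcr U hU
  have hWtop : W ≠ ⊤ := by
    rintro rfl
    exact hbot (by simpa using h1)
  have hlt : ∀ X : AddSubgroup V, X ≠ ⊤ → Nat.card X < Nat.card V := fun X hX =>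
    lt_of_le_of_ne (AddSubgroup.card_le_card_addGroup X)
      fun e => hX (AddSubgroup.eq_top_of_card_eq X e)
  obtain ⟨a₁, b₁, k₁⟩ := @IH G U _ _ _ _ _ (subAction U hU) (hlt U htop)
    (fun x => Subtype.ext (hp x)) hcop
  obtain ⟨a₂, b₂, k₂⟩ := @IH G W _ _ _ _ _ (subAction W hW) (hlt W hWtop)
    (fun x => Subtype.ext (hp x)) hcop
  have hd : Disjoint U W := disjoint_iff.2 h1
  refine ⟨(a₁ : V) + a₂, (b₁ : V) + b₂, fun g ha hb => ?_⟩
  rw [smul_add] at ha hb
  have split : ∀ (p : U) (q : W), g • (p : V) + g • (q : V) = (p : V) + q →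
      g • (p : V) = p ∧ g • (q : V) = q := by
    intro p q hpq
    have := AddSubgroup.disjoint_def.1 hd (U.sub_mem (hU g _ p.2) p.2)
      (x := g • (p : V) - p) (by
        have e : g • (p : V) - p = (q : V) - g • (q : V) := by
          rw [sub_eq_sub_iff_add_eq_add, hpq]; abel
        rw [e]
        exact W.sub_mem q.2 (hW g _ q.2))
    have e1 : g • (p : V) = p := sub_eq_zero.1 this
    exact ⟨e1, by rw [e1] at hpq; exact add_left_cancel hpq⟩
  obtain ⟨pa, qa⟩ := split a₁ a₂ ha
  obtain ⟨pb, qb⟩ := split b₁ b₂ hb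
  intro x
  have : x ∈ U ⊔ W := by rw [h2]; trivial
  obtain ⟨u, hu, w, hw, rfl⟩ := AddSubgroup.mem_sup.1 this
  rw [smul_add]
  have e1 := congrArg Subtype.val (k₁ g (Subtype.ext pa) (Subtype.ext pb) ⟨u, hu⟩)
  have e2 := congrArg Subtype.val (k₂ g (Subtype.ext qa) (Subtype.ext qb) ⟨w, hw⟩)
  exact congrArg₂ (· + ·) e1 e2

end CfsgLib.Perm.CoprimeBase
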