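import Cfsg.Agent.Lib.Perm.CoprimeBase.CheckArith

/-!
# Certificates: five2
-/

namespace CfsgLib.Perm.CoprimeBase

namespace Check

def five2Gens : List Op := [[[(1,1)],[(0,1)],[(3,1)],[(2,1)]],
  [[(0,1)],[(1,4)],[(2,1)],[(3,4)]],
  [[(2,1)],[(3,1)],[(0,1)],[(1,1)]],
  [[(0,1)],[(1,1)],[(2,4)],[(3,4)]]]

def five2Els : List Op := [
  [[(0,1)],[(1,1)],[(2,1)],[(3,1)]],
  [[(1,1)],[(0,1)],[(3,1)],[(2,1)]],
  [[(0,1)],[(1,4)],[(2,1)],[(3,4)]],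
  [[(1,4)],[(0,1)],[(3,4)],[(2,1)]],
  [[(2,1)],[(3,1)],[(0,1)],[(1,1)]],
  [[(3,1)],[(2,1)],[(1,1)],[(0,1)]],
  [[(2,1)],[(3,4)],[(0,1)],[(1,4)]],
  [[(3,4)],[(2,1)],[(1,4)],[(0,1)]],
  [[(0,1)],[(1,1)],[(2,4)],[(3,4)]],
  [[(1,1)],[(0,1)],[(3,4)],[(2,4)]],
  [[(0,1)],[(1,4)],[(2,4)],[(3,1)]],
  [[(1,4)],[(0,1)],[(3,1)],[(2,4)]],
  [[(2,4)],[(3,4)],[(0,1)],[(1,1)]],
  [[(3,4)],[(2,4)],[(1,1)],[(0,1)]],
  [[(2,4)],[(3,1)],[(0,1)],[(1,4)]],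
  [[(3,1)],[(2,4)],[(1,4)],[(0,1)]]]

def five2Cands (σ : ℕ) : List (ℕ × Op) := candsOf ar5 4 five2Els σ

def five2V : Vec := [4,2,2,2]
def five2W : Vec := [4,4,1,3]
def five2Levels : List Level := [
  ⟨five2Gens.getD 3 [], 8, five2Cands 1, [],
    [(0, none),(1, none)]⟩,
  ⟨five2Gens.getD 1 [], 2, five2Cands 1, [(0,false)],
    [(0, some [(1,3),(2,3)]),(1, some [(0,4),(3,2)]),(2, some [(0,3),(3,3)]),(3, some [(1,2),(2,4)])]⟩,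
  ⟨five2Gens.getD 0 [], 1, five2Cands 1, [(0,false),(1,true)],
    [(0, some [(1,2),(2,4),(3,2)]),(1, some [(0,1),(2,4),(3,1)]),(2, some [(0,4),(1,2),(3,2)]),(3, some [(0,4),(1,1),(2,1)])]⟩,
  ⟨five2Gens.getD 2 [], 4, five2Cands 1, [(0,true),(1,false),(2,false)],
    [(0, some [(1,1),(3,2)]),(1, some [(0,3),(2,1)]),(2, some [(1,3),(3,4)]),(3, some [(0,4),(2,2)])]⟩]

def five2Ex : List (List (ℕ × ℕ)) := [[(0,4),(1,3),(2,4),(3,3)],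
  [(0,1),(1,4),(2,1),(3,4)],
  [(0,1),(1,1),(2,4),(3,4)],
  [(0,3),(1,4),(2,2),(3,1)]]

def five2Allowed : List (List Vec) := [units 4]

theorem five2_ok : certOK ar5 4 2 five2V five2W five2Levels five2Ex = true := by decide +kernel

theorem five2_cert : cert ar5 4 2 five2V five2W five2Levels five2Ex five2Allowed = true := by decide +kernel

end Check

end CfsgLib.Perm.CoprimeBase
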