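import Cfsg.Agent.Lib.Perm.CoprimeBase.CheckArith

/-!
# Certificates: five3
-/

namespace CfsgLib.Perm.CoprimeBase

namespace Check

def five3Gens : List Op := [[[(1,1)],[(0,1)],[(3,1)],[(2,1)],[(5,1)],[(4,1)],[(7,1)],[(6,1)]],
  [[(0,1)],[(1,4)],[(2,1)],[(3,4)],[(4,1)],[(5,4)],[(6,1)],[(7,4)]],
  [[(2,1)],[(3,1)],[(0,1)],[(1,1)],[(6,1)],[(7,1)],[(4,1)],[(5,1)]],
  [[(0,1)],[(1,1)],[(2,4)],[(3,4)],[(4,1)],[(5,1)],[(6,4)],[(7,4)]],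
  [[(4,1)],[(5,1)],[(6,1)],[(7,1)],[(0,1)],[(1,1)],[(2,1)],[(3,1)]],
  [[(0,1)],[(1,1)],[(2,1)],[(3,1)],[(4,4)],[(5,4)],[(6,4)],[(7,4)]]]

def five3Els : List Op := [
  [[(0,1)],[(1,1)],[(2,1)],[(3,1)],[(4,1)],[(5,1)],[(6,1)],[(7,1)]],
  [[(1,1)],[(0,1)],[(3,1)],[(2,1)],[(5,1)],[(4,1)],[(7,1)],[(6,1)]],
  [[(0,1)],[(1,4)],[(2,1)],[(3,4)],[(4,1)],[(5,4)],[(6,1)],[(7,4)]],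
  [[(1,4)],[(0,1)],[(3,4)],[(2,1)],[(5,4)],[(4,1)],[(7,4)],[(6,1)]],
  [[(2,1)],[(3,1)],[(0,1)],[(1,1)],[(6,1)],[(7,1)],[(4,1)],[(5,1)]],
  [[(3,1)],[(2,1)],[(1,1)],[(0,1)],[(7,1)],[(6,1)],[(5,1)],[(4,1)]],
  [[(2,1)],[(3,4)],[(0,1)],[(1,4)],[(6,1)],[(7,4)],[(4,1)],[(5,4)]],
  [[(3,4)],[(2,1)],[(1,4)],[(0,1)],[(7,4)],[(6,1)],[(5,4)],[(4,1)]],
  [[(0,1)],[(1,1)],[(2,4)],[(3,4)],[(4,1)],[(5,1)],[(6,4)],[(7,4)]],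
  [[(1,1)],[(0,1)],[(3,4)],[(2,4)],[(5,1)],[(4,1)],[(7,4)],[(6,4)]],
  [[(0,1)],[(1,4)],[(2,4)],[(3,1)],[(4,1)],[(5,4)],[(6,4)],[(7,1)]],
  [[(1,4)],[(0,1)],[(3,1)],[(2,4)],[(5,4)],[(4,1)],[(7,1)],[(6,4)]],
  [[(2,4)],[(3,4)],[(0,1)],[(1,1)],[(6,4)],[(7,4)],[(4,1)],[(5,1)]],
  [[(3,4)],[(2,4)],[(1,1)],[(0,1)],[(7,4)],[(6,4)],[(5,1)],[(4,1)]],
  [[(2,4)],[(3,1)],[(0,1)],[(1,4)],[(6,4)],[(7,1)],[(4,1)],[(5,4)]],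
  [[(3,1)],[(2,4)],[(1,4)],[(0,1)],[(7,1)],[(6,4)],[(5,4)],[(4,1)]],
  [[(4,1)],[(5,1)],[(6,1)],[(7,1)],[(0,1)],[(1,1)],[(2,1)],[(3,1)]],
  [[(5,1)],[(4,1)],[(7,1)],[(6,1)],[(1,1)],[(0,1)],[(3,1)],[(2,1)]],
  [[(4,1)],[(5,4)],[(6,1)],[(7,4)],[(0,1)],[(1,4)],[(2,1)],[(3,4)]],
  [[(5,4)],[(4,1)],[(7,4)],[(6,1)],[(1,4)],[(0,1)],[(3,4)],[(2,1)]],
  [[(6,1)],[(7,1)],[(4,1)],[(5,1)],[(2,1)],[(3,1)],[(0,1)],[(1,1)]],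
  [[(7,1)],[(6,1)],[(5,1)],[(4,1)],[(3,1)],[(2,1)],[(1,1)],[(0,1)]],
  [[(6,1)],[(7,4)],[(4,1)],[(5,4)],[(2,1)],[(3,4)],[(0,1)],[(1,4)]],
  [[(7,4)],[(6,1)],[(5,4)],[(4,1)],[(3,4)],[(2,1)],[(1,4)],[(0,1)]],
  [[(4,1)],[(5,1)],[(6,4)],[(7,4)],[(0,1)],[(1,1)],[(2,4)],[(3,4)]],
  [[(5,1)],[(4,1)],[(7,4)],[(6,4)],[(1,1)],[(0,1)],[(3,4)],[(2,4)]],
  [[(4,1)],[(5,4)],[(6,4)],[(7,1)],[(0,1)],[(1,4)],[(2,4)],[(3,1)]],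
  [[(5,4)],[(4,1)],[(7,1)],[(6,4)],[(1,4)],[(0,1)],[(3,1)],[(2,4)]],
  [[(6,4)],[(7,4)],[(4,1)],[(5,1)],[(2,4)],[(3,4)],[(0,1)],[(1,1)]],
  [[(7,4)],[(6,4)],[(5,1)],[(4,1)],[(3,4)],[(2,4)],[(1,1)],[(0,1)]],
  [[(6,4)],[(7,1)],[(4,1)],[(5,4)],[(2,4)],[(3,1)],[(0,1)],[(1,4)]],
  [[(7,1)],[(6,4)],[(5,4)],[(4,1)],[(3,1)],[(2,4)],[(1,4)],[(0,1)]],
  [[(0,1)],[(1,1)],[(2,1)],[(3,1)],[(4,4)],[(5,4)],[(6,4)],[(7,4)]],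
  [[(1,1)],[(0,1)],[(3,1)],[(2,1)],[(5,4)],[(4,4)],[(7,4)],[(6,4)]],
  [[(0,1)],[(1,4)],[(2,1)],[(3,4)],[(4,4)],[(5,1)],[(6,4)],[(7,1)]],
  [[(1,4)],[(0,1)],[(3,4)],[(2,1)],[(5,1)],[(4,4)],[(7,1)],[(6,4)]],
  [[(2,1)],[(3,1)],[(0,1)],[(1,1)],[(6,4)],[(7,4)],[(4,4)],[(5,4)]],
  [[(3,1)],[(2,1)],[(1,1)],[(0,1)],[(7,4)],[(6,4)],[(5,4)],[(4,4)]],
  [[(2,1)],[(3,4)],[(0,1)],[(1,4)],[(6,4)],[(7,1)],[(4,4)],[(5,1)]],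
  [[(3,4)],[(2,1)],[(1,4)],[(0,1)],[(7,1)],[(6,4)],[(5,1)],[(4,4)]],
  [[(0,1)],[(1,1)],[(2,4)],[(3,4)],[(4,4)],[(5,4)],[(6,1)],[(7,1)]],
  [[(1,1)],[(0,1)],[(3,4)],[(2,4)],[(5,4)],[(4,4)],[(7,1)],[(6,1)]],
  [[(0,1)],[(1,4)],[(2,4)],[(3,1)],[(4,4)],[(5,1)],[(6,1)],[(7,4)]],
  [[(1,4)],[(0,1)],[(3,1)],[(2,4)],[(5,1)],[(4,4)],[(7,4)],[(6,1)]],
  [[(2,4)],[(3,4)],[(0,1)],[(1,1)],[(6,1)],[(7,1)],[(4,4)],[(5,4)]],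
  [[(3,4)],[(2,4)],[(1,1)],[(0,1)],[(7,1)],[(6,1)],[(5,4)],[(4,4)]],
  [[(2,4)],[(3,1)],[(0,1)],[(1,4)],[(6,1)],[(7,4)],[(4,4)],[(5,1)]],
  [[(3,1)],[(2,4)],[(1,4)],[(0,1)],[(7,4)],[(6,1)],[(5,1)],[(4,4)]],
  [[(4,4)],[(5,4)],[(6,4)],[(7,4)],[(0,1)],[(1,1)],[(2,1)],[(3,1)]],
  [[(5,4)],[(4,4)],[(7,4)],[(6,4)],[(1,1)],[(0,1)],[(3,1)],[(2,1)]],
  [[(4,4)],[(5,1)],[(6,4)],[(7,1)],[(0,1)],[(1,4)],[(2,1)],[(3,4)]],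
  [[(5,1)],[(4,4)],[(7,1)],[(6,4)],[(1,4)],[(0,1)],[(3,4)],[(2,1)]],
  [[(6,4)],[(7,4)],[(4,4)],[(5,4)],[(2,1)],[(3,1)],[(0,1)],[(1,1)]],
  [[(7,4)],[(6,4)],[(5,4)],[(4,4)],[(3,1)],[(2,1)],[(1,1)],[(0,1)]],
  [[(6,4)],[(7,1)],[(4,4)],[(5,1)],[(2,1)],[(3,4)],[(0,1)],[(1,4)]],
  [[(7,1)],[(6,4)],[(5,1)],[(4,4)],[(3,4)],[(2,1)],[(1,4)],[(0,1)]],
  [[(4,4)],[(5,4)],[(6,1)],[(7,1)],[(0,1)],[(1,1)],[(2,4)],[(3,4)]],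
  [[(5,4)],[(4,4)],[(7,1)],[(6,1)],[(1,1)],[(0,1)],[(3,4)],[(2,4)]],
  [[(4,4)],[(5,1)],[(6,1)],[(7,4)],[(0,1)],[(1,4)],[(2,4)],[(3,1)]],
  [[(5,1)],[(4,4)],[(7,4)],[(6,1)],[(1,4)],[(0,1)],[(3,1)],[(2,4)]],
  [[(6,1)],[(7,1)],[(4,4)],[(5,4)],[(2,4)],[(3,4)],[(0,1)],[(1,1)]],
  [[(7,1)],[(6,1)],[(5,4)],[(4,4)],[(3,4)],[(2,4)],[(1,1)],[(0,1)]],
  [[(6,1)],[(7,4)],[(4,4)],[(5,1)],[(2,4)],[(3,1)],[(0,1)],[(1,4)]],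
  [[(7,4)],[(6,1)],[(5,1)],[(4,4)],[(3,1)],[(2,4)],[(1,4)],[(0,1)]]]

def five3Cands (σ : ℕ) : List (ℕ × Op) := candsOf ar5 8 five3Els σ

def five3V : Vec := [1,4,4,2,0,0,0,0]
def five3W : Vec := [1,2,3,3,4,3,4,0]
def five3Levels : List Level := [
  ⟨five3Gens.getD 5 [], 32, five3Cands 1, [],
    [(0, some [(0,1)]),(1, none)]⟩,
  ⟨five3Gens.getD 1 [], 2, five3Cands 1, [(0,false)],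
    [(0, none),(1, none),(2, none)]⟩,
  ⟨five3Gens.getD 3 [], 8, five3Cands 1, [(0,false),(1,false)],
    [(0, some [(1,4),(2,4),(3,3)]),(1, none),(2, some [(0,3),(4,2),(5,2),(6,4)]),(3, some [(0,3),(4,4),(5,4)]),(4, some [(0,1),(1,3),(2,4),(3,4),(4,2),(5,1),(6,1)]),(5, some [(0,4),(1,4),(2,3),(3,4),(4,3),(5,4),(6,4)])]⟩,
  ⟨five3Gens.getD 4 [], 16, five3Cands 1, [(0,true),(1,false),(2,false)],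
    [(0, none),(1, some [(3,2),(5,2),(7,4)]),(2, some [(3,3),(4,3),(7,4)]),(3, some [(0,3),(1,3),(2,2),(4,4),(6,3),(7,4)]),(4, some [(0,4),(1,2),(4,1),(6,2),(7,1)]),(5, some [(2,3),(4,1),(6,2),(7,1)]),(6, some [(1,4),(3,3),(5,3),(6,4),(7,1)])]⟩,
  ⟨five3Gens.getD 0 [], 1, five3Cands 1, [(0,false),(1,true),(2,false),(3,false)],
    [(0, some [(1,3),(2,3),(4,4),(5,4)]),(1, some [(0,1),(3,4),(5,4),(6,3),(7,2)]),(2, some [(3,4),(5,1),(6,2),(7,3)]),(3, some [(1,1),(2,1),(4,2),(5,2)]),(4, some [(0,2),(3,2),(4,1),(5,2),(6,1),(7,2)]),(5, some [(3,2),(4,4),(5,3),(6,4),(7,3)]),(6, some [(0,1),(1,1),(2,3),(3,4),(4,1),(5,3),(6,4),(7,3)]),(7, some [(0,1),(1,3),(2,2),(4,2),(5,1),(6,1),(7,2)])]⟩,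
  ⟨five3Gens.getD 2 [], 4, five3Cands 1, [(0,false),(1,false),(2,true),(3,false),(4,false)],
    [(0, some [(1,1),(2,1),(3,4),(4,4),(5,4)]),(1, some [(3,1),(4,2),(5,1),(6,4),(7,4)]),(2, some [(0,2),(3,1),(4,4),(6,1),(7,1)]),(3, some [(0,4),(1,4),(2,4),(4,1),(5,1)]),(4, some [(0,2),(1,1),(3,1),(4,4),(5,4),(6,1),(7,1)]),(5, some [(2,1),(3,1),(4,1),(5,1),(6,4),(7,4)]),(6, some [(3,3),(4,3),(5,3),(6,3),(7,4)]),(7, some [(0,3),(4,2),(5,2),(6,3),(7,2)])]⟩]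

def five3Ex : List (List (ℕ × ℕ)) := [[(0,1),(1,1),(2,1),(3,1),(4,1),(5,1)],
  [(0,3),(1,4),(2,4),(3,2),(4,1),(5,1)],
  [(0,3),(1,1),(2,1),(3,3),(4,1),(5,1)],
  [(0,3),(1,2),(2,2),(3,2),(4,3),(5,3)],
  [(0,2),(4,4),(5,2),(6,2)],
  [(1,3),(2,2),(4,2),(5,3)],
  [(0,3),(1,1),(2,4),(4,2),(5,2),(6,3)],
  [(0,3),(1,2),(2,3),(5,4),(6,3),(7,3)]]

def five3Allowed : List (List Vec) := [units 8]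

theorem five3_ok : certOK ar5 8 3 five3V five3W five3Levels five3Ex = true := by decide +kernel

theorem five3_cert : cert ar5 8 3 five3V five3W five3Levels five3Ex five3Allowed = true := by decide +kernel

end Check

end CfsgLib.Perm.CoprimeBase
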