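import Cfsg.Agent.Lib.Perm.CoprimeBase.CheckArith

/-!
# Certificates: minus2
-/

namespace CfsgLib.Perm.CoprimeBase

namespace Check

def minus2Gens : List Op := [[[(2,1)],[(3,1)],[(0,1)],[(1,1)],[(6,1)],[(7,1)],[(4,1)],[(5,1)]],
  [[(0,1)],[(1,1)],[(2,2)],[(3,2)],[(4,1)],[(5,1)],[(6,2)],[(7,2)]],
  [[(4,1)],[(5,1)],[(6,1)],[(7,1)],[(0,1)],[(1,1)],[(2,1)],[(3,1)]],
  [[(0,1)],[(1,1)],[(2,1)],[(3,1)],[(4,2)],[(5,2)],[(6,2)],[(7,2)]],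
  [[(1,2)],[(0,1)],[(3,2)],[(2,1)],[(5,2)],[(4,1)],[(7,2)],[(6,1)]],
  [[(0,1),(1,1)],[(0,1),(1,2)],[(2,1),(3,1)],[(2,1),(3,2)],[(4,1),(5,1)],[(4,1),(5,2)],[(6,1),(7,1)],[(6,1),(7,2)]]]

def minus2Els : List Op := [
  [[(0,1)],[(1,1)],[(2,1)],[(3,1)],[(4,1)],[(5,1)],[(6,1)],[(7,1)]],
  [[(2,1)],[(3,1)],[(0,1)],[(1,1)],[(6,1)],[(7,1)],[(4,1)],[(5,1)]],
  [[(0,1)],[(1,1)],[(2,2)],[(3,2)],[(4,1)],[(5,1)],[(6,2)],[(7,2)]],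
  [[(2,2)],[(3,2)],[(0,1)],[(1,1)],[(6,2)],[(7,2)],[(4,1)],[(5,1)]],
  [[(4,1)],[(5,1)],[(6,1)],[(7,1)],[(0,1)],[(1,1)],[(2,1)],[(3,1)]],
  [[(6,1)],[(7,1)],[(4,1)],[(5,1)],[(2,1)],[(3,1)],[(0,1)],[(1,1)]],
  [[(4,1)],[(5,1)],[(6,2)],[(7,2)],[(0,1)],[(1,1)],[(2,2)],[(3,2)]],
  [[(6,2)],[(7,2)],[(4,1)],[(5,1)],[(2,2)],[(3,2)],[(0,1)],[(1,1)]],
  [[(0,1)],[(1,1)],[(2,1)],[(3,1)],[(4,2)],[(5,2)],[(6,2)],[(7,2)]],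
  [[(2,1)],[(3,1)],[(0,1)],[(1,1)],[(6,2)],[(7,2)],[(4,2)],[(5,2)]],
  [[(0,1)],[(1,1)],[(2,2)],[(3,2)],[(4,2)],[(5,2)],[(6,1)],[(7,1)]],
  [[(2,2)],[(3,2)],[(0,1)],[(1,1)],[(6,1)],[(7,1)],[(4,2)],[(5,2)]],
  [[(4,2)],[(5,2)],[(6,2)],[(7,2)],[(0,1)],[(1,1)],[(2,1)],[(3,1)]],
  [[(6,2)],[(7,2)],[(4,2)],[(5,2)],[(2,1)],[(3,1)],[(0,1)],[(1,1)]],
  [[(4,2)],[(5,2)],[(6,1)],[(7,1)],[(0,1)],[(1,1)],[(2,2)],[(3,2)]],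
  [[(6,1)],[(7,1)],[(4,2)],[(5,2)],[(2,2)],[(3,2)],[(0,1)],[(1,1)]],
  [[(1,2)],[(0,1)],[(3,2)],[(2,1)],[(5,2)],[(4,1)],[(7,2)],[(6,1)]],
  [[(3,2)],[(2,1)],[(1,2)],[(0,1)],[(7,2)],[(6,1)],[(5,2)],[(4,1)]],
  [[(1,2)],[(0,1)],[(3,1)],[(2,2)],[(5,2)],[(4,1)],[(7,1)],[(6,2)]],
  [[(3,1)],[(2,2)],[(1,2)],[(0,1)],[(7,1)],[(6,2)],[(5,2)],[(4,1)]],
  [[(5,2)],[(4,1)],[(7,2)],[(6,1)],[(1,2)],[(0,1)],[(3,2)],[(2,1)]],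
  [[(7,2)],[(6,1)],[(5,2)],[(4,1)],[(3,2)],[(2,1)],[(1,2)],[(0,1)]],
  [[(5,2)],[(4,1)],[(7,1)],[(6,2)],[(1,2)],[(0,1)],[(3,1)],[(2,2)]],
  [[(7,1)],[(6,2)],[(5,2)],[(4,1)],[(3,1)],[(2,2)],[(1,2)],[(0,1)]],
  [[(1,2)],[(0,1)],[(3,2)],[(2,1)],[(5,1)],[(4,2)],[(7,1)],[(6,2)]],
  [[(3,2)],[(2,1)],[(1,2)],[(0,1)],[(7,1)],[(6,2)],[(5,1)],[(4,2)]],
  [[(1,2)],[(0,1)],[(3,1)],[(2,2)],[(5,1)],[(4,2)],[(7,2)],[(6,1)]],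
  [[(3,1)],[(2,2)],[(1,2)],[(0,1)],[(7,2)],[(6,1)],[(5,1)],[(4,2)]],
  [[(5,1)],[(4,2)],[(7,1)],[(6,2)],[(1,2)],[(0,1)],[(3,2)],[(2,1)]],
  [[(7,1)],[(6,2)],[(5,1)],[(4,2)],[(3,2)],[(2,1)],[(1,2)],[(0,1)]],
  [[(5,1)],[(4,2)],[(7,2)],[(6,1)],[(1,2)],[(0,1)],[(3,1)],[(2,2)]],
  [[(7,2)],[(6,1)],[(5,1)],[(4,2)],[(3,1)],[(2,2)],[(1,2)],[(0,1)]],
  [[(0,1),(1,1)],[(0,1),(1,2)],[(2,1),(3,1)],[(2,1),(3,2)],[(4,1),(5,1)],[(4,1),(5,2)],[(6,1),(7,1)],[(6,1),(7,2)]],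
  [[(2,1),(3,1)],[(2,1),(3,2)],[(0,1),(1,1)],[(0,1),(1,2)],[(6,1),(7,1)],[(6,1),(7,2)],[(4,1),(5,1)],[(4,1),(5,2)]],
  [[(0,1),(1,1)],[(0,1),(1,2)],[(2,2),(3,2)],[(2,2),(3,1)],[(4,1),(5,1)],[(4,1),(5,2)],[(6,2),(7,2)],[(6,2),(7,1)]],
  [[(2,2),(3,2)],[(2,2),(3,1)],[(0,1),(1,1)],[(0,1),(1,2)],[(6,2),(7,2)],[(6,2),(7,1)],[(4,1),(5,1)],[(4,1),(5,2)]],
  [[(4,1),(5,1)],[(4,1),(5,2)],[(6,1),(7,1)],[(6,1),(7,2)],[(0,1),(1,1)],[(0,1),(1,2)],[(2,1),(3,1)],[(2,1),(3,2)]],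
  [[(6,1),(7,1)],[(6,1),(7,2)],[(4,1),(5,1)],[(4,1),(5,2)],[(2,1),(3,1)],[(2,1),(3,2)],[(0,1),(1,1)],[(0,1),(1,2)]],
  [[(4,1),(5,1)],[(4,1),(5,2)],[(6,2),(7,2)],[(6,2),(7,1)],[(0,1),(1,1)],[(0,1),(1,2)],[(2,2),(3,2)],[(2,2),(3,1)]],
  [[(6,2),(7,2)],[(6,2),(7,1)],[(4,1),(5,1)],[(4,1),(5,2)],[(2,2),(3,2)],[(2,2),(3,1)],[(0,1),(1,1)],[(0,1),(1,2)]],
  [[(0,1),(1,1)],[(0,1),(1,2)],[(2,1),(3,1)],[(2,1),(3,2)],[(4,2),(5,2)],[(4,2),(5,1)],[(6,2),(7,2)],[(6,2),(7,1)]],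
  [[(2,1),(3,1)],[(2,1),(3,2)],[(0,1),(1,1)],[(0,1),(1,2)],[(6,2),(7,2)],[(6,2),(7,1)],[(4,2),(5,2)],[(4,2),(5,1)]],
  [[(0,1),(1,1)],[(0,1),(1,2)],[(2,2),(3,2)],[(2,2),(3,1)],[(4,2),(5,2)],[(4,2),(5,1)],[(6,1),(7,1)],[(6,1),(7,2)]],
  [[(2,2),(3,2)],[(2,2),(3,1)],[(0,1),(1,1)],[(0,1),(1,2)],[(6,1),(7,1)],[(6,1),(7,2)],[(4,2),(5,2)],[(4,2),(5,1)]],
  [[(4,2),(5,2)],[(4,2),(5,1)],[(6,2),(7,2)],[(6,2),(7,1)],[(0,1),(1,1)],[(0,1),(1,2)],[(2,1),(3,1)],[(2,1),(3,2)]],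
  [[(6,2),(7,2)],[(6,2),(7,1)],[(4,2),(5,2)],[(4,2),(5,1)],[(2,1),(3,1)],[(2,1),(3,2)],[(0,1),(1,1)],[(0,1),(1,2)]],
  [[(4,2),(5,2)],[(4,2),(5,1)],[(6,1),(7,1)],[(6,1),(7,2)],[(0,1),(1,1)],[(0,1),(1,2)],[(2,2),(3,2)],[(2,2),(3,1)]],
  [[(6,1),(7,1)],[(6,1),(7,2)],[(4,2),(5,2)],[(4,2),(5,1)],[(2,2),(3,2)],[(2,2),(3,1)],[(0,1),(1,1)],[(0,1),(1,2)]],
  [[(0,2),(1,1)],[(0,1),(1,1)],[(2,2),(3,1)],[(2,1),(3,1)],[(4,2),(5,1)],[(4,1),(5,1)],[(6,2),(7,1)],[(6,1),(7,1)]],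
  [[(2,2),(3,1)],[(2,1),(3,1)],[(0,2),(1,1)],[(0,1),(1,1)],[(6,2),(7,1)],[(6,1),(7,1)],[(4,2),(5,1)],[(4,1),(5,1)]],
  [[(0,2),(1,1)],[(0,1),(1,1)],[(2,1),(3,2)],[(2,2),(3,2)],[(4,2),(5,1)],[(4,1),(5,1)],[(6,1),(7,2)],[(6,2),(7,2)]],
  [[(2,1),(3,2)],[(2,2),(3,2)],[(0,2),(1,1)],[(0,1),(1,1)],[(6,1),(7,2)],[(6,2),(7,2)],[(4,2),(5,1)],[(4,1),(5,1)]],
  [[(4,2),(5,1)],[(4,1),(5,1)],[(6,2),(7,1)],[(6,1),(7,1)],[(0,2),(1,1)],[(0,1),(1,1)],[(2,2),(3,1)],[(2,1),(3,1)]],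
  [[(6,2),(7,1)],[(6,1),(7,1)],[(4,2),(5,1)],[(4,1),(5,1)],[(2,2),(3,1)],[(2,1),(3,1)],[(0,2),(1,1)],[(0,1),(1,1)]],
  [[(4,2),(5,1)],[(4,1),(5,1)],[(6,1),(7,2)],[(6,2),(7,2)],[(0,2),(1,1)],[(0,1),(1,1)],[(2,1),(3,2)],[(2,2),(3,2)]],
  [[(6,1),(7,2)],[(6,2),(7,2)],[(4,2),(5,1)],[(4,1),(5,1)],[(2,1),(3,2)],[(2,2),(3,2)],[(0,2),(1,1)],[(0,1),(1,1)]],
  [[(0,2),(1,1)],[(0,1),(1,1)],[(2,2),(3,1)],[(2,1),(3,1)],[(4,1),(5,2)],[(4,2),(5,2)],[(6,1),(7,2)],[(6,2),(7,2)]],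
  [[(2,2),(3,1)],[(2,1),(3,1)],[(0,2),(1,1)],[(0,1),(1,1)],[(6,1),(7,2)],[(6,2),(7,2)],[(4,1),(5,2)],[(4,2),(5,2)]],
  [[(0,2),(1,1)],[(0,1),(1,1)],[(2,1),(3,2)],[(2,2),(3,2)],[(4,1),(5,2)],[(4,2),(5,2)],[(6,2),(7,1)],[(6,1),(7,1)]],
  [[(2,1),(3,2)],[(2,2),(3,2)],[(0,2),(1,1)],[(0,1),(1,1)],[(6,2),(7,1)],[(6,1),(7,1)],[(4,1),(5,2)],[(4,2),(5,2)]],
  [[(4,1),(5,2)],[(4,2),(5,2)],[(6,1),(7,2)],[(6,2),(7,2)],[(0,2),(1,1)],[(0,1),(1,1)],[(2,2),(3,1)],[(2,1),(3,1)]],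
  [[(6,1),(7,2)],[(6,2),(7,2)],[(4,1),(5,2)],[(4,2),(5,2)],[(2,2),(3,1)],[(2,1),(3,1)],[(0,2),(1,1)],[(0,1),(1,1)]],
  [[(4,1),(5,2)],[(4,2),(5,2)],[(6,2),(7,1)],[(6,1),(7,1)],[(0,2),(1,1)],[(0,1),(1,1)],[(2,1),(3,2)],[(2,2),(3,2)]],
  [[(6,2),(7,1)],[(6,1),(7,1)],[(4,1),(5,2)],[(4,2),(5,2)],[(2,1),(3,2)],[(2,2),(3,2)],[(0,2),(1,1)],[(0,1),(1,1)]]]

def minus2Cands (σ : ℕ) : List (ℕ × Op) := candsOf ar3 8 minus2Els σ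

def minus2aV : Vec := [1,0,0,0,0,2,0,1]
def minus2aW : Vec := [1,2,0,1,0,2,0,0]
def minus2aLevels : List Level := [
  ⟨minus2Gens.getD 3 [], 8, minus2Cands 1, [],
    [(0, none),(1, none)]⟩,
  ⟨minus2Gens.getD 1 [], 2, minus2Cands 1, [(0,false)],
    [(0, some [(1,1),(2,1),(3,2)]),(1, none),(2, some [(0,1),(1,2),(3,1)]),(3, some [(1,2),(3,1),(4,1)])]⟩,
  ⟨minus2Gens.getD 4 [], 16, minus2Cands 2, [(0,false),(1,false)],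
    [(0, none),(1, none),(2, some [(0,1),(2,1),(3,2),(4,2),(5,2)]),(3, none),(4, some [(0,2),(2,2),(3,2),(4,2),(7,2)])]⟩,
  ⟨minus2Gens.getD 5 [], 32, minus2Cands 2, [(0,false),(1,false),(2,true)],
    [(0, some [(0,1),(2,2),(3,2),(4,2),(5,2)]),(1, some [(0,2),(1,2),(2,2),(3,2),(4,2),(6,2)]),(2, some [(0,1),(5,1)]),(3, some [(0,2),(2,2),(3,1),(4,2),(7,2)]),(4, some [(4,2),(7,1)]),(5, some [(0,2),(3,1),(4,1),(5,1)]),(6, some [(1,2),(3,1),(4,1),(6,1)]),(7, some [(4,1),(7,1)])]⟩,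
  ⟨minus2Gens.getD 0 [], 1, minus2Cands 1, [(0,false),(1,true),(2,false),(3,false)],
    [(0, some [(0,2),(3,1),(4,1),(6,1),(7,1)]),(1, some [(0,1),(2,2),(4,1),(6,1),(7,1)]),(2, some [(2,2),(3,1),(4,1),(6,1),(7,1)]),(3, some [(0,2),(1,2),(2,1),(3,1),(4,1),(6,1),(7,1)]),(4, some [(2,1),(3,1),(4,2),(6,1),(7,1)]),(5, some [(0,2),(1,2),(2,2),(3,1),(4,2),(5,2)]),(6, some [(0,1),(1,2),(2,1),(3,2),(5,2),(7,2)]),(7, some [(1,2),(4,1),(5,1),(6,2)])]⟩,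
  ⟨minus2Gens.getD 2 [], 4, minus2Cands 1, [(0,true),(1,false),(2,false),(3,false),(4,false)],
    [(0, some [(0,1),(1,2),(2,1),(3,2),(6,2),(7,1)]),(1, some [(2,2),(3,2),(4,2),(6,2),(7,1)]),(2, some [(0,2),(1,1),(2,2),(3,1),(6,2),(7,1)]),(3, some [(0,1),(3,1),(4,1),(6,2),(7,1)]),(4, some [(0,2),(1,1),(3,1),(4,2),(6,2),(7,1)]),(5, some [(0,1),(1,1),(2,1),(3,1),(4,2),(6,2),(7,2)]),(6, some [(1,1),(3,1),(4,2),(5,1)]),(7, some [(0,2),(1,1),(2,2),(3,1),(4,2),(5,1)])]⟩]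

def minus2aEx : List (List (ℕ × ℕ)) := [[(0,2),(2,2)],
  [(0,2),(2,2),(3,1),(4,1)],
  [(0,1),(2,1),(3,1),(4,1),(6,1),(7,1)],
  [(1,2),(4,1)],
  [(6,2),(7,1)],
  [(1,1),(3,2)],
  [(0,2),(2,2),(3,1),(4,1),(5,2),(6,2),(7,1)],
  [(0,2),(1,1),(2,1),(3,2)]]

def minus2aAllowed : List (List Vec) := [units 8,
  [[2,0,0,1,2,1,2,2],[0,2,2,0,1,1,2,1],[0,2,2,0,2,2,1,2],[1,0,0,2,2,1,2,2],[1,2,1,1,2,0,0,1],[2,2,1,2,0,2,2,0],[1,1,2,1,0,2,2,0],[1,2,1,1,1,0,0,2]]]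

theorem minus2a_ok : certOK ar3 8 3 minus2aV minus2aW minus2aLevels minus2aEx = true := by decide +kernel

theorem minus2a_cert : cert ar3 8 3 minus2aV minus2aW minus2aLevels minus2aEx minus2aAllowed = true := by decide +kernel

def minus2bV : Vec := [1,0,1,2,0,0,1,0]
def minus2bW : Vec := [2,2,2,1,1,2,0,0]
def minus2bLevels : List Level := [
  ⟨minus2Gens.getD 3 [], 8, minus2Cands 1, [],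
    [(0, none),(1, none)]⟩,
  ⟨minus2Gens.getD 1 [], 2, minus2Cands 1, [(0,false)],
    [(0, none),(1, some [(1,1),(2,1),(4,2)]),(2, some [(0,1),(2,2),(4,1)]),(3, some [(2,1),(3,1),(4,2)])]⟩,
  ⟨minus2Gens.getD 4 [], 16, minus2Cands 2, [(0,false),(1,false)],
    [(0, none),(1, none),(2, none),(3, some [(0,1),(4,1),(5,2),(6,2),(7,2)]),(4, some [(0,2),(1,2),(2,2),(3,2),(5,2)])]⟩,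
  ⟨minus2Gens.getD 5 [], 32, minus2Cands 2, [(0,false),(1,false),(2,true)],
    [(0, some [(0,1),(2,2),(4,1),(5,1)]),(1, some [(0,1),(1,2),(4,1),(6,1)]),(2, some [(4,1),(7,1)]),(3, some [(0,2),(3,2),(4,2),(5,2),(6,2),(7,2)]),(4, some [(0,2),(1,2),(3,2),(5,2)]),(5, some [(0,2),(1,1),(2,1),(3,1),(7,1)]),(6, some [(0,1),(1,2),(2,1),(3,1),(6,1)]),(7, some [(0,1),(1,1),(2,2),(3,1),(5,1)])]⟩,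
  ⟨minus2Gens.getD 0 [], 1, minus2Cands 1, [(0,false),(1,true),(2,false),(3,false)],
    [(0, some [(0,1),(1,1),(2,1),(3,2),(5,2),(6,2),(7,2)]),(1, some [(0,2),(1,2),(3,2),(4,1),(5,2)]),(2, some [(1,2),(2,1),(3,1),(4,2),(6,1)]),(3, some [(0,1),(1,2),(2,1),(3,2),(4,1),(7,2)]),(4, some [(0,1),(1,1),(4,1),(6,1)]),(5, some [(1,1),(2,1),(4,2),(5,2),(6,2),(7,2)]),(6, some [(0,2),(1,2),(2,2),(3,2),(4,2),(5,2),(7,1)]),(7, some [(0,2),(2,1),(3,1),(4,1),(6,1)])]⟩,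
  ⟨minus2Gens.getD 2 [], 4, minus2Cands 1, [(0,true),(1,false),(2,false),(3,false),(4,false)],
    [(0, some [(0,2),(1,2),(4,1),(6,2),(7,1)]),(1, some [(0,1),(1,2),(2,1),(3,2),(4,1),(6,2),(7,2)]),(2, some [(2,2),(3,1),(5,1),(6,2),(7,2)]),(3, some [(0,2),(1,1),(3,1),(6,2),(7,2)]),(4, some [(0,2),(3,1),(5,2),(6,2),(7,1)]),(5, some [(0,2),(2,1),(3,2),(5,1),(6,2)]),(6, some [(0,1),(3,2),(4,2),(5,1),(7,2)]),(7, some [(1,1),(2,1),(4,1),(5,2),(6,2),(7,1)])]⟩]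

def minus2bEx : List (List (ℕ × ℕ)) := [[(0,2),(4,2)],
  [(0,1),(1,1),(2,1),(3,1)],
  [(0,1),(1,1),(2,2),(3,1),(4,2),(5,1),(7,1)],
  [(0,1),(1,1),(3,1),(4,1),(5,1),(7,1)],
  [(0,2),(1,1),(3,2),(4,2),(5,1),(6,2),(7,1)],
  [(0,2),(1,2),(3,1),(4,2),(5,1),(6,2),(7,1)],
  [(0,2),(2,1)],
  [(5,2),(7,1)]]

def minus2bAllowed : List (List Vec) := [units 8,
  [[2,0,1,1,1,0,1,1],[0,2,1,2,0,1,1,2],[2,2,2,0,2,2,1,0],[2,1,0,2,2,1,0,1],[1,0,1,1,2,0,1,1],[0,1,1,2,0,2,1,2],[2,2,1,0,2,2,2,0],[2,1,0,1,2,1,0,2]]]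

theorem minus2b_ok : certOK ar3 8 3 minus2bV minus2bW minus2bLevels minus2bEx = true := by decide +kernel

theorem minus2b_cert : cert ar3 8 3 minus2bV minus2bW minus2bLevels minus2bEx minus2bAllowed = true := by decide +kernel

theorem minus2_family : family ar3 8 [minus2aAllowed.tail, minus2bAllowed.tail] [] = true := by decide +kernel

end Check

end CfsgLib.Perm.CoprimeBase
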