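import Cfsg.Agent.Lib.Perm.CoprimeBase.CheckArith

/-!
# Certificates: nine2
-/

namespace CfsgLib.Perm.CoprimeBase

namespace Check

def nine2Gens : List Op := [[[(1,1)],[(0,1)],[(3,1)],[(2,1)]],
  [[(0,1)],[(1,2)],[(2,1)],[(3,2)]],
  [[(2,1)],[(3,1)],[(0,1)],[(1,1)]],
  [[(0,1)],[(1,1)],[(2,2)],[(3,2)]]]

def nine2Els : List Op := [
  [[(0,1)],[(1,1)],[(2,1)],[(3,1)]],
  [[(1,1)],[(0,1)],[(3,1)],[(2,1)]],
  [[(0,1)],[(1,2)],[(2,1)],[(3,2)]],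
  [[(1,2)],[(0,1)],[(3,2)],[(2,1)]],
  [[(2,1)],[(3,1)],[(0,1)],[(1,1)]],
  [[(3,1)],[(2,1)],[(1,1)],[(0,1)]],
  [[(2,1)],[(3,2)],[(0,1)],[(1,2)]],
  [[(3,2)],[(2,1)],[(1,2)],[(0,1)]],
  [[(0,1)],[(1,1)],[(2,2)],[(3,2)]],
  [[(1,1)],[(0,1)],[(3,2)],[(2,2)]],
  [[(0,1)],[(1,2)],[(2,2)],[(3,1)]],
  [[(1,2)],[(0,1)],[(3,1)],[(2,2)]],
  [[(2,2)],[(3,2)],[(0,1)],[(1,1)]],
  [[(3,2)],[(2,2)],[(1,1)],[(0,1)]],
  [[(2,2)],[(3,1)],[(0,1)],[(1,2)]],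
  [[(3,1)],[(2,2)],[(1,2)],[(0,1)]]]

def nine2Cands (σ : ℕ) : List (ℕ × Op) := candsOf ar9 4 nine2Els σ

def nine2V : Vec := [4,8,1,2]
def nine2W : Vec := [4,0,6,0]
def nine2Levels : List Level := [
  ⟨nine2Gens.getD 0 [], 1, nine2Cands 1, [],
    [(0, some [(0,2)]),(1, none)]⟩,
  ⟨nine2Gens.getD 1 [], 2, nine2Cands 1, [(0,true)],
    [(0, none),(1, some [(1,1)]),(2, some [(2,2)])]⟩,
  ⟨nine2Gens.getD 2 [], 4, nine2Cands 1, [(0,false),(1,false)],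
    [(0, some [(1,5),(2,7)]),(1, some [(0,8),(3,8)]),(2, some [(0,4),(3,8)]),(3, some [(1,5),(2,5)])]⟩,
  ⟨nine2Gens.getD 3 [], 8, nine2Cands 1, [(0,false),(1,false),(2,true)],
    [(0, some [(0,3),(1,7),(2,5)]),(1, some [(0,8),(1,6),(3,8)]),(2, some [(0,4),(2,6),(3,8)]),(3, some [(1,7),(2,7),(3,3)])]⟩]

def nine2Ex : List (List (ℕ × ℕ)) := [[(0,1),(1,3),(3,1)],
  [(0,2),(2,3),(3,1)],
  [(0,7),(1,7),(3,7)],
  [(0,5),(2,7),(3,7)]]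

def nine2Allowed : List (List Vec) := [units 4]

theorem nine2_ok : certOK ar9 4 2 nine2V nine2W nine2Levels nine2Ex = true := by decide +kernel

theorem nine2_cert : cert ar9 4 2 nine2V nine2W nine2Levels nine2Ex nine2Allowed = true := by decide +kernel

end Check

end CfsgLib.Perm.CoprimeBase
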