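import Cfsg.Agent.Lib.Perm.CoprimeBase.CheckArith

/-!
# Certificates: plus2
-/

namespace CfsgLib.Perm.CoprimeBase

namespace Check

def plus2Gens : List Op := [[[(1,1)],[(0,1)],[(3,1)],[(2,1)]],
  [[(0,1)],[(1,2)],[(2,1)],[(3,2)]],
  [[(2,1)],[(3,1)],[(0,1)],[(1,1)]],
  [[(0,1)],[(1,1)],[(2,2)],[(3,2)]]]

def plus2Els : List Op := [
  [[(0,1)],[(1,1)],[(2,1)],[(3,1)]],
  [[(1,1)],[(0,1)],[(3,1)],[(2,1)]],
  [[(0,1)],[(1,2)],[(2,1)],[(3,2)]],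
  [[(1,2)],[(0,1)],[(3,2)],[(2,1)]],
  [[(2,1)],[(3,1)],[(0,1)],[(1,1)]],
  [[(3,1)],[(2,1)],[(1,1)],[(0,1)]],
  [[(2,1)],[(3,2)],[(0,1)],[(1,2)]],
  [[(3,2)],[(2,1)],[(1,2)],[(0,1)]],
  [[(0,1)],[(1,1)],[(2,2)],[(3,2)]],
  [[(1,1)],[(0,1)],[(3,2)],[(2,2)]],
  [[(0,1)],[(1,2)],[(2,2)],[(3,1)]],
  [[(1,2)],[(0,1)],[(3,1)],[(2,2)]],
  [[(2,2)],[(3,2)],[(0,1)],[(1,1)]],
  [[(3,2)],[(2,2)],[(1,1)],[(0,1)]],
  [[(2,2)],[(3,1)],[(0,1)],[(1,2)]],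
  [[(3,1)],[(2,2)],[(1,2)],[(0,1)]]]

def plus2Cands (σ : ℕ) : List (ℕ × Op) := candsOf ar3 4 plus2Els σ

def plus2aV : Vec := [1,0,0,0]
def plus2aW : Vec := [0,1,2,0]
def plus2aLevels : List Level := [
  ⟨plus2Gens.getD 3 [], 8, plus2Cands 1, [],
    [(0, some [(0,1)]),(1, none)]⟩,
  ⟨plus2Gens.getD 1 [], 2, plus2Cands 1, [(0,false)],
    [(0, some [(0,1)]),(1, some [(2,2)]),(2, some [(1,2)])]⟩,
  ⟨plus2Gens.getD 0 [], 1, plus2Cands 1, [(0,false),(1,true)],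
    [(0, some [(1,2),(2,2)]),(1, none),(2, some [(0,2),(3,2)])]⟩,
  ⟨plus2Gens.getD 2 [], 4, plus2Cands 1, [(0,true),(1,false),(2,false)],
    [(0, some [(1,1),(2,2)]),(1, some [(3,2)]),(2, some [(0,2),(3,2)]),(3, some [(1,2)])]⟩]

def plus2aEx : List (List (ℕ × ℕ)) := [[(0,1)],
  [(1,2),(2,2)],
  [(1,1),(2,2)],
  [(0,1),(3,2)]]

def plus2aAllowed : List (List Vec) := [units 4,
  [[1,0,0,0],[0,0,2,0],[0,2,0,0],[0,0,0,1]],
  [[1,0,0,0],[0,0,2,0],[0,2,0,0],[0,0,0,2]],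
  [[1,0,0,0],[0,1,0,0],[0,0,1,0],[0,0,0,2]]]

theorem plus2a_ok : certOK ar3 4 2 plus2aV plus2aW plus2aLevels plus2aEx = true := by decide +kernel

theorem plus2a_cert : cert ar3 4 2 plus2aV plus2aW plus2aLevels plus2aEx plus2aAllowed = true := by decide +kernel

def plus2bV : Vec := [0,2,0,2]
def plus2bW : Vec := [2,1,1,2]
def plus2bLevels : List Level := [
  ⟨plus2Gens.getD 0 [], 1, plus2Cands 1, [],
    [(0, none),(1, some [(1,2)])]⟩,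
  ⟨plus2Gens.getD 1 [], 2, plus2Cands 1, [(0,true)],
    [(0, some [(0,2)]),(1, none),(2, some [(2,1)])]⟩,
  ⟨plus2Gens.getD 2 [], 4, plus2Cands 1, [(0,false),(1,false)],
    [(0, some [(0,1)]),(1, some [(1,2)]),(2, some [(2,1)]),(3, some [(3,2)])]⟩,
  ⟨plus2Gens.getD 3 [], 8, plus2Cands 1, [(0,false),(1,false),(2,true)],
    [(0, some [(1,1),(3,2)]),(1, some [(0,2),(2,1)]),(2, some [(1,2),(3,2)]),(3, some [(0,1),(2,1)])]⟩]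

def plus2bEx : List (List (ℕ × ℕ)) := [[(1,2),(2,1),(3,2)],
  [(0,1),(1,1),(3,2)],
  [(1,1),(2,1),(3,1)],
  [(0,1),(1,2),(3,1)]]

def plus2bAllowed : List (List Vec) := [units 4,
  [[2,1,2,2],[1,2,2,2],[2,2,2,1],[2,2,1,2]],
  [[0,0,2,0],[0,1,0,0],[2,0,0,0],[0,0,0,1]],
  [[1,1,1,2],[1,2,2,2],[1,2,1,1],[2,2,1,2]]]

theorem plus2b_ok : certOK ar3 4 2 plus2bV plus2bW plus2bLevels plus2bEx = true := by decide +kernel

theorem plus2b_cert : cert ar3 4 2 plus2bV plus2bW plus2bLevels plus2bEx plus2bAllowed = true := by decide +kernel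

def plus2cV : Vec := [2,2,0,0]
def plus2cW : Vec := [2,1,1,1]
def plus2cLevels : List Level := [
  ⟨plus2Gens.getD 3 [], 8, plus2Cands 1, [],
    [(0, some [(0,1)]),(1, none)]⟩,
  ⟨plus2Gens.getD 1 [], 2, plus2Cands 1, [(0,false)],
    [(0, some [(1,2),(2,2)]),(1, none),(2, some [(0,2),(3,2)])]⟩,
  ⟨plus2Gens.getD 0 [], 1, plus2Cands 1, [(0,false),(1,true)],
    [(0, some [(0,1)]),(1, some [(2,2)]),(2, some [(1,2)]),(3, some [(0,2),(3,2)])]⟩,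
  ⟨plus2Gens.getD 2 [], 4, plus2Cands 1, [(0,true),(1,false),(2,false)],
    [(0, some [(1,1),(2,2)]),(1, some [(3,2)]),(2, some [(0,2),(3,2)]),(3, some [(1,2)])]⟩]

def plus2cEx : List (List (ℕ × ℕ)) := [[(0,1),(1,2),(2,2)],
  [(0,1),(1,1),(2,1)],
  [(0,1),(1,1),(2,2),(3,2)],
  [(0,2),(1,1),(2,2),(3,1)]]

def plus2cAllowed : List (List Vec) := [units 4,
  [[2,2,1,1],[2,2,2,2],[1,2,2,1],[1,2,1,2]],
  [[2,2,1,1],[2,2,2,2],[1,2,1,2],[1,2,2,1]],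
  [[1,0,0,0],[0,1,0,0],[0,0,0,1],[0,0,1,0]]]

theorem plus2c_ok : certOK ar3 4 2 plus2cV plus2cW plus2cLevels plus2cEx = true := by decide +kernel

theorem plus2c_cert : cert ar3 4 2 plus2cV plus2cW plus2cLevels plus2cEx plus2cAllowed = true := by decide +kernel

theorem plus2_family : family ar3 4 [plus2aAllowed.tail, plus2bAllowed.tail, plus2cAllowed.tail] [] = true := by decide +kernel

end Check

end CfsgLib.Perm.CoprimeBase
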