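import Cfsg.Agent.Lib.Perm.CoprimeBase.CheckArith

/-!
# Certificates: plus3
-/

namespace CfsgLib.Perm.CoprimeBase

namespace Check

def plus3Gens : List Op := [[[(1,1)],[(0,1)],[(3,1)],[(2,1)],[(5,1)],[(4,1)],[(7,1)],[(6,1)]],
  [[(0,1)],[(1,2)],[(2,1)],[(3,2)],[(4,1)],[(5,2)],[(6,1)],[(7,2)]],
  [[(2,1)],[(3,1)],[(0,1)],[(1,1)],[(6,1)],[(7,1)],[(4,1)],[(5,1)]],
  [[(0,1)],[(1,1)],[(2,2)],[(3,2)],[(4,1)],[(5,1)],[(6,2)],[(7,2)]],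
  [[(4,1)],[(5,1)],[(6,1)],[(7,1)],[(0,1)],[(1,1)],[(2,1)],[(3,1)]],
  [[(0,1)],[(1,1)],[(2,1)],[(3,1)],[(4,2)],[(5,2)],[(6,2)],[(7,2)]]]

def plus3Els : List Op := [
  [[(0,1)],[(1,1)],[(2,1)],[(3,1)],[(4,1)],[(5,1)],[(6,1)],[(7,1)]],
  [[(1,1)],[(0,1)],[(3,1)],[(2,1)],[(5,1)],[(4,1)],[(7,1)],[(6,1)]],
  [[(0,1)],[(1,2)],[(2,1)],[(3,2)],[(4,1)],[(5,2)],[(6,1)],[(7,2)]],
  [[(1,2)],[(0,1)],[(3,2)],[(2,1)],[(5,2)],[(4,1)],[(7,2)],[(6,1)]],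
  [[(2,1)],[(3,1)],[(0,1)],[(1,1)],[(6,1)],[(7,1)],[(4,1)],[(5,1)]],
  [[(3,1)],[(2,1)],[(1,1)],[(0,1)],[(7,1)],[(6,1)],[(5,1)],[(4,1)]],
  [[(2,1)],[(3,2)],[(0,1)],[(1,2)],[(6,1)],[(7,2)],[(4,1)],[(5,2)]],
  [[(3,2)],[(2,1)],[(1,2)],[(0,1)],[(7,2)],[(6,1)],[(5,2)],[(4,1)]],
  [[(0,1)],[(1,1)],[(2,2)],[(3,2)],[(4,1)],[(5,1)],[(6,2)],[(7,2)]],
  [[(1,1)],[(0,1)],[(3,2)],[(2,2)],[(5,1)],[(4,1)],[(7,2)],[(6,2)]],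
  [[(0,1)],[(1,2)],[(2,2)],[(3,1)],[(4,1)],[(5,2)],[(6,2)],[(7,1)]],
  [[(1,2)],[(0,1)],[(3,1)],[(2,2)],[(5,2)],[(4,1)],[(7,1)],[(6,2)]],
  [[(2,2)],[(3,2)],[(0,1)],[(1,1)],[(6,2)],[(7,2)],[(4,1)],[(5,1)]],
  [[(3,2)],[(2,2)],[(1,1)],[(0,1)],[(7,2)],[(6,2)],[(5,1)],[(4,1)]],
  [[(2,2)],[(3,1)],[(0,1)],[(1,2)],[(6,2)],[(7,1)],[(4,1)],[(5,2)]],
  [[(3,1)],[(2,2)],[(1,2)],[(0,1)],[(7,1)],[(6,2)],[(5,2)],[(4,1)]],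
  [[(4,1)],[(5,1)],[(6,1)],[(7,1)],[(0,1)],[(1,1)],[(2,1)],[(3,1)]],
  [[(5,1)],[(4,1)],[(7,1)],[(6,1)],[(1,1)],[(0,1)],[(3,1)],[(2,1)]],
  [[(4,1)],[(5,2)],[(6,1)],[(7,2)],[(0,1)],[(1,2)],[(2,1)],[(3,2)]],
  [[(5,2)],[(4,1)],[(7,2)],[(6,1)],[(1,2)],[(0,1)],[(3,2)],[(2,1)]],
  [[(6,1)],[(7,1)],[(4,1)],[(5,1)],[(2,1)],[(3,1)],[(0,1)],[(1,1)]],
  [[(7,1)],[(6,1)],[(5,1)],[(4,1)],[(3,1)],[(2,1)],[(1,1)],[(0,1)]],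
  [[(6,1)],[(7,2)],[(4,1)],[(5,2)],[(2,1)],[(3,2)],[(0,1)],[(1,2)]],
  [[(7,2)],[(6,1)],[(5,2)],[(4,1)],[(3,2)],[(2,1)],[(1,2)],[(0,1)]],
  [[(4,1)],[(5,1)],[(6,2)],[(7,2)],[(0,1)],[(1,1)],[(2,2)],[(3,2)]],
  [[(5,1)],[(4,1)],[(7,2)],[(6,2)],[(1,1)],[(0,1)],[(3,2)],[(2,2)]],
  [[(4,1)],[(5,2)],[(6,2)],[(7,1)],[(0,1)],[(1,2)],[(2,2)],[(3,1)]],
  [[(5,2)],[(4,1)],[(7,1)],[(6,2)],[(1,2)],[(0,1)],[(3,1)],[(2,2)]],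
  [[(6,2)],[(7,2)],[(4,1)],[(5,1)],[(2,2)],[(3,2)],[(0,1)],[(1,1)]],
  [[(7,2)],[(6,2)],[(5,1)],[(4,1)],[(3,2)],[(2,2)],[(1,1)],[(0,1)]],
  [[(6,2)],[(7,1)],[(4,1)],[(5,2)],[(2,2)],[(3,1)],[(0,1)],[(1,2)]],
  [[(7,1)],[(6,2)],[(5,2)],[(4,1)],[(3,1)],[(2,2)],[(1,2)],[(0,1)]],
  [[(0,1)],[(1,1)],[(2,1)],[(3,1)],[(4,2)],[(5,2)],[(6,2)],[(7,2)]],
  [[(1,1)],[(0,1)],[(3,1)],[(2,1)],[(5,2)],[(4,2)],[(7,2)],[(6,2)]],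
  [[(0,1)],[(1,2)],[(2,1)],[(3,2)],[(4,2)],[(5,1)],[(6,2)],[(7,1)]],
  [[(1,2)],[(0,1)],[(3,2)],[(2,1)],[(5,1)],[(4,2)],[(7,1)],[(6,2)]],
  [[(2,1)],[(3,1)],[(0,1)],[(1,1)],[(6,2)],[(7,2)],[(4,2)],[(5,2)]],
  [[(3,1)],[(2,1)],[(1,1)],[(0,1)],[(7,2)],[(6,2)],[(5,2)],[(4,2)]],
  [[(2,1)],[(3,2)],[(0,1)],[(1,2)],[(6,2)],[(7,1)],[(4,2)],[(5,1)]],
  [[(3,2)],[(2,1)],[(1,2)],[(0,1)],[(7,1)],[(6,2)],[(5,1)],[(4,2)]],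
  [[(0,1)],[(1,1)],[(2,2)],[(3,2)],[(4,2)],[(5,2)],[(6,1)],[(7,1)]],
  [[(1,1)],[(0,1)],[(3,2)],[(2,2)],[(5,2)],[(4,2)],[(7,1)],[(6,1)]],
  [[(0,1)],[(1,2)],[(2,2)],[(3,1)],[(4,2)],[(5,1)],[(6,1)],[(7,2)]],
  [[(1,2)],[(0,1)],[(3,1)],[(2,2)],[(5,1)],[(4,2)],[(7,2)],[(6,1)]],
  [[(2,2)],[(3,2)],[(0,1)],[(1,1)],[(6,1)],[(7,1)],[(4,2)],[(5,2)]],
  [[(3,2)],[(2,2)],[(1,1)],[(0,1)],[(7,1)],[(6,1)],[(5,2)],[(4,2)]],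
  [[(2,2)],[(3,1)],[(0,1)],[(1,2)],[(6,1)],[(7,2)],[(4,2)],[(5,1)]],
  [[(3,1)],[(2,2)],[(1,2)],[(0,1)],[(7,2)],[(6,1)],[(5,1)],[(4,2)]],
  [[(4,2)],[(5,2)],[(6,2)],[(7,2)],[(0,1)],[(1,1)],[(2,1)],[(3,1)]],
  [[(5,2)],[(4,2)],[(7,2)],[(6,2)],[(1,1)],[(0,1)],[(3,1)],[(2,1)]],
  [[(4,2)],[(5,1)],[(6,2)],[(7,1)],[(0,1)],[(1,2)],[(2,1)],[(3,2)]],
  [[(5,1)],[(4,2)],[(7,1)],[(6,2)],[(1,2)],[(0,1)],[(3,2)],[(2,1)]],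
  [[(6,2)],[(7,2)],[(4,2)],[(5,2)],[(2,1)],[(3,1)],[(0,1)],[(1,1)]],
  [[(7,2)],[(6,2)],[(5,2)],[(4,2)],[(3,1)],[(2,1)],[(1,1)],[(0,1)]],
  [[(6,2)],[(7,1)],[(4,2)],[(5,1)],[(2,1)],[(3,2)],[(0,1)],[(1,2)]],
  [[(7,1)],[(6,2)],[(5,1)],[(4,2)],[(3,2)],[(2,1)],[(1,2)],[(0,1)]],
  [[(4,2)],[(5,2)],[(6,1)],[(7,1)],[(0,1)],[(1,1)],[(2,2)],[(3,2)]],
  [[(5,2)],[(4,2)],[(7,1)],[(6,1)],[(1,1)],[(0,1)],[(3,2)],[(2,2)]],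
  [[(4,2)],[(5,1)],[(6,1)],[(7,2)],[(0,1)],[(1,2)],[(2,2)],[(3,1)]],
  [[(5,1)],[(4,2)],[(7,2)],[(6,1)],[(1,2)],[(0,1)],[(3,1)],[(2,2)]],
  [[(6,1)],[(7,1)],[(4,2)],[(5,2)],[(2,2)],[(3,2)],[(0,1)],[(1,1)]],
  [[(7,1)],[(6,1)],[(5,2)],[(4,2)],[(3,2)],[(2,2)],[(1,1)],[(0,1)]],
  [[(6,1)],[(7,2)],[(4,2)],[(5,1)],[(2,2)],[(3,1)],[(0,1)],[(1,2)]],
  [[(7,2)],[(6,1)],[(5,1)],[(4,2)],[(3,1)],[(2,2)],[(1,2)],[(0,1)]]]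

def plus3Cands (σ : ℕ) : List (ℕ × Op) := candsOf ar3 8 plus3Els σ

def plus3aV : Vec := [0,2,2,2,0,0,0,0]
def plus3aW : Vec := [2,1,2,2,0,1,2,2]
def plus3aLevels : List Level := [
  ⟨plus3Gens.getD 5 [], 32, plus3Cands 1, [],
    [(0, some [(0,1)]),(1, none)]⟩,
  ⟨plus3Gens.getD 3 [], 8, plus3Cands 1, [(0,false)],
    [(0, none),(1, none),(2, some [(0,1),(1,1),(2,1),(3,2),(4,2)])]⟩,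
  ⟨plus3Gens.getD 1 [], 2, plus3Cands 1, [(0,false),(1,false)],
    [(0, none),(1, none),(2, some [(0,2),(1,1),(2,1),(3,1),(5,2),(6,2)]),(3, some [(0,2),(3,2),(5,2)]),(4, some [(1,1),(2,2),(3,1),(4,2),(6,2)])]⟩,
  ⟨plus3Gens.getD 0 [], 1, plus3Cands 1, [(0,false),(1,false),(2,true)],
    [(0, some [(0,2),(1,2),(2,2),(3,2)]),(1, none),(2, some [(0,2),(1,2),(2,2),(3,1),(7,2)]),(3, some [(0,1),(1,2),(2,2)]),(4, some [(1,2),(4,1),(7,1)]),(5, some [(0,1),(1,1),(2,1),(5,2)]),(6, some [(0,1),(1,1),(2,1),(4,2),(6,2),(7,2)])]⟩,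
  ⟨plus3Gens.getD 2 [], 4, plus3Cands 1, [(0,false),(1,true),(2,false),(3,false)],
    [(0, some [(0,2),(1,2),(2,2),(3,1),(5,1)]),(1, some [(0,1),(3,2),(4,1),(5,2),(6,2),(7,2)]),(2, some [(0,1),(1,1),(2,1),(3,2),(4,2),(6,1),(7,1)]),(3, some [(0,1),(1,1),(2,1),(3,1),(5,1)]),(4, some [(1,2),(2,2),(3,2),(5,2),(6,2),(7,1)]),(5, some [(0,1),(1,2),(2,2),(3,1),(5,2)]),(6, some [(0,1),(1,1),(3,2),(4,1),(5,2),(6,1),(7,2)]),(7, some [(0,2),(1,2),(2,1),(3,2),(4,2),(5,1),(6,1),(7,2)])]⟩,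
  ⟨plus3Gens.getD 4 [], 16, plus3Cands 1, [(0,true),(1,false),(2,false),(3,false),(4,false)],
    [(0, some [(0,2),(1,2),(2,2),(3,1),(4,2)]),(1, some [(0,2),(1,2),(2,2),(4,1),(7,2)]),(2, some [(0,2),(1,2),(2,2),(3,2),(4,1),(7,2)]),(3, some [(1,1),(2,2)]),(4, some [(0,2),(1,1),(2,2),(4,2),(7,2)]),(5, some [(1,1),(4,1),(5,2),(6,1)]),(6, some [(0,2),(1,1),(2,2),(4,1),(6,1),(7,2)]),(7, some [(0,2),(2,2),(4,1),(7,1)])]⟩]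

def plus3aEx : List (List (ℕ × ℕ)) := [[(1,1),(2,1),(3,2)],
  [(0,1),(3,1)],
  [(0,1),(5,1)],
  [(3,2),(5,2)],
  [(0,1),(2,2),(3,2),(4,2),(7,1)],
  [(0,2),(2,1),(3,1),(4,2)],
  [(0,2),(2,2),(3,1),(5,2),(6,1)],
  [(1,1),(2,1),(4,2),(5,1),(6,2)]]

def plus3aAllowed : List (List Vec) := [units 8,
  [[2,2,2,2,0,0,0,0],[2,2,1,1,0,0,0,0],[2,1,2,1,0,0,0,0],[2,1,1,2,0,0,0,0],[0,0,0,0,2,2,1,1],[0,0,0,0,2,2,2,2],[0,0,0,0,1,2,2,1],[0,0,0,0,1,2,1,2]],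
  [[2,2,2,2,0,0,0,0],[2,2,1,1,0,0,0,0],[2,1,1,2,0,0,0,0],[2,1,2,1,0,0,0,0],[0,0,0,0,2,2,1,1],[0,0,0,0,2,2,2,2],[0,0,0,0,1,2,1,2],[0,0,0,0,1,2,2,1]],
  [[1,0,0,0,0,0,0,0],[0,1,0,0,0,0,0,0],[0,0,0,1,0,0,0,0],[0,0,1,0,0,0,0,0],[0,0,0,0,1,0,0,0],[0,0,0,0,0,1,0,0],[0,0,0,0,0,0,0,1],[0,0,0,0,0,0,1,0]]]

theorem plus3a_ok : certOK ar3 8 3 plus3aV plus3aW plus3aLevels plus3aEx = true := by decide +kernel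

theorem plus3a_cert : cert ar3 8 3 plus3aV plus3aW plus3aLevels plus3aEx plus3aAllowed = true := by decide +kernel

def plus3bV : Vec := [1,0,2,2,0,0,0,0]
def plus3bW : Vec := [0,0,0,2,1,1,1,0]
def plus3bLevels : List Level := [
  ⟨plus3Gens.getD 5 [], 32, plus3Cands 1, [],
    [(0, some [(0,1)]),(1, none)]⟩,
  ⟨plus3Gens.getD 3 [], 8, plus3Cands 1, [(0,false)],
    [(0, none),(1, none),(2, some [(1,2),(2,2),(4,2)])]⟩,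
  ⟨plus3Gens.getD 1 [], 2, plus3Cands 1, [(0,false),(1,false)],
    [(0, some [(0,1),(1,2),(2,2)]),(1, none),(2, some [(1,2),(2,2),(5,2)]),(3, some [(1,1),(2,1),(3,1)]),(4, some [(1,1),(2,2),(4,1),(5,1)])]⟩,
  ⟨plus3Gens.getD 0 [], 1, plus3Cands 1, [(0,false),(1,false),(2,true)],
    [(0, none),(1, none),(2, some [(0,1),(1,2),(2,2),(3,2),(7,2)]),(3, some [(0,2),(3,1),(6,1)]),(4, some [(1,1),(4,1),(7,2)]),(5, some [(0,2),(3,1),(4,2),(5,2),(7,1)])]⟩,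
  ⟨plus3Gens.getD 2 [], 4, plus3Cands 1, [(0,false),(1,true),(2,false),(3,false)],
    [(0, some [(0,1),(1,2),(2,2),(3,1),(6,2)]),(1, some [(1,2),(2,2),(4,1),(5,2),(6,2),(7,1)]),(2, some [(0,1),(1,1),(2,1),(3,2),(4,2),(5,1),(6,2),(7,2)]),(3, some [(0,1),(1,2),(2,2),(6,1)]),(4, some [(0,2),(1,1),(2,1),(3,1),(5,1),(6,1),(7,1)]),(5, some [(1,2),(2,1),(4,2),(5,2),(6,1),(7,2)]),(6, some [(1,1),(2,1),(3,2),(6,2)]),(7, some [(0,2),(2,1),(4,2),(5,1),(7,1)])]⟩,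
  ⟨plus3Gens.getD 4 [], 16, plus3Cands 1, [(0,true),(1,false),(2,false),(3,false),(4,false)],
    [(0, some [(0,2),(1,2),(2,2),(3,1),(5,2),(7,2)]),(1, some [(1,2),(3,1),(4,2),(6,1),(7,2)]),(2, some [(0,1),(1,1),(2,2),(3,1),(4,2),(6,2),(7,2)]),(3, some [(0,1),(1,2),(2,2),(3,2),(4,1),(5,2),(7,1)]),(4, some [(1,1),(3,1),(4,1),(6,1),(7,1)]),(5, some [(1,2),(2,1),(3,1),(4,1),(6,2),(7,1)]),(6, some [(0,2),(2,1),(3,1),(4,1),(5,1),(7,2)]),(7, some [(1,1),(3,1),(4,2),(6,1)])]⟩]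

def plus3bEx : List (List (ℕ × ℕ)) := [[(0,2),(3,2)],
  [(0,1),(3,2),(6,1)],
  [(0,1),(1,2),(2,2),(3,2)],
  [(1,1),(2,1)],
  [(1,2),(2,2),(4,2),(5,2)],
  [(2,1),(5,1)],
  [(2,1),(4,1)],
  [(0,1),(2,2),(3,2),(4,1),(7,1)]]

def plus3bAllowed : List (List Vec) := [units 8,
  [[1,0,0,0,0,0,0,0],[0,2,0,0,0,0,0,0],[0,0,1,0,0,0,0,0],[0,0,0,1,0,0,0,0],[0,0,0,0,1,0,0,0],[0,0,0,0,0,1,0,0],[0,0,0,0,0,0,1,0],[0,0,0,0,0,0,0,2]],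
  [[0,0,2,0,0,0,0,0],[0,2,0,0,0,0,0,0],[2,0,0,0,0,0,0,0],[0,0,0,1,0,0,0,0],[0,0,0,0,0,0,1,0],[0,0,0,0,0,1,0,0],[0,0,0,0,1,0,0,0],[0,0,0,0,0,0,0,2]],
  [[0,0,2,0,0,0,0,0],[0,1,0,0,0,0,0,0],[2,0,0,0,0,0,0,0],[0,0,0,1,0,0,0,0],[0,0,0,0,0,0,1,0],[0,0,0,0,0,1,0,0],[0,0,0,0,1,0,0,0],[0,0,0,0,0,0,0,1]]]

theorem plus3b_ok : certOK ar3 8 3 plus3bV plus3bW plus3bLevels plus3bEx = true := by decide +kernel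

theorem plus3b_cert : cert ar3 8 3 plus3bV plus3bW plus3bLevels plus3bEx plus3bAllowed = true := by decide +kernel

def plus3cV : Vec := [1,0,1,2,0,0,0,0]
def plus3cW : Vec := [0,1,1,0,2,1,2,0]
def plus3cLevels : List Level := [
  ⟨plus3Gens.getD 5 [], 32, plus3Cands 1, [],
    [(0, some [(0,1)]),(1, none)]⟩,
  ⟨plus3Gens.getD 0 [], 1, plus3Cands 1, [(0,false)],
    [(0, none),(1, none),(2, some [(0,2),(1,1),(2,1),(3,1),(4,2)])]⟩,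
  ⟨plus3Gens.getD 1 [], 2, plus3Cands 1, [(0,false),(1,true)],
    [(0, none),(1, none),(2, some [(0,2),(3,1),(5,1),(6,2)]),(3, some [(0,2),(1,1),(2,1),(5,1)]),(4, none)]⟩,
  ⟨plus3Gens.getD 2 [], 4, plus3Cands 1, [(0,false),(1,false),(2,false)],
    [(0, some [(0,1),(1,2),(2,2),(3,1)]),(1, some [(0,1),(1,2),(2,2),(4,1),(6,1),(7,2)]),(2, some [(0,1),(1,2),(2,2),(3,1),(4,2),(6,2),(7,1)]),(3, some [(0,2),(1,2),(2,2)]),(4, some [(0,1),(2,2),(6,1),(7,2)]),(5, some [(1,1),(2,1),(3,2),(5,1)]),(6, some [(0,1),(1,1),(3,2),(4,2),(7,1)]),(7, some [(0,1),(1,1),(3,2),(4,2),(6,1)])]⟩,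
  ⟨plus3Gens.getD 3 [], 8, plus3Cands 1, [(0,false),(1,false),(2,false),(3,true)],
    [(0, some [(0,2),(1,1),(2,1),(3,1),(5,2)]),(1, some [(1,1),(2,1),(3,1),(4,2),(5,2),(6,2),(7,2)]),(2, some [(0,1),(1,2),(2,2),(3,1),(4,1),(6,1),(7,1)]),(3, some [(0,2),(1,2),(2,2),(5,1)]),(4, some [(0,2),(1,1),(2,2),(3,1),(5,1),(6,1),(7,1)]),(5, some [(1,1),(2,1),(3,1),(5,1)]),(6, some [(2,1),(3,1),(4,2),(5,2),(7,2)]),(7, some [(0,1),(1,2),(2,1),(3,2),(4,1),(5,2),(6,2)])]⟩,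
  ⟨plus3Gens.getD 4 [], 16, plus3Cands 1, [(0,true),(1,false),(2,false),(3,false),(4,false)],
    [(0, some [(3,2),(4,2),(6,2),(7,1)]),(1, some [(4,1),(6,2),(7,1)]),(2, some [(0,2),(1,1),(2,1),(3,2),(4,1),(6,2),(7,1)]),(3, some [(0,2),(1,2),(6,2),(7,1)]),(4, some [(1,1),(6,2),(7,1)]),(5, some [(0,1),(1,1),(2,2),(4,1),(5,2),(7,2)]),(6, some [(1,2),(4,1),(7,1)]),(7, some [(1,2),(4,1),(6,1)])]⟩]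

def plus3cEx : List (List (ℕ × ℕ)) := [[(1,2),(2,2),(3,2),(5,1)],
  [(0,1),(1,1),(2,1),(3,2),(5,2)],
  [(0,2),(1,1),(2,1),(3,1),(5,1)],
  [(0,1),(5,2)],
  [(1,1),(2,1),(3,1),(4,2),(5,2),(7,2)],
  [(0,2),(1,1),(2,2),(3,1),(5,1),(6,1)],
  [(0,2),(1,1),(4,1),(5,2),(6,1),(7,1)],
  [(0,2),(1,2),(2,1),(3,2),(4,1),(5,1),(6,2),(7,2)]]

def plus3cAllowed : List (List Vec) := [units 8,
  [[2,2,1,2,0,0,0,0],[2,2,2,1,0,0,0,0],[1,2,2,2,0,0,0,0],[2,1,2,2,0,0,0,0],[0,0,0,0,2,2,1,2],[0,0,0,0,2,2,2,1],[0,0,0,0,1,2,2,2],[0,0,0,0,2,1,2,2]],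
  [[0,0,0,2,0,0,0,0],[0,1,0,0,0,0,0,0],[0,0,1,0,0,0,0,0],[2,0,0,0,0,0,0,0],[0,0,0,0,1,0,0,0],[0,0,0,0,0,0,2,0],[0,0,0,0,0,2,0,0],[0,0,0,0,0,0,0,1]],
  [[1,2,1,1,0,0,0,0],[2,2,2,1,0,0,0,0],[1,2,2,2,0,0,0,0],[1,1,2,1,0,0,0,0],[0,0,0,0,2,2,1,2],[0,0,0,0,2,1,1,1],[0,0,0,0,1,1,1,2],[0,0,0,0,2,1,2,2]]]

theorem plus3c_ok : certOK ar3 8 3 plus3cV plus3cW plus3cLevels plus3cEx = true := by decide +kernel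

theorem plus3c_cert : cert ar3 8 3 plus3cV plus3cW plus3cLevels plus3cEx plus3cAllowed = true := by decide +kernel

theorem plus3_family : family ar3 8 [plus3aAllowed.tail, plus3bAllowed.tail, plus3cAllowed.tail] [] = true := by decide +kernel

end Check

end CfsgLib.Perm.CoprimeBase
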