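import Cfsg.Agent.Lib.Perm.CoprimeBase.CheckArith

/-!
# Certificates: plus4
-/

namespace CfsgLib.Perm.CoprimeBase

namespace Check

def plus4Gens : List Op := [[[(1,1)],[(0,1)],[(3,1)],[(2,1)],[(5,1)],[(4,1)],[(7,1)],[(6,1)],[(9,1)],[(8,1)],[(11,1)],[(10,1)],[(13,1)],[(12,1)],[(15,1)],[(14,1)]],
  [[(0,1)],[(1,2)],[(2,1)],[(3,2)],[(4,1)],[(5,2)],[(6,1)],[(7,2)],[(8,1)],[(9,2)],[(10,1)],[(11,2)],[(12,1)],[(13,2)],[(14,1)],[(15,2)]],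
  [[(2,1)],[(3,1)],[(0,1)],[(1,1)],[(6,1)],[(7,1)],[(4,1)],[(5,1)],[(10,1)],[(11,1)],[(8,1)],[(9,1)],[(14,1)],[(15,1)],[(12,1)],[(13,1)]],
  [[(0,1)],[(1,1)],[(2,2)],[(3,2)],[(4,1)],[(5,1)],[(6,2)],[(7,2)],[(8,1)],[(9,1)],[(10,2)],[(11,2)],[(12,1)],[(13,1)],[(14,2)],[(15,2)]],
  [[(4,1)],[(5,1)],[(6,1)],[(7,1)],[(0,1)],[(1,1)],[(2,1)],[(3,1)],[(12,1)],[(13,1)],[(14,1)],[(15,1)],[(8,1)],[(9,1)],[(10,1)],[(11,1)]],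
  [[(0,1)],[(1,1)],[(2,1)],[(3,1)],[(4,2)],[(5,2)],[(6,2)],[(7,2)],[(8,1)],[(9,1)],[(10,1)],[(11,1)],[(12,2)],[(13,2)],[(14,2)],[(15,2)]],
  [[(8,1)],[(9,1)],[(10,1)],[(11,1)],[(12,1)],[(13,1)],[(14,1)],[(15,1)],[(0,1)],[(1,1)],[(2,1)],[(3,1)],[(4,1)],[(5,1)],[(6,1)],[(7,1)]],
  [[(0,1)],[(1,1)],[(2,1)],[(3,1)],[(4,1)],[(5,1)],[(6,1)],[(7,1)],[(8,2)],[(9,2)],[(10,2)],[(11,2)],[(12,2)],[(13,2)],[(14,2)],[(15,2)]]]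

def plus4Els : List Op := [
  [[(0,1)],[(1,1)],[(2,1)],[(3,1)],[(4,1)],[(5,1)],[(6,1)],[(7,1)],[(8,1)],[(9,1)],[(10,1)],[(11,1)],[(12,1)],[(13,1)],[(14,1)],[(15,1)]],
  [[(1,1)],[(0,1)],[(3,1)],[(2,1)],[(5,1)],[(4,1)],[(7,1)],[(6,1)],[(9,1)],[(8,1)],[(11,1)],[(10,1)],[(13,1)],[(12,1)],[(15,1)],[(14,1)]],
  [[(0,1)],[(1,2)],[(2,1)],[(3,2)],[(4,1)],[(5,2)],[(6,1)],[(7,2)],[(8,1)],[(9,2)],[(10,1)],[(11,2)],[(12,1)],[(13,2)],[(14,1)],[(15,2)]],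
  [[(1,2)],[(0,1)],[(3,2)],[(2,1)],[(5,2)],[(4,1)],[(7,2)],[(6,1)],[(9,2)],[(8,1)],[(11,2)],[(10,1)],[(13,2)],[(12,1)],[(15,2)],[(14,1)]],
  [[(2,1)],[(3,1)],[(0,1)],[(1,1)],[(6,1)],[(7,1)],[(4,1)],[(5,1)],[(10,1)],[(11,1)],[(8,1)],[(9,1)],[(14,1)],[(15,1)],[(12,1)],[(13,1)]],
  [[(3,1)],[(2,1)],[(1,1)],[(0,1)],[(7,1)],[(6,1)],[(5,1)],[(4,1)],[(11,1)],[(10,1)],[(9,1)],[(8,1)],[(15,1)],[(14,1)],[(13,1)],[(12,1)]],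
  [[(2,1)],[(3,2)],[(0,1)],[(1,2)],[(6,1)],[(7,2)],[(4,1)],[(5,2)],[(10,1)],[(11,2)],[(8,1)],[(9,2)],[(14,1)],[(15,2)],[(12,1)],[(13,2)]],
  [[(3,2)],[(2,1)],[(1,2)],[(0,1)],[(7,2)],[(6,1)],[(5,2)],[(4,1)],[(11,2)],[(10,1)],[(9,2)],[(8,1)],[(15,2)],[(14,1)],[(13,2)],[(12,1)]],
  [[(0,1)],[(1,1)],[(2,2)],[(3,2)],[(4,1)],[(5,1)],[(6,2)],[(7,2)],[(8,1)],[(9,1)],[(10,2)],[(11,2)],[(12,1)],[(13,1)],[(14,2)],[(15,2)]],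
  [[(1,1)],[(0,1)],[(3,2)],[(2,2)],[(5,1)],[(4,1)],[(7,2)],[(6,2)],[(9,1)],[(8,1)],[(11,2)],[(10,2)],[(13,1)],[(12,1)],[(15,2)],[(14,2)]],
  [[(0,1)],[(1,2)],[(2,2)],[(3,1)],[(4,1)],[(5,2)],[(6,2)],[(7,1)],[(8,1)],[(9,2)],[(10,2)],[(11,1)],[(12,1)],[(13,2)],[(14,2)],[(15,1)]],
  [[(1,2)],[(0,1)],[(3,1)],[(2,2)],[(5,2)],[(4,1)],[(7,1)],[(6,2)],[(9,2)],[(8,1)],[(11,1)],[(10,2)],[(13,2)],[(12,1)],[(15,1)],[(14,2)]],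
  [[(2,2)],[(3,2)],[(0,1)],[(1,1)],[(6,2)],[(7,2)],[(4,1)],[(5,1)],[(10,2)],[(11,2)],[(8,1)],[(9,1)],[(14,2)],[(15,2)],[(12,1)],[(13,1)]],
  [[(3,2)],[(2,2)],[(1,1)],[(0,1)],[(7,2)],[(6,2)],[(5,1)],[(4,1)],[(11,2)],[(10,2)],[(9,1)],[(8,1)],[(15,2)],[(14,2)],[(13,1)],[(12,1)]],
  [[(2,2)],[(3,1)],[(0,1)],[(1,2)],[(6,2)],[(7,1)],[(4,1)],[(5,2)],[(10,2)],[(11,1)],[(8,1)],[(9,2)],[(14,2)],[(15,1)],[(12,1)],[(13,2)]],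
  [[(3,1)],[(2,2)],[(1,2)],[(0,1)],[(7,1)],[(6,2)],[(5,2)],[(4,1)],[(11,1)],[(10,2)],[(9,2)],[(8,1)],[(15,1)],[(14,2)],[(13,2)],[(12,1)]],
  [[(4,1)],[(5,1)],[(6,1)],[(7,1)],[(0,1)],[(1,1)],[(2,1)],[(3,1)],[(12,1)],[(13,1)],[(14,1)],[(15,1)],[(8,1)],[(9,1)],[(10,1)],[(11,1)]],
  [[(5,1)],[(4,1)],[(7,1)],[(6,1)],[(1,1)],[(0,1)],[(3,1)],[(2,1)],[(13,1)],[(12,1)],[(15,1)],[(14,1)],[(9,1)],[(8,1)],[(11,1)],[(10,1)]],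
  [[(4,1)],[(5,2)],[(6,1)],[(7,2)],[(0,1)],[(1,2)],[(2,1)],[(3,2)],[(12,1)],[(13,2)],[(14,1)],[(15,2)],[(8,1)],[(9,2)],[(10,1)],[(11,2)]],
  [[(5,2)],[(4,1)],[(7,2)],[(6,1)],[(1,2)],[(0,1)],[(3,2)],[(2,1)],[(13,2)],[(12,1)],[(15,2)],[(14,1)],[(9,2)],[(8,1)],[(11,2)],[(10,1)]],
  [[(6,1)],[(7,1)],[(4,1)],[(5,1)],[(2,1)],[(3,1)],[(0,1)],[(1,1)],[(14,1)],[(15,1)],[(12,1)],[(13,1)],[(10,1)],[(11,1)],[(8,1)],[(9,1)]],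
  [[(7,1)],[(6,1)],[(5,1)],[(4,1)],[(3,1)],[(2,1)],[(1,1)],[(0,1)],[(15,1)],[(14,1)],[(13,1)],[(12,1)],[(11,1)],[(10,1)],[(9,1)],[(8,1)]],
  [[(6,1)],[(7,2)],[(4,1)],[(5,2)],[(2,1)],[(3,2)],[(0,1)],[(1,2)],[(14,1)],[(15,2)],[(12,1)],[(13,2)],[(10,1)],[(11,2)],[(8,1)],[(9,2)]],
  [[(7,2)],[(6,1)],[(5,2)],[(4,1)],[(3,2)],[(2,1)],[(1,2)],[(0,1)],[(15,2)],[(14,1)],[(13,2)],[(12,1)],[(11,2)],[(10,1)],[(9,2)],[(8,1)]],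
  [[(4,1)],[(5,1)],[(6,2)],[(7,2)],[(0,1)],[(1,1)],[(2,2)],[(3,2)],[(12,1)],[(13,1)],[(14,2)],[(15,2)],[(8,1)],[(9,1)],[(10,2)],[(11,2)]],
  [[(5,1)],[(4,1)],[(7,2)],[(6,2)],[(1,1)],[(0,1)],[(3,2)],[(2,2)],[(13,1)],[(12,1)],[(15,2)],[(14,2)],[(9,1)],[(8,1)],[(11,2)],[(10,2)]],
  [[(4,1)],[(5,2)],[(6,2)],[(7,1)],[(0,1)],[(1,2)],[(2,2)],[(3,1)],[(12,1)],[(13,2)],[(14,2)],[(15,1)],[(8,1)],[(9,2)],[(10,2)],[(11,1)]],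
  [[(5,2)],[(4,1)],[(7,1)],[(6,2)],[(1,2)],[(0,1)],[(3,1)],[(2,2)],[(13,2)],[(12,1)],[(15,1)],[(14,2)],[(9,2)],[(8,1)],[(11,1)],[(10,2)]],
  [[(6,2)],[(7,2)],[(4,1)],[(5,1)],[(2,2)],[(3,2)],[(0,1)],[(1,1)],[(14,2)],[(15,2)],[(12,1)],[(13,1)],[(10,2)],[(11,2)],[(8,1)],[(9,1)]],
  [[(7,2)],[(6,2)],[(5,1)],[(4,1)],[(3,2)],[(2,2)],[(1,1)],[(0,1)],[(15,2)],[(14,2)],[(13,1)],[(12,1)],[(11,2)],[(10,2)],[(9,1)],[(8,1)]],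
  [[(6,2)],[(7,1)],[(4,1)],[(5,2)],[(2,2)],[(3,1)],[(0,1)],[(1,2)],[(14,2)],[(15,1)],[(12,1)],[(13,2)],[(10,2)],[(11,1)],[(8,1)],[(9,2)]],
  [[(7,1)],[(6,2)],[(5,2)],[(4,1)],[(3,1)],[(2,2)],[(1,2)],[(0,1)],[(15,1)],[(14,2)],[(13,2)],[(12,1)],[(11,1)],[(10,2)],[(9,2)],[(8,1)]],
  [[(0,1)],[(1,1)],[(2,1)],[(3,1)],[(4,2)],[(5,2)],[(6,2)],[(7,2)],[(8,1)],[(9,1)],[(10,1)],[(11,1)],[(12,2)],[(13,2)],[(14,2)],[(15,2)]],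
  [[(1,1)],[(0,1)],[(3,1)],[(2,1)],[(5,2)],[(4,2)],[(7,2)],[(6,2)],[(9,1)],[(8,1)],[(11,1)],[(10,1)],[(13,2)],[(12,2)],[(15,2)],[(14,2)]],
  [[(0,1)],[(1,2)],[(2,1)],[(3,2)],[(4,2)],[(5,1)],[(6,2)],[(7,1)],[(8,1)],[(9,2)],[(10,1)],[(11,2)],[(12,2)],[(13,1)],[(14,2)],[(15,1)]],
  [[(1,2)],[(0,1)],[(3,2)],[(2,1)],[(5,1)],[(4,2)],[(7,1)],[(6,2)],[(9,2)],[(8,1)],[(11,2)],[(10,1)],[(13,1)],[(12,2)],[(15,1)],[(14,2)]],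
  [[(2,1)],[(3,1)],[(0,1)],[(1,1)],[(6,2)],[(7,2)],[(4,2)],[(5,2)],[(10,1)],[(11,1)],[(8,1)],[(9,1)],[(14,2)],[(15,2)],[(12,2)],[(13,2)]],
  [[(3,1)],[(2,1)],[(1,1)],[(0,1)],[(7,2)],[(6,2)],[(5,2)],[(4,2)],[(11,1)],[(10,1)],[(9,1)],[(8,1)],[(15,2)],[(14,2)],[(13,2)],[(12,2)]],
  [[(2,1)],[(3,2)],[(0,1)],[(1,2)],[(6,2)],[(7,1)],[(4,2)],[(5,1)],[(10,1)],[(11,2)],[(8,1)],[(9,2)],[(14,2)],[(15,1)],[(12,2)],[(13,1)]],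
  [[(3,2)],[(2,1)],[(1,2)],[(0,1)],[(7,1)],[(6,2)],[(5,1)],[(4,2)],[(11,2)],[(10,1)],[(9,2)],[(8,1)],[(15,1)],[(14,2)],[(13,1)],[(12,2)]],
  [[(0,1)],[(1,1)],[(2,2)],[(3,2)],[(4,2)],[(5,2)],[(6,1)],[(7,1)],[(8,1)],[(9,1)],[(10,2)],[(11,2)],[(12,2)],[(13,2)],[(14,1)],[(15,1)]],
  [[(1,1)],[(0,1)],[(3,2)],[(2,2)],[(5,2)],[(4,2)],[(7,1)],[(6,1)],[(9,1)],[(8,1)],[(11,2)],[(10,2)],[(13,2)],[(12,2)],[(15,1)],[(14,1)]],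
  [[(0,1)],[(1,2)],[(2,2)],[(3,1)],[(4,2)],[(5,1)],[(6,1)],[(7,2)],[(8,1)],[(9,2)],[(10,2)],[(11,1)],[(12,2)],[(13,1)],[(14,1)],[(15,2)]],
  [[(1,2)],[(0,1)],[(3,1)],[(2,2)],[(5,1)],[(4,2)],[(7,2)],[(6,1)],[(9,2)],[(8,1)],[(11,1)],[(10,2)],[(13,1)],[(12,2)],[(15,2)],[(14,1)]],
  [[(2,2)],[(3,2)],[(0,1)],[(1,1)],[(6,1)],[(7,1)],[(4,2)],[(5,2)],[(10,2)],[(11,2)],[(8,1)],[(9,1)],[(14,1)],[(15,1)],[(12,2)],[(13,2)]],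
  [[(3,2)],[(2,2)],[(1,1)],[(0,1)],[(7,1)],[(6,1)],[(5,2)],[(4,2)],[(11,2)],[(10,2)],[(9,1)],[(8,1)],[(15,1)],[(14,1)],[(13,2)],[(12,2)]],
  [[(2,2)],[(3,1)],[(0,1)],[(1,2)],[(6,1)],[(7,2)],[(4,2)],[(5,1)],[(10,2)],[(11,1)],[(8,1)],[(9,2)],[(14,1)],[(15,2)],[(12,2)],[(13,1)]],
  [[(3,1)],[(2,2)],[(1,2)],[(0,1)],[(7,2)],[(6,1)],[(5,1)],[(4,2)],[(11,1)],[(10,2)],[(9,2)],[(8,1)],[(15,2)],[(14,1)],[(13,1)],[(12,2)]],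
  [[(4,2)],[(5,2)],[(6,2)],[(7,2)],[(0,1)],[(1,1)],[(2,1)],[(3,1)],[(12,2)],[(13,2)],[(14,2)],[(15,2)],[(8,1)],[(9,1)],[(10,1)],[(11,1)]],
  [[(5,2)],[(4,2)],[(7,2)],[(6,2)],[(1,1)],[(0,1)],[(3,1)],[(2,1)],[(13,2)],[(12,2)],[(15,2)],[(14,2)],[(9,1)],[(8,1)],[(11,1)],[(10,1)]],
  [[(4,2)],[(5,1)],[(6,2)],[(7,1)],[(0,1)],[(1,2)],[(2,1)],[(3,2)],[(12,2)],[(13,1)],[(14,2)],[(15,1)],[(8,1)],[(9,2)],[(10,1)],[(11,2)]],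
  [[(5,1)],[(4,2)],[(7,1)],[(6,2)],[(1,2)],[(0,1)],[(3,2)],[(2,1)],[(13,1)],[(12,2)],[(15,1)],[(14,2)],[(9,2)],[(8,1)],[(11,2)],[(10,1)]],
  [[(6,2)],[(7,2)],[(4,2)],[(5,2)],[(2,1)],[(3,1)],[(0,1)],[(1,1)],[(14,2)],[(15,2)],[(12,2)],[(13,2)],[(10,1)],[(11,1)],[(8,1)],[(9,1)]],
  [[(7,2)],[(6,2)],[(5,2)],[(4,2)],[(3,1)],[(2,1)],[(1,1)],[(0,1)],[(15,2)],[(14,2)],[(13,2)],[(12,2)],[(11,1)],[(10,1)],[(9,1)],[(8,1)]],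
  [[(6,2)],[(7,1)],[(4,2)],[(5,1)],[(2,1)],[(3,2)],[(0,1)],[(1,2)],[(14,2)],[(15,1)],[(12,2)],[(13,1)],[(10,1)],[(11,2)],[(8,1)],[(9,2)]],
  [[(7,1)],[(6,2)],[(5,1)],[(4,2)],[(3,2)],[(2,1)],[(1,2)],[(0,1)],[(15,1)],[(14,2)],[(13,1)],[(12,2)],[(11,2)],[(10,1)],[(9,2)],[(8,1)]],
  [[(4,2)],[(5,2)],[(6,1)],[(7,1)],[(0,1)],[(1,1)],[(2,2)],[(3,2)],[(12,2)],[(13,2)],[(14,1)],[(15,1)],[(8,1)],[(9,1)],[(10,2)],[(11,2)]],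
  [[(5,2)],[(4,2)],[(7,1)],[(6,1)],[(1,1)],[(0,1)],[(3,2)],[(2,2)],[(13,2)],[(12,2)],[(15,1)],[(14,1)],[(9,1)],[(8,1)],[(11,2)],[(10,2)]],
  [[(4,2)],[(5,1)],[(6,1)],[(7,2)],[(0,1)],[(1,2)],[(2,2)],[(3,1)],[(12,2)],[(13,1)],[(14,1)],[(15,2)],[(8,1)],[(9,2)],[(10,2)],[(11,1)]],
  [[(5,1)],[(4,2)],[(7,2)],[(6,1)],[(1,2)],[(0,1)],[(3,1)],[(2,2)],[(13,1)],[(12,2)],[(15,2)],[(14,1)],[(9,2)],[(8,1)],[(11,1)],[(10,2)]],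
  [[(6,1)],[(7,1)],[(4,2)],[(5,2)],[(2,2)],[(3,2)],[(0,1)],[(1,1)],[(14,1)],[(15,1)],[(12,2)],[(13,2)],[(10,2)],[(11,2)],[(8,1)],[(9,1)]],
  [[(7,1)],[(6,1)],[(5,2)],[(4,2)],[(3,2)],[(2,2)],[(1,1)],[(0,1)],[(15,1)],[(14,1)],[(13,2)],[(12,2)],[(11,2)],[(10,2)],[(9,1)],[(8,1)]],
  [[(6,1)],[(7,2)],[(4,2)],[(5,1)],[(2,2)],[(3,1)],[(0,1)],[(1,2)],[(14,1)],[(15,2)],[(12,2)],[(13,1)],[(10,2)],[(11,1)],[(8,1)],[(9,2)]],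
  [[(7,2)],[(6,1)],[(5,1)],[(4,2)],[(3,1)],[(2,2)],[(1,2)],[(0,1)],[(15,2)],[(14,1)],[(13,1)],[(12,2)],[(11,1)],[(10,2)],[(9,2)],[(8,1)]],
  [[(8,1)],[(9,1)],[(10,1)],[(11,1)],[(12,1)],[(13,1)],[(14,1)],[(15,1)],[(0,1)],[(1,1)],[(2,1)],[(3,1)],[(4,1)],[(5,1)],[(6,1)],[(7,1)]],
  [[(9,1)],[(8,1)],[(11,1)],[(10,1)],[(13,1)],[(12,1)],[(15,1)],[(14,1)],[(1,1)],[(0,1)],[(3,1)],[(2,1)],[(5,1)],[(4,1)],[(7,1)],[(6,1)]],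
  [[(8,1)],[(9,2)],[(10,1)],[(11,2)],[(12,1)],[(13,2)],[(14,1)],[(15,2)],[(0,1)],[(1,2)],[(2,1)],[(3,2)],[(4,1)],[(5,2)],[(6,1)],[(7,2)]],
  [[(9,2)],[(8,1)],[(11,2)],[(10,1)],[(13,2)],[(12,1)],[(15,2)],[(14,1)],[(1,2)],[(0,1)],[(3,2)],[(2,1)],[(5,2)],[(4,1)],[(7,2)],[(6,1)]],
  [[(10,1)],[(11,1)],[(8,1)],[(9,1)],[(14,1)],[(15,1)],[(12,1)],[(13,1)],[(2,1)],[(3,1)],[(0,1)],[(1,1)],[(6,1)],[(7,1)],[(4,1)],[(5,1)]],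
  [[(11,1)],[(10,1)],[(9,1)],[(8,1)],[(15,1)],[(14,1)],[(13,1)],[(12,1)],[(3,1)],[(2,1)],[(1,1)],[(0,1)],[(7,1)],[(6,1)],[(5,1)],[(4,1)]],
  [[(10,1)],[(11,2)],[(8,1)],[(9,2)],[(14,1)],[(15,2)],[(12,1)],[(13,2)],[(2,1)],[(3,2)],[(0,1)],[(1,2)],[(6,1)],[(7,2)],[(4,1)],[(5,2)]],
  [[(11,2)],[(10,1)],[(9,2)],[(8,1)],[(15,2)],[(14,1)],[(13,2)],[(12,1)],[(3,2)],[(2,1)],[(1,2)],[(0,1)],[(7,2)],[(6,1)],[(5,2)],[(4,1)]],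
  [[(8,1)],[(9,1)],[(10,2)],[(11,2)],[(12,1)],[(13,1)],[(14,2)],[(15,2)],[(0,1)],[(1,1)],[(2,2)],[(3,2)],[(4,1)],[(5,1)],[(6,2)],[(7,2)]],
  [[(9,1)],[(8,1)],[(11,2)],[(10,2)],[(13,1)],[(12,1)],[(15,2)],[(14,2)],[(1,1)],[(0,1)],[(3,2)],[(2,2)],[(5,1)],[(4,1)],[(7,2)],[(6,2)]],
  [[(8,1)],[(9,2)],[(10,2)],[(11,1)],[(12,1)],[(13,2)],[(14,2)],[(15,1)],[(0,1)],[(1,2)],[(2,2)],[(3,1)],[(4,1)],[(5,2)],[(6,2)],[(7,1)]],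
  [[(9,2)],[(8,1)],[(11,1)],[(10,2)],[(13,2)],[(12,1)],[(15,1)],[(14,2)],[(1,2)],[(0,1)],[(3,1)],[(2,2)],[(5,2)],[(4,1)],[(7,1)],[(6,2)]],
  [[(10,2)],[(11,2)],[(8,1)],[(9,1)],[(14,2)],[(15,2)],[(12,1)],[(13,1)],[(2,2)],[(3,2)],[(0,1)],[(1,1)],[(6,2)],[(7,2)],[(4,1)],[(5,1)]],
  [[(11,2)],[(10,2)],[(9,1)],[(8,1)],[(15,2)],[(14,2)],[(13,1)],[(12,1)],[(3,2)],[(2,2)],[(1,1)],[(0,1)],[(7,2)],[(6,2)],[(5,1)],[(4,1)]],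
  [[(10,2)],[(11,1)],[(8,1)],[(9,2)],[(14,2)],[(15,1)],[(12,1)],[(13,2)],[(2,2)],[(3,1)],[(0,1)],[(1,2)],[(6,2)],[(7,1)],[(4,1)],[(5,2)]],
  [[(11,1)],[(10,2)],[(9,2)],[(8,1)],[(15,1)],[(14,2)],[(13,2)],[(12,1)],[(3,1)],[(2,2)],[(1,2)],[(0,1)],[(7,1)],[(6,2)],[(5,2)],[(4,1)]],
  [[(12,1)],[(13,1)],[(14,1)],[(15,1)],[(8,1)],[(9,1)],[(10,1)],[(11,1)],[(4,1)],[(5,1)],[(6,1)],[(7,1)],[(0,1)],[(1,1)],[(2,1)],[(3,1)]],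
  [[(13,1)],[(12,1)],[(15,1)],[(14,1)],[(9,1)],[(8,1)],[(11,1)],[(10,1)],[(5,1)],[(4,1)],[(7,1)],[(6,1)],[(1,1)],[(0,1)],[(3,1)],[(2,1)]],
  [[(12,1)],[(13,2)],[(14,1)],[(15,2)],[(8,1)],[(9,2)],[(10,1)],[(11,2)],[(4,1)],[(5,2)],[(6,1)],[(7,2)],[(0,1)],[(1,2)],[(2,1)],[(3,2)]],
  [[(13,2)],[(12,1)],[(15,2)],[(14,1)],[(9,2)],[(8,1)],[(11,2)],[(10,1)],[(5,2)],[(4,1)],[(7,2)],[(6,1)],[(1,2)],[(0,1)],[(3,2)],[(2,1)]],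
  [[(14,1)],[(15,1)],[(12,1)],[(13,1)],[(10,1)],[(11,1)],[(8,1)],[(9,1)],[(6,1)],[(7,1)],[(4,1)],[(5,1)],[(2,1)],[(3,1)],[(0,1)],[(1,1)]],
  [[(15,1)],[(14,1)],[(13,1)],[(12,1)],[(11,1)],[(10,1)],[(9,1)],[(8,1)],[(7,1)],[(6,1)],[(5,1)],[(4,1)],[(3,1)],[(2,1)],[(1,1)],[(0,1)]],
  [[(14,1)],[(15,2)],[(12,1)],[(13,2)],[(10,1)],[(11,2)],[(8,1)],[(9,2)],[(6,1)],[(7,2)],[(4,1)],[(5,2)],[(2,1)],[(3,2)],[(0,1)],[(1,2)]],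
  [[(15,2)],[(14,1)],[(13,2)],[(12,1)],[(11,2)],[(10,1)],[(9,2)],[(8,1)],[(7,2)],[(6,1)],[(5,2)],[(4,1)],[(3,2)],[(2,1)],[(1,2)],[(0,1)]],
  [[(12,1)],[(13,1)],[(14,2)],[(15,2)],[(8,1)],[(9,1)],[(10,2)],[(11,2)],[(4,1)],[(5,1)],[(6,2)],[(7,2)],[(0,1)],[(1,1)],[(2,2)],[(3,2)]],
  [[(13,1)],[(12,1)],[(15,2)],[(14,2)],[(9,1)],[(8,1)],[(11,2)],[(10,2)],[(5,1)],[(4,1)],[(7,2)],[(6,2)],[(1,1)],[(0,1)],[(3,2)],[(2,2)]],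
  [[(12,1)],[(13,2)],[(14,2)],[(15,1)],[(8,1)],[(9,2)],[(10,2)],[(11,1)],[(4,1)],[(5,2)],[(6,2)],[(7,1)],[(0,1)],[(1,2)],[(2,2)],[(3,1)]],
  [[(13,2)],[(12,1)],[(15,1)],[(14,2)],[(9,2)],[(8,1)],[(11,1)],[(10,2)],[(5,2)],[(4,1)],[(7,1)],[(6,2)],[(1,2)],[(0,1)],[(3,1)],[(2,2)]],
  [[(14,2)],[(15,2)],[(12,1)],[(13,1)],[(10,2)],[(11,2)],[(8,1)],[(9,1)],[(6,2)],[(7,2)],[(4,1)],[(5,1)],[(2,2)],[(3,2)],[(0,1)],[(1,1)]],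
  [[(15,2)],[(14,2)],[(13,1)],[(12,1)],[(11,2)],[(10,2)],[(9,1)],[(8,1)],[(7,2)],[(6,2)],[(5,1)],[(4,1)],[(3,2)],[(2,2)],[(1,1)],[(0,1)]],
  [[(14,2)],[(15,1)],[(12,1)],[(13,2)],[(10,2)],[(11,1)],[(8,1)],[(9,2)],[(6,2)],[(7,1)],[(4,1)],[(5,2)],[(2,2)],[(3,1)],[(0,1)],[(1,2)]],
  [[(15,1)],[(14,2)],[(13,2)],[(12,1)],[(11,1)],[(10,2)],[(9,2)],[(8,1)],[(7,1)],[(6,2)],[(5,2)],[(4,1)],[(3,1)],[(2,2)],[(1,2)],[(0,1)]],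
  [[(8,1)],[(9,1)],[(10,1)],[(11,1)],[(12,2)],[(13,2)],[(14,2)],[(15,2)],[(0,1)],[(1,1)],[(2,1)],[(3,1)],[(4,2)],[(5,2)],[(6,2)],[(7,2)]],
  [[(9,1)],[(8,1)],[(11,1)],[(10,1)],[(13,2)],[(12,2)],[(15,2)],[(14,2)],[(1,1)],[(0,1)],[(3,1)],[(2,1)],[(5,2)],[(4,2)],[(7,2)],[(6,2)]],
  [[(8,1)],[(9,2)],[(10,1)],[(11,2)],[(12,2)],[(13,1)],[(14,2)],[(15,1)],[(0,1)],[(1,2)],[(2,1)],[(3,2)],[(4,2)],[(5,1)],[(6,2)],[(7,1)]],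
  [[(9,2)],[(8,1)],[(11,2)],[(10,1)],[(13,1)],[(12,2)],[(15,1)],[(14,2)],[(1,2)],[(0,1)],[(3,2)],[(2,1)],[(5,1)],[(4,2)],[(7,1)],[(6,2)]],
  [[(10,1)],[(11,1)],[(8,1)],[(9,1)],[(14,2)],[(15,2)],[(12,2)],[(13,2)],[(2,1)],[(3,1)],[(0,1)],[(1,1)],[(6,2)],[(7,2)],[(4,2)],[(5,2)]],
  [[(11,1)],[(10,1)],[(9,1)],[(8,1)],[(15,2)],[(14,2)],[(13,2)],[(12,2)],[(3,1)],[(2,1)],[(1,1)],[(0,1)],[(7,2)],[(6,2)],[(5,2)],[(4,2)]],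
  [[(10,1)],[(11,2)],[(8,1)],[(9,2)],[(14,2)],[(15,1)],[(12,2)],[(13,1)],[(2,1)],[(3,2)],[(0,1)],[(1,2)],[(6,2)],[(7,1)],[(4,2)],[(5,1)]],
  [[(11,2)],[(10,1)],[(9,2)],[(8,1)],[(15,1)],[(14,2)],[(13,1)],[(12,2)],[(3,2)],[(2,1)],[(1,2)],[(0,1)],[(7,1)],[(6,2)],[(5,1)],[(4,2)]],
  [[(8,1)],[(9,1)],[(10,2)],[(11,2)],[(12,2)],[(13,2)],[(14,1)],[(15,1)],[(0,1)],[(1,1)],[(2,2)],[(3,2)],[(4,2)],[(5,2)],[(6,1)],[(7,1)]],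
  [[(9,1)],[(8,1)],[(11,2)],[(10,2)],[(13,2)],[(12,2)],[(15,1)],[(14,1)],[(1,1)],[(0,1)],[(3,2)],[(2,2)],[(5,2)],[(4,2)],[(7,1)],[(6,1)]],
  [[(8,1)],[(9,2)],[(10,2)],[(11,1)],[(12,2)],[(13,1)],[(14,1)],[(15,2)],[(0,1)],[(1,2)],[(2,2)],[(3,1)],[(4,2)],[(5,1)],[(6,1)],[(7,2)]],
  [[(9,2)],[(8,1)],[(11,1)],[(10,2)],[(13,1)],[(12,2)],[(15,2)],[(14,1)],[(1,2)],[(0,1)],[(3,1)],[(2,2)],[(5,1)],[(4,2)],[(7,2)],[(6,1)]],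
  [[(10,2)],[(11,2)],[(8,1)],[(9,1)],[(14,1)],[(15,1)],[(12,2)],[(13,2)],[(2,2)],[(3,2)],[(0,1)],[(1,1)],[(6,1)],[(7,1)],[(4,2)],[(5,2)]],
  [[(11,2)],[(10,2)],[(9,1)],[(8,1)],[(15,1)],[(14,1)],[(13,2)],[(12,2)],[(3,2)],[(2,2)],[(1,1)],[(0,1)],[(7,1)],[(6,1)],[(5,2)],[(4,2)]],
  [[(10,2)],[(11,1)],[(8,1)],[(9,2)],[(14,1)],[(15,2)],[(12,2)],[(13,1)],[(2,2)],[(3,1)],[(0,1)],[(1,2)],[(6,1)],[(7,2)],[(4,2)],[(5,1)]],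
  [[(11,1)],[(10,2)],[(9,2)],[(8,1)],[(15,2)],[(14,1)],[(13,1)],[(12,2)],[(3,1)],[(2,2)],[(1,2)],[(0,1)],[(7,2)],[(6,1)],[(5,1)],[(4,2)]],
  [[(12,2)],[(13,2)],[(14,2)],[(15,2)],[(8,1)],[(9,1)],[(10,1)],[(11,1)],[(4,2)],[(5,2)],[(6,2)],[(7,2)],[(0,1)],[(1,1)],[(2,1)],[(3,1)]],
  [[(13,2)],[(12,2)],[(15,2)],[(14,2)],[(9,1)],[(8,1)],[(11,1)],[(10,1)],[(5,2)],[(4,2)],[(7,2)],[(6,2)],[(1,1)],[(0,1)],[(3,1)],[(2,1)]],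
  [[(12,2)],[(13,1)],[(14,2)],[(15,1)],[(8,1)],[(9,2)],[(10,1)],[(11,2)],[(4,2)],[(5,1)],[(6,2)],[(7,1)],[(0,1)],[(1,2)],[(2,1)],[(3,2)]],
  [[(13,1)],[(12,2)],[(15,1)],[(14,2)],[(9,2)],[(8,1)],[(11,2)],[(10,1)],[(5,1)],[(4,2)],[(7,1)],[(6,2)],[(1,2)],[(0,1)],[(3,2)],[(2,1)]],
  [[(14,2)],[(15,2)],[(12,2)],[(13,2)],[(10,1)],[(11,1)],[(8,1)],[(9,1)],[(6,2)],[(7,2)],[(4,2)],[(5,2)],[(2,1)],[(3,1)],[(0,1)],[(1,1)]],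
  [[(15,2)],[(14,2)],[(13,2)],[(12,2)],[(11,1)],[(10,1)],[(9,1)],[(8,1)],[(7,2)],[(6,2)],[(5,2)],[(4,2)],[(3,1)],[(2,1)],[(1,1)],[(0,1)]],
  [[(14,2)],[(15,1)],[(12,2)],[(13,1)],[(10,1)],[(11,2)],[(8,1)],[(9,2)],[(6,2)],[(7,1)],[(4,2)],[(5,1)],[(2,1)],[(3,2)],[(0,1)],[(1,2)]],
  [[(15,1)],[(14,2)],[(13,1)],[(12,2)],[(11,2)],[(10,1)],[(9,2)],[(8,1)],[(7,1)],[(6,2)],[(5,1)],[(4,2)],[(3,2)],[(2,1)],[(1,2)],[(0,1)]],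
  [[(12,2)],[(13,2)],[(14,1)],[(15,1)],[(8,1)],[(9,1)],[(10,2)],[(11,2)],[(4,2)],[(5,2)],[(6,1)],[(7,1)],[(0,1)],[(1,1)],[(2,2)],[(3,2)]],
  [[(13,2)],[(12,2)],[(15,1)],[(14,1)],[(9,1)],[(8,1)],[(11,2)],[(10,2)],[(5,2)],[(4,2)],[(7,1)],[(6,1)],[(1,1)],[(0,1)],[(3,2)],[(2,2)]],
  [[(12,2)],[(13,1)],[(14,1)],[(15,2)],[(8,1)],[(9,2)],[(10,2)],[(11,1)],[(4,2)],[(5,1)],[(6,1)],[(7,2)],[(0,1)],[(1,2)],[(2,2)],[(3,1)]],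
  [[(13,1)],[(12,2)],[(15,2)],[(14,1)],[(9,2)],[(8,1)],[(11,1)],[(10,2)],[(5,1)],[(4,2)],[(7,2)],[(6,1)],[(1,2)],[(0,1)],[(3,1)],[(2,2)]],
  [[(14,1)],[(15,1)],[(12,2)],[(13,2)],[(10,2)],[(11,2)],[(8,1)],[(9,1)],[(6,1)],[(7,1)],[(4,2)],[(5,2)],[(2,2)],[(3,2)],[(0,1)],[(1,1)]],
  [[(15,1)],[(14,1)],[(13,2)],[(12,2)],[(11,2)],[(10,2)],[(9,1)],[(8,1)],[(7,1)],[(6,1)],[(5,2)],[(4,2)],[(3,2)],[(2,2)],[(1,1)],[(0,1)]],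
  [[(14,1)],[(15,2)],[(12,2)],[(13,1)],[(10,2)],[(11,1)],[(8,1)],[(9,2)],[(6,1)],[(7,2)],[(4,2)],[(5,1)],[(2,2)],[(3,1)],[(0,1)],[(1,2)]],
  [[(15,2)],[(14,1)],[(13,1)],[(12,2)],[(11,1)],[(10,2)],[(9,2)],[(8,1)],[(7,2)],[(6,1)],[(5,1)],[(4,2)],[(3,1)],[(2,2)],[(1,2)],[(0,1)]],
  [[(0,1)],[(1,1)],[(2,1)],[(3,1)],[(4,1)],[(5,1)],[(6,1)],[(7,1)],[(8,2)],[(9,2)],[(10,2)],[(11,2)],[(12,2)],[(13,2)],[(14,2)],[(15,2)]],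
  [[(1,1)],[(0,1)],[(3,1)],[(2,1)],[(5,1)],[(4,1)],[(7,1)],[(6,1)],[(9,2)],[(8,2)],[(11,2)],[(10,2)],[(13,2)],[(12,2)],[(15,2)],[(14,2)]],
  [[(0,1)],[(1,2)],[(2,1)],[(3,2)],[(4,1)],[(5,2)],[(6,1)],[(7,2)],[(8,2)],[(9,1)],[(10,2)],[(11,1)],[(12,2)],[(13,1)],[(14,2)],[(15,1)]],
  [[(1,2)],[(0,1)],[(3,2)],[(2,1)],[(5,2)],[(4,1)],[(7,2)],[(6,1)],[(9,1)],[(8,2)],[(11,1)],[(10,2)],[(13,1)],[(12,2)],[(15,1)],[(14,2)]],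
  [[(2,1)],[(3,1)],[(0,1)],[(1,1)],[(6,1)],[(7,1)],[(4,1)],[(5,1)],[(10,2)],[(11,2)],[(8,2)],[(9,2)],[(14,2)],[(15,2)],[(12,2)],[(13,2)]],
  [[(3,1)],[(2,1)],[(1,1)],[(0,1)],[(7,1)],[(6,1)],[(5,1)],[(4,1)],[(11,2)],[(10,2)],[(9,2)],[(8,2)],[(15,2)],[(14,2)],[(13,2)],[(12,2)]],
  [[(2,1)],[(3,2)],[(0,1)],[(1,2)],[(6,1)],[(7,2)],[(4,1)],[(5,2)],[(10,2)],[(11,1)],[(8,2)],[(9,1)],[(14,2)],[(15,1)],[(12,2)],[(13,1)]],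
  [[(3,2)],[(2,1)],[(1,2)],[(0,1)],[(7,2)],[(6,1)],[(5,2)],[(4,1)],[(11,1)],[(10,2)],[(9,1)],[(8,2)],[(15,1)],[(14,2)],[(13,1)],[(12,2)]],
  [[(0,1)],[(1,1)],[(2,2)],[(3,2)],[(4,1)],[(5,1)],[(6,2)],[(7,2)],[(8,2)],[(9,2)],[(10,1)],[(11,1)],[(12,2)],[(13,2)],[(14,1)],[(15,1)]],
  [[(1,1)],[(0,1)],[(3,2)],[(2,2)],[(5,1)],[(4,1)],[(7,2)],[(6,2)],[(9,2)],[(8,2)],[(11,1)],[(10,1)],[(13,2)],[(12,2)],[(15,1)],[(14,1)]],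
  [[(0,1)],[(1,2)],[(2,2)],[(3,1)],[(4,1)],[(5,2)],[(6,2)],[(7,1)],[(8,2)],[(9,1)],[(10,1)],[(11,2)],[(12,2)],[(13,1)],[(14,1)],[(15,2)]],
  [[(1,2)],[(0,1)],[(3,1)],[(2,2)],[(5,2)],[(4,1)],[(7,1)],[(6,2)],[(9,1)],[(8,2)],[(11,2)],[(10,1)],[(13,1)],[(12,2)],[(15,2)],[(14,1)]],
  [[(2,2)],[(3,2)],[(0,1)],[(1,1)],[(6,2)],[(7,2)],[(4,1)],[(5,1)],[(10,1)],[(11,1)],[(8,2)],[(9,2)],[(14,1)],[(15,1)],[(12,2)],[(13,2)]],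
  [[(3,2)],[(2,2)],[(1,1)],[(0,1)],[(7,2)],[(6,2)],[(5,1)],[(4,1)],[(11,1)],[(10,1)],[(9,2)],[(8,2)],[(15,1)],[(14,1)],[(13,2)],[(12,2)]],
  [[(2,2)],[(3,1)],[(0,1)],[(1,2)],[(6,2)],[(7,1)],[(4,1)],[(5,2)],[(10,1)],[(11,2)],[(8,2)],[(9,1)],[(14,1)],[(15,2)],[(12,2)],[(13,1)]],
  [[(3,1)],[(2,2)],[(1,2)],[(0,1)],[(7,1)],[(6,2)],[(5,2)],[(4,1)],[(11,2)],[(10,1)],[(9,1)],[(8,2)],[(15,2)],[(14,1)],[(13,1)],[(12,2)]],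
  [[(4,1)],[(5,1)],[(6,1)],[(7,1)],[(0,1)],[(1,1)],[(2,1)],[(3,1)],[(12,2)],[(13,2)],[(14,2)],[(15,2)],[(8,2)],[(9,2)],[(10,2)],[(11,2)]],
  [[(5,1)],[(4,1)],[(7,1)],[(6,1)],[(1,1)],[(0,1)],[(3,1)],[(2,1)],[(13,2)],[(12,2)],[(15,2)],[(14,2)],[(9,2)],[(8,2)],[(11,2)],[(10,2)]],
  [[(4,1)],[(5,2)],[(6,1)],[(7,2)],[(0,1)],[(1,2)],[(2,1)],[(3,2)],[(12,2)],[(13,1)],[(14,2)],[(15,1)],[(8,2)],[(9,1)],[(10,2)],[(11,1)]],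
  [[(5,2)],[(4,1)],[(7,2)],[(6,1)],[(1,2)],[(0,1)],[(3,2)],[(2,1)],[(13,1)],[(12,2)],[(15,1)],[(14,2)],[(9,1)],[(8,2)],[(11,1)],[(10,2)]],
  [[(6,1)],[(7,1)],[(4,1)],[(5,1)],[(2,1)],[(3,1)],[(0,1)],[(1,1)],[(14,2)],[(15,2)],[(12,2)],[(13,2)],[(10,2)],[(11,2)],[(8,2)],[(9,2)]],
  [[(7,1)],[(6,1)],[(5,1)],[(4,1)],[(3,1)],[(2,1)],[(1,1)],[(0,1)],[(15,2)],[(14,2)],[(13,2)],[(12,2)],[(11,2)],[(10,2)],[(9,2)],[(8,2)]],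
  [[(6,1)],[(7,2)],[(4,1)],[(5,2)],[(2,1)],[(3,2)],[(0,1)],[(1,2)],[(14,2)],[(15,1)],[(12,2)],[(13,1)],[(10,2)],[(11,1)],[(8,2)],[(9,1)]],
  [[(7,2)],[(6,1)],[(5,2)],[(4,1)],[(3,2)],[(2,1)],[(1,2)],[(0,1)],[(15,1)],[(14,2)],[(13,1)],[(12,2)],[(11,1)],[(10,2)],[(9,1)],[(8,2)]],
  [[(4,1)],[(5,1)],[(6,2)],[(7,2)],[(0,1)],[(1,1)],[(2,2)],[(3,2)],[(12,2)],[(13,2)],[(14,1)],[(15,1)],[(8,2)],[(9,2)],[(10,1)],[(11,1)]],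
  [[(5,1)],[(4,1)],[(7,2)],[(6,2)],[(1,1)],[(0,1)],[(3,2)],[(2,2)],[(13,2)],[(12,2)],[(15,1)],[(14,1)],[(9,2)],[(8,2)],[(11,1)],[(10,1)]],
  [[(4,1)],[(5,2)],[(6,2)],[(7,1)],[(0,1)],[(1,2)],[(2,2)],[(3,1)],[(12,2)],[(13,1)],[(14,1)],[(15,2)],[(8,2)],[(9,1)],[(10,1)],[(11,2)]],
  [[(5,2)],[(4,1)],[(7,1)],[(6,2)],[(1,2)],[(0,1)],[(3,1)],[(2,2)],[(13,1)],[(12,2)],[(15,2)],[(14,1)],[(9,1)],[(8,2)],[(11,2)],[(10,1)]],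
  [[(6,2)],[(7,2)],[(4,1)],[(5,1)],[(2,2)],[(3,2)],[(0,1)],[(1,1)],[(14,1)],[(15,1)],[(12,2)],[(13,2)],[(10,1)],[(11,1)],[(8,2)],[(9,2)]],
  [[(7,2)],[(6,2)],[(5,1)],[(4,1)],[(3,2)],[(2,2)],[(1,1)],[(0,1)],[(15,1)],[(14,1)],[(13,2)],[(12,2)],[(11,1)],[(10,1)],[(9,2)],[(8,2)]],
  [[(6,2)],[(7,1)],[(4,1)],[(5,2)],[(2,2)],[(3,1)],[(0,1)],[(1,2)],[(14,1)],[(15,2)],[(12,2)],[(13,1)],[(10,1)],[(11,2)],[(8,2)],[(9,1)]],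
  [[(7,1)],[(6,2)],[(5,2)],[(4,1)],[(3,1)],[(2,2)],[(1,2)],[(0,1)],[(15,2)],[(14,1)],[(13,1)],[(12,2)],[(11,2)],[(10,1)],[(9,1)],[(8,2)]],
  [[(0,1)],[(1,1)],[(2,1)],[(3,1)],[(4,2)],[(5,2)],[(6,2)],[(7,2)],[(8,2)],[(9,2)],[(10,2)],[(11,2)],[(12,1)],[(13,1)],[(14,1)],[(15,1)]],
  [[(1,1)],[(0,1)],[(3,1)],[(2,1)],[(5,2)],[(4,2)],[(7,2)],[(6,2)],[(9,2)],[(8,2)],[(11,2)],[(10,2)],[(13,1)],[(12,1)],[(15,1)],[(14,1)]],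
  [[(0,1)],[(1,2)],[(2,1)],[(3,2)],[(4,2)],[(5,1)],[(6,2)],[(7,1)],[(8,2)],[(9,1)],[(10,2)],[(11,1)],[(12,1)],[(13,2)],[(14,1)],[(15,2)]],
  [[(1,2)],[(0,1)],[(3,2)],[(2,1)],[(5,1)],[(4,2)],[(7,1)],[(6,2)],[(9,1)],[(8,2)],[(11,1)],[(10,2)],[(13,2)],[(12,1)],[(15,2)],[(14,1)]],
  [[(2,1)],[(3,1)],[(0,1)],[(1,1)],[(6,2)],[(7,2)],[(4,2)],[(5,2)],[(10,2)],[(11,2)],[(8,2)],[(9,2)],[(14,1)],[(15,1)],[(12,1)],[(13,1)]],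
  [[(3,1)],[(2,1)],[(1,1)],[(0,1)],[(7,2)],[(6,2)],[(5,2)],[(4,2)],[(11,2)],[(10,2)],[(9,2)],[(8,2)],[(15,1)],[(14,1)],[(13,1)],[(12,1)]],
  [[(2,1)],[(3,2)],[(0,1)],[(1,2)],[(6,2)],[(7,1)],[(4,2)],[(5,1)],[(10,2)],[(11,1)],[(8,2)],[(9,1)],[(14,1)],[(15,2)],[(12,1)],[(13,2)]],
  [[(3,2)],[(2,1)],[(1,2)],[(0,1)],[(7,1)],[(6,2)],[(5,1)],[(4,2)],[(11,1)],[(10,2)],[(9,1)],[(8,2)],[(15,2)],[(14,1)],[(13,2)],[(12,1)]],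
  [[(0,1)],[(1,1)],[(2,2)],[(3,2)],[(4,2)],[(5,2)],[(6,1)],[(7,1)],[(8,2)],[(9,2)],[(10,1)],[(11,1)],[(12,1)],[(13,1)],[(14,2)],[(15,2)]],
  [[(1,1)],[(0,1)],[(3,2)],[(2,2)],[(5,2)],[(4,2)],[(7,1)],[(6,1)],[(9,2)],[(8,2)],[(11,1)],[(10,1)],[(13,1)],[(12,1)],[(15,2)],[(14,2)]],
  [[(0,1)],[(1,2)],[(2,2)],[(3,1)],[(4,2)],[(5,1)],[(6,1)],[(7,2)],[(8,2)],[(9,1)],[(10,1)],[(11,2)],[(12,1)],[(13,2)],[(14,2)],[(15,1)]],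
  [[(1,2)],[(0,1)],[(3,1)],[(2,2)],[(5,1)],[(4,2)],[(7,2)],[(6,1)],[(9,1)],[(8,2)],[(11,2)],[(10,1)],[(13,2)],[(12,1)],[(15,1)],[(14,2)]],
  [[(2,2)],[(3,2)],[(0,1)],[(1,1)],[(6,1)],[(7,1)],[(4,2)],[(5,2)],[(10,1)],[(11,1)],[(8,2)],[(9,2)],[(14,2)],[(15,2)],[(12,1)],[(13,1)]],
  [[(3,2)],[(2,2)],[(1,1)],[(0,1)],[(7,1)],[(6,1)],[(5,2)],[(4,2)],[(11,1)],[(10,1)],[(9,2)],[(8,2)],[(15,2)],[(14,2)],[(13,1)],[(12,1)]],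
  [[(2,2)],[(3,1)],[(0,1)],[(1,2)],[(6,1)],[(7,2)],[(4,2)],[(5,1)],[(10,1)],[(11,2)],[(8,2)],[(9,1)],[(14,2)],[(15,1)],[(12,1)],[(13,2)]],
  [[(3,1)],[(2,2)],[(1,2)],[(0,1)],[(7,2)],[(6,1)],[(5,1)],[(4,2)],[(11,2)],[(10,1)],[(9,1)],[(8,2)],[(15,1)],[(14,2)],[(13,2)],[(12,1)]],
  [[(4,2)],[(5,2)],[(6,2)],[(7,2)],[(0,1)],[(1,1)],[(2,1)],[(3,1)],[(12,1)],[(13,1)],[(14,1)],[(15,1)],[(8,2)],[(9,2)],[(10,2)],[(11,2)]],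
  [[(5,2)],[(4,2)],[(7,2)],[(6,2)],[(1,1)],[(0,1)],[(3,1)],[(2,1)],[(13,1)],[(12,1)],[(15,1)],[(14,1)],[(9,2)],[(8,2)],[(11,2)],[(10,2)]],
  [[(4,2)],[(5,1)],[(6,2)],[(7,1)],[(0,1)],[(1,2)],[(2,1)],[(3,2)],[(12,1)],[(13,2)],[(14,1)],[(15,2)],[(8,2)],[(9,1)],[(10,2)],[(11,1)]],
  [[(5,1)],[(4,2)],[(7,1)],[(6,2)],[(1,2)],[(0,1)],[(3,2)],[(2,1)],[(13,2)],[(12,1)],[(15,2)],[(14,1)],[(9,1)],[(8,2)],[(11,1)],[(10,2)]],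
  [[(6,2)],[(7,2)],[(4,2)],[(5,2)],[(2,1)],[(3,1)],[(0,1)],[(1,1)],[(14,1)],[(15,1)],[(12,1)],[(13,1)],[(10,2)],[(11,2)],[(8,2)],[(9,2)]],
  [[(7,2)],[(6,2)],[(5,2)],[(4,2)],[(3,1)],[(2,1)],[(1,1)],[(0,1)],[(15,1)],[(14,1)],[(13,1)],[(12,1)],[(11,2)],[(10,2)],[(9,2)],[(8,2)]],
  [[(6,2)],[(7,1)],[(4,2)],[(5,1)],[(2,1)],[(3,2)],[(0,1)],[(1,2)],[(14,1)],[(15,2)],[(12,1)],[(13,2)],[(10,2)],[(11,1)],[(8,2)],[(9,1)]],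
  [[(7,1)],[(6,2)],[(5,1)],[(4,2)],[(3,2)],[(2,1)],[(1,2)],[(0,1)],[(15,2)],[(14,1)],[(13,2)],[(12,1)],[(11,1)],[(10,2)],[(9,1)],[(8,2)]],
  [[(4,2)],[(5,2)],[(6,1)],[(7,1)],[(0,1)],[(1,1)],[(2,2)],[(3,2)],[(12,1)],[(13,1)],[(14,2)],[(15,2)],[(8,2)],[(9,2)],[(10,1)],[(11,1)]],
  [[(5,2)],[(4,2)],[(7,1)],[(6,1)],[(1,1)],[(0,1)],[(3,2)],[(2,2)],[(13,1)],[(12,1)],[(15,2)],[(14,2)],[(9,2)],[(8,2)],[(11,1)],[(10,1)]],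
  [[(4,2)],[(5,1)],[(6,1)],[(7,2)],[(0,1)],[(1,2)],[(2,2)],[(3,1)],[(12,1)],[(13,2)],[(14,2)],[(15,1)],[(8,2)],[(9,1)],[(10,1)],[(11,2)]],
  [[(5,1)],[(4,2)],[(7,2)],[(6,1)],[(1,2)],[(0,1)],[(3,1)],[(2,2)],[(13,2)],[(12,1)],[(15,1)],[(14,2)],[(9,1)],[(8,2)],[(11,2)],[(10,1)]],
  [[(6,1)],[(7,1)],[(4,2)],[(5,2)],[(2,2)],[(3,2)],[(0,1)],[(1,1)],[(14,2)],[(15,2)],[(12,1)],[(13,1)],[(10,1)],[(11,1)],[(8,2)],[(9,2)]],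
  [[(7,1)],[(6,1)],[(5,2)],[(4,2)],[(3,2)],[(2,2)],[(1,1)],[(0,1)],[(15,2)],[(14,2)],[(13,1)],[(12,1)],[(11,1)],[(10,1)],[(9,2)],[(8,2)]],
  [[(6,1)],[(7,2)],[(4,2)],[(5,1)],[(2,2)],[(3,1)],[(0,1)],[(1,2)],[(14,2)],[(15,1)],[(12,1)],[(13,2)],[(10,1)],[(11,2)],[(8,2)],[(9,1)]],
  [[(7,2)],[(6,1)],[(5,1)],[(4,2)],[(3,1)],[(2,2)],[(1,2)],[(0,1)],[(15,1)],[(14,2)],[(13,2)],[(12,1)],[(11,2)],[(10,1)],[(9,1)],[(8,2)]],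
  [[(8,2)],[(9,2)],[(10,2)],[(11,2)],[(12,2)],[(13,2)],[(14,2)],[(15,2)],[(0,1)],[(1,1)],[(2,1)],[(3,1)],[(4,1)],[(5,1)],[(6,1)],[(7,1)]],
  [[(9,2)],[(8,2)],[(11,2)],[(10,2)],[(13,2)],[(12,2)],[(15,2)],[(14,2)],[(1,1)],[(0,1)],[(3,1)],[(2,1)],[(5,1)],[(4,1)],[(7,1)],[(6,1)]],
  [[(8,2)],[(9,1)],[(10,2)],[(11,1)],[(12,2)],[(13,1)],[(14,2)],[(15,1)],[(0,1)],[(1,2)],[(2,1)],[(3,2)],[(4,1)],[(5,2)],[(6,1)],[(7,2)]],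
  [[(9,1)],[(8,2)],[(11,1)],[(10,2)],[(13,1)],[(12,2)],[(15,1)],[(14,2)],[(1,2)],[(0,1)],[(3,2)],[(2,1)],[(5,2)],[(4,1)],[(7,2)],[(6,1)]],
  [[(10,2)],[(11,2)],[(8,2)],[(9,2)],[(14,2)],[(15,2)],[(12,2)],[(13,2)],[(2,1)],[(3,1)],[(0,1)],[(1,1)],[(6,1)],[(7,1)],[(4,1)],[(5,1)]],
  [[(11,2)],[(10,2)],[(9,2)],[(8,2)],[(15,2)],[(14,2)],[(13,2)],[(12,2)],[(3,1)],[(2,1)],[(1,1)],[(0,1)],[(7,1)],[(6,1)],[(5,1)],[(4,1)]],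
  [[(10,2)],[(11,1)],[(8,2)],[(9,1)],[(14,2)],[(15,1)],[(12,2)],[(13,1)],[(2,1)],[(3,2)],[(0,1)],[(1,2)],[(6,1)],[(7,2)],[(4,1)],[(5,2)]],
  [[(11,1)],[(10,2)],[(9,1)],[(8,2)],[(15,1)],[(14,2)],[(13,1)],[(12,2)],[(3,2)],[(2,1)],[(1,2)],[(0,1)],[(7,2)],[(6,1)],[(5,2)],[(4,1)]],
  [[(8,2)],[(9,2)],[(10,1)],[(11,1)],[(12,2)],[(13,2)],[(14,1)],[(15,1)],[(0,1)],[(1,1)],[(2,2)],[(3,2)],[(4,1)],[(5,1)],[(6,2)],[(7,2)]],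
  [[(9,2)],[(8,2)],[(11,1)],[(10,1)],[(13,2)],[(12,2)],[(15,1)],[(14,1)],[(1,1)],[(0,1)],[(3,2)],[(2,2)],[(5,1)],[(4,1)],[(7,2)],[(6,2)]],
  [[(8,2)],[(9,1)],[(10,1)],[(11,2)],[(12,2)],[(13,1)],[(14,1)],[(15,2)],[(0,1)],[(1,2)],[(2,2)],[(3,1)],[(4,1)],[(5,2)],[(6,2)],[(7,1)]],
  [[(9,1)],[(8,2)],[(11,2)],[(10,1)],[(13,1)],[(12,2)],[(15,2)],[(14,1)],[(1,2)],[(0,1)],[(3,1)],[(2,2)],[(5,2)],[(4,1)],[(7,1)],[(6,2)]],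
  [[(10,1)],[(11,1)],[(8,2)],[(9,2)],[(14,1)],[(15,1)],[(12,2)],[(13,2)],[(2,2)],[(3,2)],[(0,1)],[(1,1)],[(6,2)],[(7,2)],[(4,1)],[(5,1)]],
  [[(11,1)],[(10,1)],[(9,2)],[(8,2)],[(15,1)],[(14,1)],[(13,2)],[(12,2)],[(3,2)],[(2,2)],[(1,1)],[(0,1)],[(7,2)],[(6,2)],[(5,1)],[(4,1)]],
  [[(10,1)],[(11,2)],[(8,2)],[(9,1)],[(14,1)],[(15,2)],[(12,2)],[(13,1)],[(2,2)],[(3,1)],[(0,1)],[(1,2)],[(6,2)],[(7,1)],[(4,1)],[(5,2)]],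
  [[(11,2)],[(10,1)],[(9,1)],[(8,2)],[(15,2)],[(14,1)],[(13,1)],[(12,2)],[(3,1)],[(2,2)],[(1,2)],[(0,1)],[(7,1)],[(6,2)],[(5,2)],[(4,1)]],
  [[(12,2)],[(13,2)],[(14,2)],[(15,2)],[(8,2)],[(9,2)],[(10,2)],[(11,2)],[(4,1)],[(5,1)],[(6,1)],[(7,1)],[(0,1)],[(1,1)],[(2,1)],[(3,1)]],
  [[(13,2)],[(12,2)],[(15,2)],[(14,2)],[(9,2)],[(8,2)],[(11,2)],[(10,2)],[(5,1)],[(4,1)],[(7,1)],[(6,1)],[(1,1)],[(0,1)],[(3,1)],[(2,1)]],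
  [[(12,2)],[(13,1)],[(14,2)],[(15,1)],[(8,2)],[(9,1)],[(10,2)],[(11,1)],[(4,1)],[(5,2)],[(6,1)],[(7,2)],[(0,1)],[(1,2)],[(2,1)],[(3,2)]],
  [[(13,1)],[(12,2)],[(15,1)],[(14,2)],[(9,1)],[(8,2)],[(11,1)],[(10,2)],[(5,2)],[(4,1)],[(7,2)],[(6,1)],[(1,2)],[(0,1)],[(3,2)],[(2,1)]],
  [[(14,2)],[(15,2)],[(12,2)],[(13,2)],[(10,2)],[(11,2)],[(8,2)],[(9,2)],[(6,1)],[(7,1)],[(4,1)],[(5,1)],[(2,1)],[(3,1)],[(0,1)],[(1,1)]],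
  [[(15,2)],[(14,2)],[(13,2)],[(12,2)],[(11,2)],[(10,2)],[(9,2)],[(8,2)],[(7,1)],[(6,1)],[(5,1)],[(4,1)],[(3,1)],[(2,1)],[(1,1)],[(0,1)]],
  [[(14,2)],[(15,1)],[(12,2)],[(13,1)],[(10,2)],[(11,1)],[(8,2)],[(9,1)],[(6,1)],[(7,2)],[(4,1)],[(5,2)],[(2,1)],[(3,2)],[(0,1)],[(1,2)]],
  [[(15,1)],[(14,2)],[(13,1)],[(12,2)],[(11,1)],[(10,2)],[(9,1)],[(8,2)],[(7,2)],[(6,1)],[(5,2)],[(4,1)],[(3,2)],[(2,1)],[(1,2)],[(0,1)]],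
  [[(12,2)],[(13,2)],[(14,1)],[(15,1)],[(8,2)],[(9,2)],[(10,1)],[(11,1)],[(4,1)],[(5,1)],[(6,2)],[(7,2)],[(0,1)],[(1,1)],[(2,2)],[(3,2)]],
  [[(13,2)],[(12,2)],[(15,1)],[(14,1)],[(9,2)],[(8,2)],[(11,1)],[(10,1)],[(5,1)],[(4,1)],[(7,2)],[(6,2)],[(1,1)],[(0,1)],[(3,2)],[(2,2)]],
  [[(12,2)],[(13,1)],[(14,1)],[(15,2)],[(8,2)],[(9,1)],[(10,1)],[(11,2)],[(4,1)],[(5,2)],[(6,2)],[(7,1)],[(0,1)],[(1,2)],[(2,2)],[(3,1)]],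
  [[(13,1)],[(12,2)],[(15,2)],[(14,1)],[(9,1)],[(8,2)],[(11,2)],[(10,1)],[(5,2)],[(4,1)],[(7,1)],[(6,2)],[(1,2)],[(0,1)],[(3,1)],[(2,2)]],
  [[(14,1)],[(15,1)],[(12,2)],[(13,2)],[(10,1)],[(11,1)],[(8,2)],[(9,2)],[(6,2)],[(7,2)],[(4,1)],[(5,1)],[(2,2)],[(3,2)],[(0,1)],[(1,1)]],
  [[(15,1)],[(14,1)],[(13,2)],[(12,2)],[(11,1)],[(10,1)],[(9,2)],[(8,2)],[(7,2)],[(6,2)],[(5,1)],[(4,1)],[(3,2)],[(2,2)],[(1,1)],[(0,1)]],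
  [[(14,1)],[(15,2)],[(12,2)],[(13,1)],[(10,1)],[(11,2)],[(8,2)],[(9,1)],[(6,2)],[(7,1)],[(4,1)],[(5,2)],[(2,2)],[(3,1)],[(0,1)],[(1,2)]],
  [[(15,2)],[(14,1)],[(13,1)],[(12,2)],[(11,2)],[(10,1)],[(9,1)],[(8,2)],[(7,1)],[(6,2)],[(5,2)],[(4,1)],[(3,1)],[(2,2)],[(1,2)],[(0,1)]],
  [[(8,2)],[(9,2)],[(10,2)],[(11,2)],[(12,1)],[(13,1)],[(14,1)],[(15,1)],[(0,1)],[(1,1)],[(2,1)],[(3,1)],[(4,2)],[(5,2)],[(6,2)],[(7,2)]],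
  [[(9,2)],[(8,2)],[(11,2)],[(10,2)],[(13,1)],[(12,1)],[(15,1)],[(14,1)],[(1,1)],[(0,1)],[(3,1)],[(2,1)],[(5,2)],[(4,2)],[(7,2)],[(6,2)]],
  [[(8,2)],[(9,1)],[(10,2)],[(11,1)],[(12,1)],[(13,2)],[(14,1)],[(15,2)],[(0,1)],[(1,2)],[(2,1)],[(3,2)],[(4,2)],[(5,1)],[(6,2)],[(7,1)]],
  [[(9,1)],[(8,2)],[(11,1)],[(10,2)],[(13,2)],[(12,1)],[(15,2)],[(14,1)],[(1,2)],[(0,1)],[(3,2)],[(2,1)],[(5,1)],[(4,2)],[(7,1)],[(6,2)]],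
  [[(10,2)],[(11,2)],[(8,2)],[(9,2)],[(14,1)],[(15,1)],[(12,1)],[(13,1)],[(2,1)],[(3,1)],[(0,1)],[(1,1)],[(6,2)],[(7,2)],[(4,2)],[(5,2)]],
  [[(11,2)],[(10,2)],[(9,2)],[(8,2)],[(15,1)],[(14,1)],[(13,1)],[(12,1)],[(3,1)],[(2,1)],[(1,1)],[(0,1)],[(7,2)],[(6,2)],[(5,2)],[(4,2)]],
  [[(10,2)],[(11,1)],[(8,2)],[(9,1)],[(14,1)],[(15,2)],[(12,1)],[(13,2)],[(2,1)],[(3,2)],[(0,1)],[(1,2)],[(6,2)],[(7,1)],[(4,2)],[(5,1)]],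
  [[(11,1)],[(10,2)],[(9,1)],[(8,2)],[(15,2)],[(14,1)],[(13,2)],[(12,1)],[(3,2)],[(2,1)],[(1,2)],[(0,1)],[(7,1)],[(6,2)],[(5,1)],[(4,2)]],
  [[(8,2)],[(9,2)],[(10,1)],[(11,1)],[(12,1)],[(13,1)],[(14,2)],[(15,2)],[(0,1)],[(1,1)],[(2,2)],[(3,2)],[(4,2)],[(5,2)],[(6,1)],[(7,1)]],
  [[(9,2)],[(8,2)],[(11,1)],[(10,1)],[(13,1)],[(12,1)],[(15,2)],[(14,2)],[(1,1)],[(0,1)],[(3,2)],[(2,2)],[(5,2)],[(4,2)],[(7,1)],[(6,1)]],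
  [[(8,2)],[(9,1)],[(10,1)],[(11,2)],[(12,1)],[(13,2)],[(14,2)],[(15,1)],[(0,1)],[(1,2)],[(2,2)],[(3,1)],[(4,2)],[(5,1)],[(6,1)],[(7,2)]],
  [[(9,1)],[(8,2)],[(11,2)],[(10,1)],[(13,2)],[(12,1)],[(15,1)],[(14,2)],[(1,2)],[(0,1)],[(3,1)],[(2,2)],[(5,1)],[(4,2)],[(7,2)],[(6,1)]],
  [[(10,1)],[(11,1)],[(8,2)],[(9,2)],[(14,2)],[(15,2)],[(12,1)],[(13,1)],[(2,2)],[(3,2)],[(0,1)],[(1,1)],[(6,1)],[(7,1)],[(4,2)],[(5,2)]],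
  [[(11,1)],[(10,1)],[(9,2)],[(8,2)],[(15,2)],[(14,2)],[(13,1)],[(12,1)],[(3,2)],[(2,2)],[(1,1)],[(0,1)],[(7,1)],[(6,1)],[(5,2)],[(4,2)]],
  [[(10,1)],[(11,2)],[(8,2)],[(9,1)],[(14,2)],[(15,1)],[(12,1)],[(13,2)],[(2,2)],[(3,1)],[(0,1)],[(1,2)],[(6,1)],[(7,2)],[(4,2)],[(5,1)]],
  [[(11,2)],[(10,1)],[(9,1)],[(8,2)],[(15,1)],[(14,2)],[(13,2)],[(12,1)],[(3,1)],[(2,2)],[(1,2)],[(0,1)],[(7,2)],[(6,1)],[(5,1)],[(4,2)]],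
  [[(12,1)],[(13,1)],[(14,1)],[(15,1)],[(8,2)],[(9,2)],[(10,2)],[(11,2)],[(4,2)],[(5,2)],[(6,2)],[(7,2)],[(0,1)],[(1,1)],[(2,1)],[(3,1)]],
  [[(13,1)],[(12,1)],[(15,1)],[(14,1)],[(9,2)],[(8,2)],[(11,2)],[(10,2)],[(5,2)],[(4,2)],[(7,2)],[(6,2)],[(1,1)],[(0,1)],[(3,1)],[(2,1)]],
  [[(12,1)],[(13,2)],[(14,1)],[(15,2)],[(8,2)],[(9,1)],[(10,2)],[(11,1)],[(4,2)],[(5,1)],[(6,2)],[(7,1)],[(0,1)],[(1,2)],[(2,1)],[(3,2)]],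
  [[(13,2)],[(12,1)],[(15,2)],[(14,1)],[(9,1)],[(8,2)],[(11,1)],[(10,2)],[(5,1)],[(4,2)],[(7,1)],[(6,2)],[(1,2)],[(0,1)],[(3,2)],[(2,1)]],
  [[(14,1)],[(15,1)],[(12,1)],[(13,1)],[(10,2)],[(11,2)],[(8,2)],[(9,2)],[(6,2)],[(7,2)],[(4,2)],[(5,2)],[(2,1)],[(3,1)],[(0,1)],[(1,1)]],
  [[(15,1)],[(14,1)],[(13,1)],[(12,1)],[(11,2)],[(10,2)],[(9,2)],[(8,2)],[(7,2)],[(6,2)],[(5,2)],[(4,2)],[(3,1)],[(2,1)],[(1,1)],[(0,1)]],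
  [[(14,1)],[(15,2)],[(12,1)],[(13,2)],[(10,2)],[(11,1)],[(8,2)],[(9,1)],[(6,2)],[(7,1)],[(4,2)],[(5,1)],[(2,1)],[(3,2)],[(0,1)],[(1,2)]],
  [[(15,2)],[(14,1)],[(13,2)],[(12,1)],[(11,1)],[(10,2)],[(9,1)],[(8,2)],[(7,1)],[(6,2)],[(5,1)],[(4,2)],[(3,2)],[(2,1)],[(1,2)],[(0,1)]],
  [[(12,1)],[(13,1)],[(14,2)],[(15,2)],[(8,2)],[(9,2)],[(10,1)],[(11,1)],[(4,2)],[(5,2)],[(6,1)],[(7,1)],[(0,1)],[(1,1)],[(2,2)],[(3,2)]],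
  [[(13,1)],[(12,1)],[(15,2)],[(14,2)],[(9,2)],[(8,2)],[(11,1)],[(10,1)],[(5,2)],[(4,2)],[(7,1)],[(6,1)],[(1,1)],[(0,1)],[(3,2)],[(2,2)]],
  [[(12,1)],[(13,2)],[(14,2)],[(15,1)],[(8,2)],[(9,1)],[(10,1)],[(11,2)],[(4,2)],[(5,1)],[(6,1)],[(7,2)],[(0,1)],[(1,2)],[(2,2)],[(3,1)]],
  [[(13,2)],[(12,1)],[(15,1)],[(14,2)],[(9,1)],[(8,2)],[(11,2)],[(10,1)],[(5,1)],[(4,2)],[(7,2)],[(6,1)],[(1,2)],[(0,1)],[(3,1)],[(2,2)]],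
  [[(14,2)],[(15,2)],[(12,1)],[(13,1)],[(10,1)],[(11,1)],[(8,2)],[(9,2)],[(6,1)],[(7,1)],[(4,2)],[(5,2)],[(2,2)],[(3,2)],[(0,1)],[(1,1)]],
  [[(15,2)],[(14,2)],[(13,1)],[(12,1)],[(11,1)],[(10,1)],[(9,2)],[(8,2)],[(7,1)],[(6,1)],[(5,2)],[(4,2)],[(3,2)],[(2,2)],[(1,1)],[(0,1)]],
  [[(14,2)],[(15,1)],[(12,1)],[(13,2)],[(10,1)],[(11,2)],[(8,2)],[(9,1)],[(6,1)],[(7,2)],[(4,2)],[(5,1)],[(2,2)],[(3,1)],[(0,1)],[(1,2)]],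
  [[(15,1)],[(14,2)],[(13,2)],[(12,1)],[(11,2)],[(10,1)],[(9,1)],[(8,2)],[(7,2)],[(6,1)],[(5,1)],[(4,2)],[(3,1)],[(2,2)],[(1,2)],[(0,1)]]]

def plus4Cands (σ : ℕ) : List (ℕ × Op) := candsOf ar3 16 plus4Els σ

def plus4V : Vec := [1,0,1,1,0,0,0,2,0,0,0,0,0,0,0,0]
def plus4W : Vec := [2,2,1,0,1,1,2,0,0,2,2,0,1,0,1,0]
def plus4Levels : List Level := [
  ⟨plus4Gens.getD 7 [], 128, plus4Cands 1, [],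
    [(0, some [(0,1)]),(1, none)]⟩,
  ⟨plus4Gens.getD 4 [], 16, plus4Cands 1, [(0,false)],
    [(0, none),(1, none),(2, some [(1,2),(2,2),(4,2)])]⟩,
  ⟨plus4Gens.getD 6 [], 64, plus4Cands 1, [(0,true),(1,false)],
    [(0, none),(1, none),(2, some [(2,1),(4,1),(6,2)]),(3, none),(4, some [(1,1),(4,2),(6,1)])]⟩,
  ⟨plus4Gens.getD 5 [], 32, plus4Cands 1, [(0,false),(1,true),(2,false)],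
    [(0, none),(1, none),(2, some [(0,2),(1,2),(3,2),(4,1),(6,1),(9,2)]),(3, none),(4, some [(0,1),(3,1),(4,1),(5,2),(6,2),(7,2),(9,1)]),(5, none),(6, some [(0,2),(1,1),(2,1),(3,2),(4,2),(5,1),(6,1),(7,1),(8,1),(10,1)]),(7, some [(0,2),(2,2),(3,2),(4,1),(5,1),(6,1),(7,1),(9,1),(11,2)])]⟩,
  ⟨plus4Gens.getD 1 [], 2, plus4Cands 1, [(0,false),(1,false),(2,false),(3,false)],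
    [(0, some [(3,1),(8,1),(10,1)]),(1, none),(2, none),(3, some [(0,1),(8,2),(10,2)]),(4, none),(5, some [(0,2),(2,2),(3,2),(4,1),(5,1),(6,1),(7,2),(9,1)]),(6, none),(7, some [(0,1),(2,1),(3,1),(4,2),(6,2),(7,2),(9,2)]),(8, some [(0,1),(3,1),(10,1)]),(9, some [(2,2),(4,1),(6,1),(9,1),(13,1),(14,2),(15,2)]),(10, some [(0,2),(3,2),(8,1)]),(11, some [(0,2),(2,2),(3,2),(4,1),(5,2),(6,1),(7,2),(9,1),(11,2)])]⟩,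
  ⟨plus4Gens.getD 0 [], 1, plus4Cands 1, [(0,false),(1,false),(2,false),(3,false),(4,true)],
    [(0, some [(1,2),(3,1),(4,1),(6,1),(8,2),(12,2),(13,1),(14,2),(15,2)]),(1, some [(0,1),(1,1),(2,2),(4,2),(5,2),(6,1),(8,2),(9,1),(10,2),(12,1),(14,2)]),(2, some [(1,2),(2,1),(3,2),(4,1),(5,1),(6,2),(8,2),(9,2),(10,2),(12,1),(13,2),(14,1)]),(3, some [(0,1),(1,2),(4,1),(6,1),(10,1),(13,2),(14,2),(15,2)]),(4, some [(0,2),(1,1),(2,1),(5,1),(6,2),(8,1),(9,2),(10,1),(12,2),(14,1)]),(5, some [(1,2),(4,2),(7,1),(11,2),(12,1),(13,1),(14,2)]),(6, some [(0,2),(1,1),(2,1),(4,1),(5,1),(6,1),(8,1),(9,2),(10,1),(12,2),(14,1)]),(7, some [(0,2),(1,2),(2,2),(3,2),(5,2),(6,1),(7,1),(9,1),(11,2),(12,1),(13,2)]),(8, some [(0,1),(1,1),(2,1),(3,2),(10,1),(12,1),(13,2),(14,1),(15,1)]),(9,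 some [(2,1),(6,1),(8,2),(9,1),(10,1),(11,2),(14,2),(15,1)]),(10, some [(0,1),(1,1),(2,1),(3,2),(8,1),(13,2),(14,2),(15,2)]),(11, some [(0,2),(3,2),(4,2),(5,2),(6,1),(9,1),(11,2),(12,2),(13,2),(14,1)]),(12, some [(0,2),(1,2),(3,1),(4,1),(5,1),(7,2),(12,2),(14,2)]),(13, some [(0,2),(1,2),(2,1),(3,1),(4,2),(5,2),(7,1),(12,1),(14,1)]),(14, some [(0,1),(1,1),(3,2),(4,2),(5,2),(7,1),(12,2),(14,2)]),(15, some [(0,1),(1,1),(3,2),(4,2),(5,2),(7,1),(12,2),(14,1),(15,1)])]⟩,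
  ⟨plus4Gens.getD 2 [], 4, plus4Cands 1, [(0,false),(1,false),(2,false),(3,false),(4,false),(5,false)],
    [(0, some [(0,2),(1,2),(2,2),(3,2),(8,2),(10,2),(12,1),(13,1)]),(1, some [(0,2),(1,1),(2,1),(4,2),(5,1),(6,2),(8,2),(9,2),(10,2),(11,1),(12,1)]),(2, some [(3,1),(4,1),(5,2),(6,1),(8,2),(9,1),(10,2),(11,2),(13,1)]),(3, some [(0,2),(1,1),(2,1),(3,2),(8,1),(10,1),(12,2),(13,2)]),(4, some [(0,2),(3,1),(4,1),(5,1),(7,2),(8,1),(10,1),(11,1),(14,1)]),(5, some [(0,1),(3,1),(4,1),(5,1),(6,2),(7,1),(9,2),(13,1),(14,1)]),(6, some [(2,1),(3,2),(4,2),(7,1),(9,2),(10,2),(15,1)]),(7, some [(0,2),(3,2),(4,2),(6,1),(9,1),(13,2),(14,2)]),(8, some [(0,2),(1,1),(3,2),(4,2),(6,2),(8,2),(10,2),(12,2),(14,1),(15,1)]),(9, some [(0,1),(2,1),(3,1),(4,2),(5,1),(6,2),(8,1),(10,2),(11,1),(13,1),(14,2),(15,2)]),(10,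 some [(0,1),(1,2),(3,1),(4,1),(6,1),(8,2),(10,2),(12,1),(14,2),(15,2)]),(11, some [(0,1),(1,1),(2,1),(3,1),(5,1),(6,2),(7,1),(9,2),(12,2),(14,2)]),(12, some [(0,1),(1,1),(2,2),(4,1),(6,1),(7,1),(8,1),(9,1),(10,1),(11,2),(12,1)]),(13, some [(2,2),(3,2),(4,2),(6,2),(7,2),(8,1),(9,2),(10,1),(11,1),(13,1)]),(14, some [(0,1),(3,2),(4,1),(7,2),(8,2),(10,2),(11,2),(14,1)]),(15, some [(0,1),(2,2),(3,2),(4,1),(6,2),(7,2),(9,1),(10,1),(15,1)])]⟩,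
  ⟨plus4Gens.getD 3 [], 8, plus4Cands 1, [(0,false),(1,false),(2,false),(3,false),(4,false),(5,false),(6,true)],
    [(0, some [(0,2),(2,1),(4,1),(6,1),(8,2),(10,2),(13,1),(14,1),(15,1)]),(1, some [(0,2),(2,2),(3,2),(4,2),(5,1),(6,1),(7,1),(8,2),(9,1),(10,2),(12,2),(14,1)]),(2, some [(0,1),(1,2),(3,1),(4,1),(5,2),(6,2),(7,2),(8,2),(9,2),(10,2),(12,2),(13,1),(14,2)]),(3, some [(1,1),(2,2),(3,2),(4,1),(6,1),(8,1),(10,1),(12,1),(13,2),(14,1),(15,1)]),(4, some [(0,1),(1,1),(2,1),(3,1),(4,2),(5,2),(6,2),(7,2),(8,1),(9,2),(10,1),(12,1),(14,2)]),(5, some [(0,1),(1,2),(2,2),(3,1),(4,2),(5,1),(6,2),(7,2),(9,2),(12,2),(13,1)]),(6, some [(0,1),(1,1),(2,1),(3,1),(4,1),(5,2),(7,2),(8,1),(9,2),(10,1),(12,1),(14,2)]),(7, some [(0,2),(1,2),(2,1),(3,2),(4,2),(5,1),(6,1),(9,1),(12,2),(13,2),(14,1)]),(8,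 some [(2,1),(4,1),(6,1),(8,1),(10,2),(13,1),(14,1),(15,1)]),(9, some [(0,1),(3,1),(4,1),(5,2),(6,2),(7,2),(9,1),(14,1),(15,2)]),(10, some [(1,2),(2,1),(4,2),(6,2),(8,2),(10,1),(12,2),(13,1),(14,2),(15,2)]),(11, some [(0,1),(1,2),(2,2),(3,1),(4,2),(5,2),(6,2),(7,2),(9,2),(11,2),(12,2),(13,1)]),(12, some [(0,2),(1,2),(2,2),(3,2),(4,2),(5,1),(6,1),(7,1),(8,2),(9,1),(10,2),(14,1)]),(13, some [(0,1),(1,2),(2,2),(3,1),(4,1),(5,2),(6,2),(7,2),(8,2),(9,2),(10,2),(12,2),(13,2),(14,2)]),(14, some [(0,1),(1,1),(2,1),(3,1),(4,1),(5,2),(6,2),(7,2),(8,1),(9,2),(10,1),(12,1)]),(15, some [(0,1),(1,1),(2,1),(3,1),(4,1),(5,2),(6,2),(7,2),(8,1),(9,2),(10,1),(12,1),(14,2),(15,1)])]⟩]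

def plus4Ex : List (List (ℕ × ℕ)) := [[(2,2),(4,2),(6,2),(8,1),(10,1),(13,2),(14,2),(15,2)],
  [(2,1),(4,1),(6,1),(13,2),(14,2),(15,2)],
  [(0,2),(2,1),(3,2),(4,1),(6,1),(8,1),(10,1),(13,1),(14,1),(15,1)],
  [(3,1),(10,1)],
  [(1,2),(2,1),(4,2),(6,2),(8,2),(10,2),(12,2),(13,1),(14,2),(15,2)],
  [(1,1),(2,2),(4,1),(6,1),(12,2),(13,1),(14,2),(15,2)],
  [(0,2),(1,1),(2,2),(3,2),(4,1),(6,1),(8,2),(10,2),(12,1),(13,2),(14,1),(15,1)],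
  [(0,1),(8,2)],
  [(0,2),(1,1),(2,1),(3,2),(4,1),(5,1),(6,1),(7,1),(9,1),(12,1),(13,2)],
  [(1,2),(2,1),(12,1),(13,2)],
  [(0,2),(1,2),(3,2),(4,1),(6,1),(9,1),(12,2),(13,1)],
  [(0,2),(2,2),(3,2),(4,1),(5,1),(6,1),(7,2),(9,1),(11,2)],
  [(0,1),(1,1),(2,2),(3,1),(4,1),(5,2),(6,2),(7,2),(9,2),(12,1),(13,1),(14,2)],
  [(1,2),(2,2),(4,1),(12,1),(13,1),(14,2)],
  [(0,1),(1,2),(3,1),(5,1),(6,2),(7,1),(9,2),(12,2),(13,2),(14,1)],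
  [(5,1),(11,2)]]

def plus4Allowed : List (List Vec) := [units 16]

theorem plus4_ok : certOK ar3 16 4 plus4V plus4W plus4Levels plus4Ex = true := by decide +kernel

theorem plus4_cert : cert ar3 16 4 plus4V plus4W plus4Levels plus4Ex plus4Allowed = true := by decide +kernel

end Check

end CfsgLib.Perm.CoprimeBase
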