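import Mathlib

/-!
# A checker for stabilizers of two vectors in the normalizer of a small symplectic type group

A linear map fixing two vectors sends each generator to one of finitely many candidates. The images of
a basis follow; certificates list which images are new and which are forced by linearity.
-/

namespace CfsgLib.Perm.CoprimeBase

namespace Check

/-- Arithmetic on codes of scalars. -/
structure Ar where
  q : ℕ
  add : ℕ → ℕ → ℕ
  mul : ℕ → ℕ → ℕ
  neg : ℕ → ℕ

abbrev Vec := List ℕ
/-- A sparse operator: for each coordinate of the image its contributing coordinates. -/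
abbrev Op := List (List (ℕ × ℕ))

def app (A : Ar) (o : Op) (v : Vec) : Vec :=
  o.map fun row => row.foldr (fun e r => A.add (A.mul e.2 (v.getD e.1 0)) r) 0

def vscale (A : Ar) (c : ℕ) (v : Vec) : Vec := v.map (A.mul c)

def vadd (A : Ar) (u v : Vec) : Vec := List.zipWith A.add u v

def lin (A : Ar) (D : ℕ) (co : List (ℕ × ℕ)) (T : List Vec) : Vec :=
  co.foldr (fun e r => vadd A (vscale A e.2 (T.getD e.1 [])) r) (List.replicate D 0)

def unitVec (D j : ℕ) : Vec := (List.range D).map fun i => if i = j then 1 else 0

def units (D : ℕ) : List Vec := (List.range D).map (unitVec D)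

/-- One level of the search: a generator, its candidate images, sign conditions with the earlier
generators and the new or forced images. -/
structure Level where
  gen : Op
  tag : ℕ
  cands : List (ℕ × Op)
  comms : List (ℕ × Bool)
  steps : List (ℕ × Option (List (ℕ × ℕ)))

def doSteps (A : Ar) (D : ℕ) (o : Op) : List Vec → List (ℕ × Option (List (ℕ × ℕ))) → Option (List Vec)
  | T, [] => some T
  | T, (j, none) :: rest => doSteps A D o (T ++ [app A o (T.getD j [])]) rest
  | T, (j, some co) :: rest =>
    if lin A D co T == app A o (T.getD j []) then doSteps A D o T rest else none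

/-- The commutator of two products of generators, given by their codes: generators `2 * i` and
`2 * i + 1` anticommute, all other pairs commute. -/
def symp (N m m' : ℕ) : Bool :=
  (List.range N).foldr (fun i r =>
    xor r (xor (m.testBit (2 * i) && m'.testBit (2 * i + 1)) (m'.testBit (2 * i) && m.testBit (2 * i + 1)))) false

def commsOK (N t : ℕ) (used : List ℕ) (cs : List (ℕ × Bool)) : Bool :=
  cs.all fun e => symp N t (used.getD e.1 0) == e.2

def advance (A : Ar) (D N : ℕ) (ℓ : Level) (o : ℕ × Op) (st : List Vec × List ℕ) :
    Option (List Vec × List ℕ) :=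
  if commsOK N o.1 st.2 ℓ.comms then
    match doSteps A D o.2 st.1 ℓ.steps with
    | some T => some (T, st.2 ++ [o.1])
    | none => none
  else none

/-- The source side. -/
def run (A : Ar) (D N : ℕ) : List Level → List Vec × List ℕ → Option (List Vec)
  | [], st => some st.1
  | ℓ :: rest, st =>
    match advance A D N ℓ (ℓ.tag, ℓ.gen) st with
    | some st' => run A D N rest st'
    | none => none

/-- Every leaf lies in the allowed list. -/
def search (A : Ar) (D N : ℕ) (ex : List (List (ℕ × ℕ))) (allowed : List (List Vec)) :
    List Level → List Vec × List ℕ → Bool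
  | [], st => allowed.contains (ex.map fun co => lin A D co st.1)
  | ℓ :: rest, st => ℓ.cands.all fun o =>
    match advance A D N ℓ o st with
    | some st' => search A D N ex allowed rest st'
    | none => true

/-- A certificate for two vectors. -/
def cert (A : Ar) (D N : ℕ) (v w : Vec) (levels : List Level) (ex : List (List (ℕ × ℕ)))
    (allowed : List (List Vec)) : Bool :=
  (match run A D N levels ([v, w], []) with
    | some T => ex.map (fun co => lin A D co T) == units D
    | none => false) && search A D N ex allowed levels ([v, w], [])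

/-- Matrices, given by columns. -/
def coeffs (v : Vec) : List (ℕ × ℕ) :=
  ((List.range v.length).map fun j => (j, v.getD j 0)).filter fun e => e.2 != 0

def mm (A : Ar) (D : ℕ) (M N : List Vec) : List Vec := N.map fun col => lin A D (coeffs col) M

def okMat (A : Ar) (D : ℕ) (M : List Vec) : Bool :=
  M.length == D && M.all fun col =>
    col.length == D && col.all (fun c => decide (c < A.q)) && lin A D (coeffs col) (units D) == col

def pow (A : Ar) (D : ℕ) (M : List Vec) : ℕ → List Vec
  | 0 => units D
  | k + 1 => mm A D M (pow A D M k)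

/-- Walk through the powers of `M` up to the first one which is the identity. -/
def ordScan (A : Ar) (D : ℕ) (M : List Vec) : ℕ → ℕ → List Vec → Option ℕ
  | 0, _, _ => none
  | f + 1, k, P => if P == units D then some k
      else if okMat A D P then ordScan A D M f (k + 1) (mm A D M P) else none

/-- The order of the matrix is divisible by three. -/
def hasThree (A : Ar) (D : ℕ) (M : List Vec) : Bool :=
  okMat A D M &&
    match ordScan A D M 120 1 M with
    | some m => m % 3 == 0 && pow A D M (m / 3) != units D &&
        (List.range (m / 3)).all (fun k => okMat A D (pow A D M k))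
    | none => false

/-- Whenever one element is picked from each list, one of them or a product of two has order
divisible by three. -/
def family (A : Ar) (D : ℕ) : List (List (List Vec)) → List (List Vec) → Bool
  | [], _ => false
  | L :: rest, sel => L.all fun a =>
      okMat A D a && (hasThree A D a || sel.any (fun b => hasThree A D (mm A D a b)) ||
        family A D rest (a :: sel))

section Sound

variable (A : Ar) (D : ℕ) {Γ : Type*} (Rel : Γ → Vec → Vec → Prop)

/-- What is needed from the relation `g x = y`. -/
structure IsRel : Prop where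
  unique : ∀ g x y y', Rel g x y → Rel g x y' → y = y'
  zero : ∀ g, Rel g (List.replicate D 0) (List.replicate D 0)
  add : ∀ g x y x' y', Rel g x y → Rel g x' y' → Rel g (vadd A x x') (vadd A y y')
  smul : ∀ g c x y, c < A.q → Rel g x y → Rel g (vscale A c x) (vscale A c y)

/-- The operator `o` is carried to `o'`. -/
def Carries (g : Γ) (o o' : Op) : Prop := ∀ x y, Rel g x y → Rel g (app A o x) (app A o' y)

variable {A D Rel}

theorem lin_rel (h : IsRel A D Rel) {g : Γ} {S T : List Vec} (hlen : S.length = T.length)
    (hST : ∀ j, j < S.length → Rel g (S.getD j []) (T.getD j []))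
    {co : List (ℕ × ℕ)} (hco : ∀ e ∈ co, e.2 < A.q ∧ e.1 < S.length) :
    Rel g (lin A D co S) (lin A D co T) := by
  induction co with
  | nil => exact h.zero g
  | cons e co ih =>
    exact h.add g _ _ _ _ (h.smul g _ _ _ (hco e List.mem_cons_self).1
      (hST _ (hco e List.mem_cons_self).2)) (ih fun e' he' => hco e' (List.mem_cons_of_mem _ he'))

/-- Indices refer to vectors already present. -/
def stepsOK (A : Ar) : ℕ → List (ℕ × Option (List (ℕ × ℕ))) → Bool
  | _, [] => true
  | m, (j, none) :: rest => decide (j < m) && stepsOK A (m + 1) rest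
  | m, (j, some co) :: rest =>
    decide (j < m) && co.all (fun e => decide (e.1 < m) && decide (e.2 < A.q)) && stepsOK A m rest

def growth : List (ℕ × Option (List (ℕ × ℕ))) → ℕ
  | [] => 0
  | (_, none) :: rest => growth rest + 1
  | (_, some _) :: rest => growth rest

def shapeOK (A : Ar) : ℕ → ℕ → List Level → Bool
  | _, _, [] => true
  | m, k, ℓ :: rest =>
    decide (0 < m) && ℓ.comms.all (fun e => decide (e.1 < k)) &&
      stepsOK A m ℓ.steps && shapeOK A (m + growth ℓ.steps) (k + 1) rest

theorem doSteps_rel (h : IsRel A D Rel) {g : Γ} {o o' : Op} (hc : Carries A Rel g o o') :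
    ∀ steps (S T S' : List Vec), S.length = T.length →
      (∀ j, j < S.length → Rel g (S.getD j []) (T.getD j [])) →
      stepsOK A S.length steps = true → doSteps A D o S steps = some S' →
      ∃ T', doSteps A D o' T steps = some T' ∧ S'.length = T'.length ∧
        S'.length = S.length + growth steps ∧
        ∀ j, j < S'.length → Rel g (S'.getD j []) (T'.getD j []) := by
  intro steps
  induction steps with
  | nil =>
    intro S T S' hlen hST _ hS
    obtain rfl : S = S' := Option.some.inj hS
    exact ⟨T, rfl, hlen, rfl, hST⟩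
  | cons s rest ih =>
    intro S T S' hlen hST hok hS
    obtain ⟨j, _ | co⟩ := s
    · simp only [stepsOK, Bool.and_eq_true, decide_eq_true_eq] at hok
      simp only [doSteps] at hS ⊢
      have happ : ∀ i, i < (S ++ [app A o (S.getD j [])]).length → Rel g
          ((S ++ [app A o (S.getD j [])]).getD i [])
          ((T ++ [app A o' (T.getD j [])]).getD i []) := by
        intro i hi
        simp only [List.length_append, List.length_singleton] at hi
        rcases Nat.lt_or_ge i S.length with hlt | hge
        · rw [List.getD_append _ _ _ _ hlt, List.getD_append _ _ _ _ (hlen ▸ hlt)]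
          exact hST i hlt
        · have : i = S.length := by omega
          subst this
          rw [List.getD_append_right _ _ _ _ le_rfl, List.getD_append_right _ _ _ _ hlen.ge, hlen,
            Nat.sub_self]
          exact hc _ _ (hST j hok.1)
      obtain ⟨T', hT', h1, h2, h3⟩ := ih (S ++ [app A o (S.getD j [])])
        (T ++ [app A o' (T.getD j [])]) S' (by simp [hlen]) happ (by simpa using hok.2) hS
      rw [List.length_append, List.length_singleton] at h2
      exact ⟨T', hT', h1, by simp only [growth]; omega, h3⟩
    · simp only [stepsOK, Bool.and_eq_true, decide_eq_true_eq, List.all_eq_true] at hok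
      obtain ⟨⟨hj, hco⟩, hrest⟩ := hok
      simp only [doSteps] at hS ⊢
      split_ifs at hS with he
      have he' : lin A D co T = app A o' (T.getD j []) :=
        h.unique g _ _ _ (lin_rel h hlen hST fun e he => ⟨(hco e he).2, (hco e he).1⟩)
          ((eq_of_beq he) ▸ hc _ _ (hST j hj))
      obtain ⟨T', hT', h1, h2, h3⟩ := ih S T S' hlen hST hrest hS
      exact ⟨T', by rw [if_pos (beq_iff_eq.2 he')]; exact hT', h1, by simp only [growth]; omega, h3⟩

theorem search_sound (h : IsRel A D Rel) {g : Γ} {ex : List (List (ℕ × ℕ))}
    {allowed : List (List Vec)} {N : ℕ} (τ : ℕ → ℕ) (tags : List ℕ)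
    (hτ : ∀ a ∈ tags, ∀ b ∈ tags, symp N (τ a) (τ b) = symp N a b) :
    ∀ levels (S T : List Vec) (P Q : List ℕ) (S' : List Vec), S.length = T.length →
      (∀ j, j < S.length → Rel g (S.getD j []) (T.getD j [])) → P.length = Q.length →
      (∀ j, j < P.length → P.getD j 0 ∈ tags ∧ Q.getD j 0 = τ (P.getD j 0)) →
      (∀ ℓ ∈ levels, ℓ.tag ∈ tags ∧ ∃ o ∈ ℓ.cands, o.1 = τ ℓ.tag ∧ Carries A Rel g ℓ.gen o.2) →
      shapeOK A S.length P.length levels = true → run A D N levels (S, P) = some S' →
      search A D N ex allowed levels (T, Q) = true →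
      ∃ T', S'.length = T'.length ∧ (∀ j, j < S'.length → Rel g (S'.getD j []) (T'.getD j [])) ∧
        (ex.map fun co => lin A D co T') ∈ allowed := by
  intro levels
  induction levels with
  | nil =>
    intro S T P Q S' hlen hST _ _ _ _ hrun hs
    obtain rfl : S = S' := Option.some.inj hrun
    exact ⟨T, hlen, hST, List.contains_iff_mem.1 hs⟩
  | cons ℓ rest ih =>
    intro S T P Q S' hlen hST hlenP hPQ hgen hok hrun hs
    simp only [shapeOK, Bool.and_eq_true, decide_eq_true_eq, List.all_eq_true] at hok
    obtain ⟨⟨⟨hpos, hcomm⟩, hsteps⟩, hrest⟩ := hok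
    obtain ⟨htag, o, ho, hoτ, hc⟩ := hgen ℓ List.mem_cons_self
    simp only [search, List.all_eq_true] at hs
    simp only [run, advance] at hrun
    by_cases hC : commsOK N ℓ.tag P ℓ.comms = true
    swap
    · rw [if_neg hC] at hrun
      simp at hrun
    rw [if_pos hC] at hrun
    cases hd : doSteps A D ℓ.gen S ℓ.steps with
    | none => rw [hd] at hrun; simp at hrun
    | some S1 =>
      rw [hd] at hrun
      obtain ⟨T1, hT1, h1, h2, h3⟩ := doSteps_rel h hc ℓ.steps S T S1 hlen hST hsteps hd
      have hC' : commsOK N o.1 Q ℓ.comms = true := by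
        simp only [commsOK, List.all_eq_true, beq_iff_eq] at hC ⊢
        intro e he
        obtain ⟨hP1, hP2⟩ := hPQ e.1 (hcomm e he)
        rw [hP2, hoτ, hτ _ htag _ hP1]
        exact hC e he
      have hstep := hs o ho
      simp only [advance, if_pos hC', hT1] at hstep
      refine ih S1 T1 (P ++ [ℓ.tag]) (Q ++ [o.1]) S' h1 h3 (by simp [hlenP]) (fun j hj => ?_)
        (fun ℓ' hℓ' => hgen ℓ' (List.mem_cons_of_mem _ hℓ')) (by simpa [h2] using hrest) hrun hstep
      simp only [List.length_append, List.length_singleton] at hj
      rcases Nat.lt_or_ge j P.length with hlt | hge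
      · rw [List.getD_append _ _ _ _ hlt, List.getD_append _ _ _ _ (hlenP ▸ hlt)]
        exact hPQ j hlt
      · have : j = P.length := by omega
        subst this
        rw [List.getD_append_right _ _ _ _ le_rfl, List.getD_append_right _ _ _ _ hlenP.ge, hlenP,
          Nat.sub_self]
        exact ⟨htag, hoτ⟩

/-- The full shape condition of a certificate. -/
def certOK (A : Ar) (D N : ℕ) (v w : Vec) (levels : List Level) (ex : List (List (ℕ × ℕ))) : Bool :=
  shapeOK A 2 0 levels &&
    match run A D N levels ([v, w], []) with
    | some T => ex.all fun co => co.all fun e => decide (e.1 < T.length) && decide (e.2 < A.q)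
    | none => false

/-- The columns of the matrix of `g` are among the allowed ones. -/
theorem cert_sound (h : IsRel A D Rel) {g : Γ} {v w : Vec} {levels : List Level}
    {ex : List (List (ℕ × ℕ))} {allowed : List (List Vec)} {N : ℕ} (τ : ℕ → ℕ) (tags : List ℕ)
    (hτ : ∀ a ∈ tags, ∀ b ∈ tags, symp N (τ a) (τ b) = symp N a b)
    (hok : certOK A D N v w levels ex = true) (hcert : cert A D N v w levels ex allowed = true)
    (hv : Rel g v v) (hw : Rel g w w)
    (hgen : ∀ ℓ ∈ levels, ℓ.tag ∈ tags ∧ ∃ o ∈ ℓ.cands, o.1 = τ ℓ.tag ∧ Carries A Rel g ℓ.gen o.2) :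
    ∃ M ∈ allowed, M.length = D ∧ ∀ j, j < D → Rel g (unitVec D j) (M.getD j []) := by
  simp only [certOK, Bool.and_eq_true] at hok
  simp only [cert, Bool.and_eq_true] at hcert
  obtain ⟨hshape, hex⟩ := hok
  obtain ⟨hsrc, hs⟩ := hcert
  cases hrun : run A D N levels ([v, w], []) with
  | none => rw [hrun] at hsrc; simp at hsrc
  | some S =>
    rw [hrun] at hsrc hex
    simp only [List.all_eq_true, Bool.and_eq_true, decide_eq_true_eq] at hex
    obtain ⟨T, hlen, hST, hmem⟩ := search_sound h τ tags hτ levels [v, w] [v, w] [] [] S rfl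
      (fun j hj => by
        simp only [List.length_cons, List.length_nil] at hj
        interval_cases j
        · exact hv
        · exact hw)
      rfl (fun j hj => absurd hj (Nat.not_lt_zero j)) hgen (by simpa using hshape) hrun hs
    have hsrc' : ex.map (fun co => lin A D co S) = units D := eq_of_beq hsrc
    have hl : ex.length = D := by simpa [units] using congrArg List.length hsrc'
    refine ⟨_, hmem, by simpa using hl, fun j hj => ?_⟩
    have hj' : j < ex.length := hl.symm ▸ hj
    have e := congrArg (fun L => L.getD j []) hsrc'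
    simp [List.getD_eq_getElem?_getD, units, hj, hj'] at e
    rw [← e]
    simp only [List.getD_eq_getElem?_getD, List.getElem?_map, List.getElem?_eq_getElem hj',
      Option.map_some, Option.getD_some]
    exact lin_rel h hlen hST fun e' he' =>
      ⟨(hex _ (List.getElem_mem hj') e' he').2, (hex _ (List.getElem_mem hj') e' he').1⟩

/-- `M` is the matrix of `g`, by columns. -/
def IsMat (D : ℕ) (Rel : Γ → Vec → Vec → Prop) (g : Γ) (M : List Vec) : Prop :=
  M.length = D ∧ ∀ j, j < D → Rel g (unitVec D j) (M.getD j [])

theorem units_getD {D j : ℕ} (hj : j < D) : (units D).getD j [] = unitVec D j := by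
  simp [units, List.getD_eq_getElem?_getD, hj]

variable [Monoid Γ]

theorem isMat_mm (h : IsRel A D Rel)
    (hmul : ∀ g k x y z, Rel k x y → Rel g y z → Rel (g * k) x z)
    {g k : Γ} {M N : List Vec} (hM : IsMat D Rel g M) (hN : IsMat D Rel k N)
    (hok : okMat A D N = true) : IsMat D Rel (g * k) (mm A D M N) := by
  simp only [okMat, Bool.and_eq_true, beq_iff_eq, List.all_eq_true, decide_eq_true_eq] at hok
  refine ⟨by rw [mm, List.length_map]; exact hN.1, fun j hj => ?_⟩
  have hj' : j < N.length := hN.1.symm ▸ hj
  have hk := hN.2 j hj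
  rw [List.getD_eq_getElem _ _ hj'] at hk
  obtain ⟨⟨hlen, hlt⟩, he⟩ := hok.2 _ (List.getElem_mem hj')
  have e : (mm A D M N).getD j [] = lin A D (coeffs N[j]) M := by
    simp [mm, List.getD_eq_getElem?_getD, hj']
  rw [e]
  refine hmul _ _ _ _ _ hk ?_
  have hl := lin_rel (A := A) h (g := g) (S := units D) (T := M) (by simp [units, hM.1])
    (fun i hi => by
      have hi' : i < D := by simpa [units] using hi
      rw [units_getD hi']
      exact hM.2 i hi') (co := coeffs N[j]) (fun e he => by
      simp only [coeffs, List.mem_filter, List.mem_map, List.mem_range] at he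
      obtain ⟨⟨i, hi, rfl⟩, -⟩ := he
      refine ⟨?_, by simp [units]; omega⟩
      show N[j].getD i 0 < A.q
      rw [List.getD_eq_getElem _ _ hi]
      exact hlt _ (List.getElem_mem hi))
  rwa [he] at hl

theorem isMat_unique (h : IsRel A D Rel) {g : Γ} {M N : List Vec} (hM : IsMat D Rel g M)
    (hN : IsMat D Rel g N) : M = N := by
  refine List.ext_getElem (hM.1.trans hN.1.symm) fun j h1 h2 => ?_
  have e := h.unique g _ _ _ (hM.2 j (hM.1 ▸ h1)) (hN.2 j (hM.1 ▸ h1))
  rwa [List.getD_eq_getElem _ _ h1, List.getD_eq_getElem _ _ h2] at e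

theorem hasThree_sound (h : IsRel A D Rel)
    (hone : ∀ j, j < D → Rel 1 (unitVec D j) (unitVec D j))
    (hmul : ∀ g k x y z, Rel k x y → Rel g y z → Rel (g * k) x z)
    (hker : ∀ g, (∀ j, j < D → Rel g (unitVec D j) (unitVec D j)) → g = 1)
    (hcop : ∀ g : Γ, ∃ o, ¬ 3 ∣ o ∧ g ^ o = 1)
    {g : Γ} {M : List Vec} (hM : IsMat D Rel g M) (h3 : hasThree A D M = true) : False := by
  simp only [hasThree, Bool.and_eq_true] at h3
  obtain ⟨hokM, h3⟩ := h3
  have hunits : IsMat D Rel 1 (units D) :=
    ⟨by simp [units], fun j hj => by rw [units_getD hj]; exact hone j hj⟩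
  have hscan : ∀ f k P, IsMat D Rel (g ^ k) P → ∀ m, ordScan A D M f k P = some m → g ^ m = 1 := by
    intro f
    induction f with
    | zero => intro k P _ m hm; simp [ordScan] at hm
    | succ f ih =>
      intro k P hP m hm
      simp only [ordScan] at hm
      split_ifs at hm with h1 h2
      · obtain rfl : k = m := Option.some.inj hm
        rw [eq_of_beq h1] at hP
        exact hker _ fun j hj => by
          have := hP.2 j hj
          rwa [units_getD hj] at this
      · refine ih (k + 1) _ ?_ m hm
        rw [pow_succ']
        exact isMat_mm h hmul hM hP h2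
  cases hm : ordScan A D M 120 1 M with
  | none => rw [hm] at h3; simp at h3
  | some m =>
    rw [hm] at h3
    simp only [Bool.and_eq_true, beq_iff_eq, bne_iff_ne, List.all_eq_true, List.mem_range] at h3
    obtain ⟨⟨h30, hne⟩, hoks⟩ := h3
    have hgm : g ^ m = 1 := hscan 120 1 M (by rw [pow_one]; exact hM) m hm
    have hpow : ∀ k, k ≤ m / 3 → IsMat D Rel (g ^ k) (pow A D M k) := by
      intro k
      induction k with
      | zero => intro _; rw [pow_zero]; exact hunits
      | succ k ih =>
        intro hk
        rw [pow_succ']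
        exact isMat_mm h hmul hM (ih (by omega)) (hoks k (by omega))
    obtain ⟨o, ho, hgo⟩ := hcop g
    have hd : Nat.gcd m o ∣ m / 3 := by
      have h1 : Nat.gcd m o ∣ 3 * (m / 3) := by
        rw [Nat.mul_div_cancel' (Nat.dvd_of_mod_eq_zero h30)]; exact Nat.gcd_dvd_left _ _
      have h2 : Nat.Coprime (Nat.gcd m o) 3 := by
        rw [Nat.coprime_comm, Nat.prime_three.coprime_iff_not_dvd]
        exact fun h => ho (h.trans (Nat.gcd_dvd_right _ _))
      exact h2.dvd_of_dvd_mul_left h1
    obtain ⟨t, ht⟩ := hd
    have hg : g ^ (m / 3) = 1 := by rw [ht, pow_mul, pow_gcd_eq_one.2 ⟨hgm, hgo⟩, one_pow]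
    exact hne (isMat_unique h (hg ▸ hpow _ le_rfl) hunits)

/-- A family of certificates with no common choice of elements. -/
theorem family_sound (h : IsRel A D Rel)
    (hone : ∀ j, j < D → Rel 1 (unitVec D j) (unitVec D j))
    (hmul : ∀ g k x y z, Rel k x y → Rel g y z → Rel (g * k) x z)
    (hker : ∀ g, (∀ j, j < D → Rel g (unitVec D j) (unitVec D j)) → g = 1)
    (hcop : ∀ g : Γ, ∃ o, ¬ 3 ∣ o ∧ g ^ o = 1) :
    ∀ (Ls : List (List (List Vec))) (sel : List (List Vec)),
      (∀ L ∈ Ls, ∃ M ∈ L, ∃ g, IsMat D Rel g M) →
      (∀ M ∈ sel, okMat A D M = true ∧ ∃ g, IsMat D Rel g M) →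
      family A D Ls sel = true → False := by
  intro Ls
  induction Ls with
  | nil => intro sel _ _ hf; simp [family] at hf
  | cons L rest ih =>
    intro sel hL hsel hf
    obtain ⟨a, ha, g, hg⟩ := hL L List.mem_cons_self
    simp only [family, List.all_eq_true, Bool.and_eq_true, Bool.or_eq_true, List.any_eq_true] at hf
    obtain ⟨hoka, hf⟩ := hf a ha
    rcases hf with (hf | ⟨b, hb, hf⟩) | hf
    · exact hasThree_sound h hone hmul hker hcop hg hf
    · obtain ⟨hokb, k, hk⟩ := hsel b hb
      exact hasThree_sound h hone hmul hker hcop (isMat_mm h hmul hg hk hokb) hf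
    · refine ih (a :: sel) (fun L' hL' => hL L' (List.mem_cons_of_mem _ hL')) (fun M hM => ?_) hf
      rcases List.mem_cons.1 hM with rfl | hM
      · exact ⟨hoka, g, hg⟩
      · exact hsel M hM

end Sound

end Check

end CfsgLib.Perm.CoprimeBase
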