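import Cfsg.Agent.Lib.Perm.CoprimeBase.Check

/-!
# Arithmetics and candidate operators for the checker
-/

namespace CfsgLib.Perm.CoprimeBase

namespace Check

/-- Integers modulo three. -/
def ar3 : Ar := ⟨3, fun a b => (a + b) % 3, fun a b => a * b % 3, fun a => (3 - a) % 3⟩

/-- Integers modulo five. -/
def ar5 : Ar := ⟨5, fun a b => (a + b) % 5, fun a b => a * b % 5, fun a => (5 - a) % 5⟩

/-- The field of nine elements, `a + 3 * b` standing for `a + b i`. -/
def ar9 : Ar := ⟨9, fun a b => (a % 3 + b % 3) % 3 + 3 * ((a / 3 + b / 3) % 3),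
  fun a b => (a % 3 * (b % 3) + 2 * (a / 3 * (b / 3))) % 3 +
    3 * ((a % 3 * (b / 3) + a / 3 * (b % 3)) % 3),
  fun a => (3 - a % 3) % 3 + 3 * ((3 - a / 3) % 3)⟩

/-- Nonzero multiples of the operators squaring to `σ`, with their codes. -/
def candsOf (A : Ar) (D : ℕ) (els : List Op) (σ : ℕ) : List (ℕ × Op) :=
  ((List.range els.length).flatMap fun m => ((List.range A.q).filter (fun u => u != 0)).map fun u =>
      (m, (els.getD m []).map fun row => row.map fun e => (e.1, A.mul u e.2))).filter fun o =>
    app A o.2 (app A o.2 (unitVec D 0)) == vscale A σ (unitVec D 0)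

end Check

end CfsgLib.Perm.CoprimeBase
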