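import Cfsg.Agent.Lib.Perm.CoprimeBase.Generic

/-!
# Coordinates for index sets of exponent two

Commuting involutive multiples of representatives, dual to involutions of the line stabilizer.
-/

namespace CfsgLib.Perm.CoprimeBase

universe u

open CfsgLib.Perm.OddBase
open scoped commutatorElement

namespace Frame

attribute [local instance] Frame.hUn Frame.hMn

variable {G V : Type u} [Group G] [AddCommGroup V] [DistribMulAction G V] (fr : Frame G V)

theorem ψ_mul {a b : G} (ha : a ∈ fr.U) (hb : b ∈ fr.U) : fr.ψ (a * b) = fr.ψ a * fr.ψ b := by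
  refine fr.scal fr.hv ?_
  rw [← fr.hψ _ (fr.U.mul_mem ha hb), mul_smul, fr.hψ b hb, fr.hMlin a (fr.hUM ha), fr.hψ a ha,
    smul_smul, mul_comm]

theorem β_U_left {u b : G} (hu : u ∈ fr.U) (hb : b ∈ fr.M) : fr.β u b = 1 :=
  fr.β_eq (fr.hUM hu) hb fr.hv (by rw [fr.hψ _ hu, fr.hψ _ hu, fr.hMlin b hb, one_smul])

theorem comm_U {u b : G} (hu : u ∈ fr.U) (hb : b ∈ fr.M) : u * b = b * u :=
  fr.comm_of_β (fr.hUM hu) hb (fr.β_U_left hu hb)

theorem mul_sq_mem {a b : G} (ha : a ∈ fr.M) (hb : b ∈ fr.M) (ha2 : a ^ 2 ∈ fr.U)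
    (hb2 : b ^ 2 ∈ fr.U) : (a * b) ^ 2 ∈ fr.U := by
  have e : (a * b) ^ 2 = a * ⁅b, a⁆ * a⁻¹ * (a ^ 2 * b ^ 2) := by
    rw [sq, sq, sq, commutatorElement_def]; group
  rw [e]
  exact fr.U.mul_mem (fr.hUn.conj_mem _ (fr.hMcomm b hb a ha) a) (fr.U.mul_mem ha2 hb2)

theorem β_sq_left {a b : G} (ha : a ∈ fr.M) (hb : b ∈ fr.M) (ha2 : a ^ 2 ∈ fr.U) :
    fr.β a b = 1 ∨ fr.β a b = -1 := by
  refine mul_self_eq_one_iff.1 ?_
  rw [← fr.β_left ha ha hb, ← sq]
  exact fr.β_U_left ha2 hb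

theorem β_symm_sign {a b : G} (ha : a ∈ fr.M) (hb : b ∈ fr.M) (ha2 : a ^ 2 ∈ fr.U) :
    fr.β b a = fr.β a b := by
  rw [fr.β_swap ha hb]
  rcases fr.β_sq_left ha hb ha2 with h | h <;> rw [h] <;> norm_num

theorem ψ_sq_mul {a b : G} (ha : a ∈ fr.M) (hb : b ∈ fr.M) (ha2 : a ^ 2 ∈ fr.U)
    (hb2 : b ^ 2 ∈ fr.U) :
    fr.ψ ((a * b) ^ 2) = fr.β b a * (fr.ψ (a ^ 2) * fr.ψ (b ^ 2)) := by
  have e : (a * b) ^ 2 = a * ⁅b, a⁆ * a⁻¹ * (a ^ 2 * b ^ 2) := by
    rw [sq, sq, sq, commutatorElement_def]; group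
  have hc := fr.hMcomm b hb a ha
  rw [e, fr.ψ_mul (fr.hUn.conj_mem _ hc a) (fr.U.mul_mem ha2 hb2), fr.ψ_mul ha2 hb2]
  congr 1
  show fr.ψ (a * ⁅b, a⁆ * a⁻¹) = fr.ψ ⁅b, a⁆
  rw [← fr.comm_U hc ha, mul_inv_cancel_right]

theorem ψ_sq_L {l : G} (hl : l ∈ fr.L) (hl2 : l ^ 2 ∈ fr.U) : fr.ψ (l ^ 2) = fr.χ l * fr.χ l := by
  refine fr.scal fr.hv ?_
  rw [← fr.hψ _ hl2, sq, mul_smul, fr.hχ l hl, fr.hMlin l (fr.hLM hl), fr.hχ l hl, smul_smul]

theorem isSquare_mul_of_not {F : Type*} [Field F] [Fintype F] (hne : (-1 : F) ≠ 1) {a c : F}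
    (ha : ¬ IsSquare a) (hc : ¬ IsSquare c) : IsSquare (a * c) := by
  have hF : ringChar F ≠ 2 := fun h => by
    haveI : CharP F 2 := h ▸ ringChar.charP F
    exact hne (CharTwo.neg_eq 1)
  have ha0 : a ≠ 0 := fun e => ha (e ▸ IsSquare.zero)
  have hc0 : c ≠ 0 := fun e => hc (e ▸ IsSquare.zero)
  rw [FiniteField.isSquare_iff hF (mul_ne_zero ha0 hc0), mul_pow,
    (FiniteField.pow_dichotomy hF ha0).resolve_left (mt (FiniteField.isSquare_iff hF ha0).2 ha),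
    (FiniteField.pow_dichotomy hF hc0).resolve_left (mt (FiniteField.isSquare_iff hF hc0).2 hc)]
  ring

/-- Squares of representatives are squares up to sign. -/
theorem sq_or_neg [Finite G] (hne : (-1 : fr.F) ≠ 1) {m : G} (hm : m ∈ fr.M) (hm2 : m ^ 2 ∈ fr.U) :
    IsSquare (fr.ψ (m ^ 2)) ∨ IsSquare (-fr.ψ (m ^ 2)) := by
  classical
  by_cases hm1 : IsSquare (-1 : fr.F)
  swap
  · by_cases h : IsSquare (fr.ψ (m ^ 2))
    · exact Or.inl h
    refine Or.inr ?_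
    rw [← neg_one_mul]
    exact isSquare_mul_of_not hne hm1 h
  left
  have hsign : ∀ {a b : G}, a ∈ fr.M → b ∈ fr.M → a ^ 2 ∈ fr.U → IsSquare (fr.β a b) :=
    fun ha hb ha2 => by
      rcases fr.β_sq_left ha hb ha2 with h | h <;> rw [h]
      exacts [IsSquare.one, hm1]
  let M2 : Subgroup G :=
    { carrier := {a | a ∈ fr.M ∧ a ^ 2 ∈ fr.U}
      one_mem' := ⟨fr.M.one_mem, by rw [one_pow]; exact fr.U.one_mem⟩
      mul_mem' := fun ha hb => ⟨fr.M.mul_mem ha.1 hb.1, fr.mul_sq_mem ha.1 hb.1 ha.2 hb.2⟩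
      inv_mem' := fun ha => ⟨fr.M.inv_mem ha.1, by rw [inv_pow]; exact fr.U.inv_mem ha.2⟩ }
  let K0 : Subgroup G :=
    { carrier := {a | a ∈ M2 ∧ IsSquare (fr.ψ (a ^ 2))}
      one_mem' := ⟨M2.one_mem, by
        have : fr.ψ ((1 : G) ^ 2) = 1 := fr.scal fr.hv (by
          rw [← fr.hψ _ (by rw [one_pow]; exact fr.U.one_mem), one_pow, one_smul, one_smul])
        rw [this]; exact IsSquare.one⟩
      mul_mem' := fun {a b} ha hb => ⟨M2.mul_mem ha.1 hb.1, by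
        rw [fr.ψ_sq_mul ha.1.1 hb.1.1 ha.1.2 hb.1.2]
        exact (hsign hb.1.1 ha.1.1 hb.1.2).mul (ha.2.mul hb.2)⟩
      inv_mem' := fun {a} ha => ⟨M2.inv_mem ha.1, by
        have h1 : fr.ψ (a⁻¹ ^ 2) * fr.ψ (a ^ 2) = 1 := fr.scal fr.hv (by
          rw [← fr.ψ_mul (M2.inv_mem ha.1).2 ha.1.2, inv_pow, inv_mul_cancel, one_smul,
            ← fr.hψ _ fr.U.one_mem, one_smul])
        rw [eq_inv_of_mul_eq_one_left h1]
        exact isSquare_inv.2 ha.2⟩ }
  have hconj : ∀ (g a : G), a ∈ M2 → g * a * g⁻¹ ∈ M2 ∧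
      fr.ψ ((g * a * g⁻¹) ^ 2) = fr.σ g (fr.ψ (a ^ 2)) := fun g a ha => by
    have e : (g * a * g⁻¹) ^ 2 = g * a ^ 2 * g⁻¹ := by rw [sq, sq]; group
    have hU : (g * a * g⁻¹) ^ 2 ∈ fr.U := by rw [e]; exact fr.hUn.conj_mem _ ha.2 g
    refine ⟨⟨fr.hMn.conj_mem a ha.1 g, hU⟩, fr.scal fr.hv ?_⟩
    rw [← fr.hψ _ hU, e, mul_smul, mul_smul, fr.hψ _ ha.2, fr.hcj, smul_inv_smul]
    rfl
  let N : Subgroup G :=
    { carrier := {a | a ∈ M2 ∧ ∀ k ∈ K0, a * k = k * a}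
      one_mem' := ⟨M2.one_mem, fun k _ => by simp⟩
      mul_mem' := fun {a b} ha hb => ⟨M2.mul_mem ha.1 hb.1, fun k hk => by
        rw [mul_assoc, hb.2 k hk, ← mul_assoc, ha.2 k hk, mul_assoc]⟩
      inv_mem' := fun {a} ha => ⟨M2.inv_mem ha.1, fun k hk => by
        rw [inv_mul_eq_iff_eq_mul, ← mul_assoc, ha.2 k hk, mul_inv_cancel_right]⟩ }
  have hUM2 : fr.U ≤ M2 := fun u hu => ⟨fr.hUM hu, fr.U.pow_mem hu 2⟩
  have hNn : N.Normal := ⟨fun a ha g => ⟨(hconj g a ha.1).1, fun k hk => by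
    have hk' : g⁻¹ * k * g⁻¹⁻¹ ∈ K0 := ⟨(hconj g⁻¹ k hk.1).1, by
      rw [(hconj g⁻¹ k hk.1).2]; exact hk.2.map (fr.σ g⁻¹)⟩
    calc g * a * g⁻¹ * k = g * (a * (g⁻¹ * k * g⁻¹⁻¹)) * g⁻¹ := by group
      _ = g * ((g⁻¹ * k * g⁻¹⁻¹) * a) * g⁻¹ := by rw [ha.2 _ hk']
      _ = k * (g * a * g⁻¹) := by group⟩⟩
  have hNab : ∀ a ∈ N, ∀ b ∈ N, a * b = b * a := by
    intro a ha b hb
    by_cases hb0 : b ∈ K0
    · exact ha.2 b hb0
    by_cases ha0 : a ∈ K0
    · exact (hb.2 a ha0).symm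
    have hab : a * b ∈ K0 := ⟨M2.mul_mem ha.1 hb.1, by
      rw [fr.ψ_sq_mul ha.1.1 hb.1.1 ha.1.2 hb.1.2]
      exact (hsign hb.1.1 ha.1.1 hb.1.2).mul (isSquare_mul_of_not hne
        (fun h => ha0 ⟨ha.1, h⟩) (fun h => hb0 ⟨hb.1, h⟩))⟩
    have h1 := ha.2 _ hab
    rw [mul_assoc] at h1
    exact mul_left_cancel h1
  have hNU : N = fr.U := fr.hUmax N hNn hNab fun u hu =>
    ⟨hUM2 hu, fun k hk => fr.comm_U hu hk.1.1⟩
  by_contra hns
  haveI : (fr.U.subgroupOf K0).Normal := Subgroup.Normal.subgroupOf fr.hUn K0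
  let Q := K0 ⧸ fr.U.subgroupOf K0
  letI : CommGroup Q :=
    { (inferInstance : Group Q) with
      mul_comm := fun a b => by
        induction a using QuotientGroup.induction_on with
        | _ a =>
        induction b using QuotientGroup.induction_on with
        | _ b =>
        rw [← QuotientGroup.mk_mul, ← QuotientGroup.mk_mul, QuotientGroup.eq, Subgroup.mem_subgroupOf]
        have e : (((a * b)⁻¹ * (b * a) : K0) : G) = ⁅(b : G)⁻¹, (a : G)⁻¹⁆ := by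
          push_cast
          rw [commutatorElement_def]; group
        rw [e]
        exact fr.hMcomm _ (fr.M.inv_mem b.2.1.1) _ (fr.M.inv_mem a.2.1.1) }
  let f : M2 → (Q →* fr.Fˣ) := fun a => QuotientGroup.lift _
    (MonoidHom.mk' (fun k : K0 => Units.mk0 (fr.β a k) (fr.β_ne a.2.1 k.2.1.1))
      (fun k k' => Units.ext (fr.β_right a.2.1 k.2.1.1 k'.2.1.1)))
    (fun k hk => by
      rw [Subgroup.mem_subgroupOf] at hk
      refine Units.ext ?_
      show fr.β a k = 1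
      exact fr.β_comm a.2.1 k.2.1.1 (fr.comm_U hk a.2.1).symm)
  let Φ : M2 →* (Q →* fr.Fˣ) := MonoidHom.mk' f fun a b => by
    refine QuotientGroup.monoidHom_ext _ (MonoidHom.ext fun k => Units.ext ?_)
    exact fr.β_left a.2.1 b.2.1 k.2.1.1
  have hker : Φ.ker ≤ fr.U.subgroupOf M2 := by
    intro a ha
    rw [Subgroup.mem_subgroupOf, ← hNU]
    refine ⟨a.2, fun k hk => fr.comm_of_β a.2.1 hk.1.1 ?_⟩
    exact congrArg Units.val (DFunLike.congr_fun ha (QuotientGroup.mk (⟨k, hk⟩ : K0)))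
  obtain ⟨hfin, hle⟩ := card_monoidHom_le Q fr.F
  haveI := hfin
  let ι : (Q →* fr.Fˣ) → (Q →* fr.F) := fun φ => (Units.coeHom fr.F).comp φ
  have hι : Function.Injective ι := fun a b h =>
    MonoidHom.ext fun q => Units.ext (DFunLike.congr_fun h q)
  haveI : Finite (Q →* fr.Fˣ) := Finite.of_injective ι hι
  have h1 : fr.U.relIndex M2 ≤ fr.U.relIndex K0 := calc
    (fr.U.subgroupOf M2).index ≤ Φ.ker.index :=
        Nat.le_of_dvd (Nat.pos_of_ne_zero Subgroup.index_ne_zero_of_finite)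
          (Subgroup.index_dvd_of_le hker)
    _ = Nat.card Φ.range := Subgroup.index_ker Φ
    _ ≤ Nat.card (Q →* fr.Fˣ) := Subgroup.card_le_card_group _
    _ ≤ Nat.card (Q →* fr.F) := Nat.card_le_card_of_injective ι hι
    _ ≤ Nat.card Q := hle
  have hUK : fr.U ≤ K0 := fun u hu => ⟨hUM2 hu, fr.ψ u, by rw [sq, fr.ψ_mul hu hu]⟩
  have h2 := Subgroup.relIndex_mul_relIndex fr.U K0 M2 hUK (fun k hk => hk.1)
  have h3 : K0.relIndex M2 = 1 := by
    have hpos : 0 < fr.U.relIndex K0 := Nat.pos_of_ne_zero Subgroup.index_ne_zero_of_finite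
    have hne : K0.relIndex M2 ≠ 0 := Subgroup.index_ne_zero_of_finite
    have : fr.U.relIndex K0 * K0.relIndex M2 ≤ fr.U.relIndex K0 * 1 := by rw [h2, mul_one]; exact h1
    have := Nat.le_of_mul_le_mul_left this hpos
    omega
  exact hns (Subgroup.relIndex_eq_one.1 h3 (show m ∈ M2 from ⟨hm, hm2⟩)).2

/-- Coordinates. -/
structure Coord (n : ℕ) [Module (ZMod 2) fr.X] where
  b : Module.Basis (Fin n) (ZMod 2) fr.X
  m : fr.X → fr.M
  k : fr.X → fr.F
  hcl : ∀ x, fr.cl (m x) = x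
  hk : ∀ x, k x ≠ 0
  hm0 : m 0 = 1
  hk0 : k 0 = 1
  hadd : ∀ x y (w : V), k x • (m x : G) • k y • (m y : G) • w = k (x + y) • (m (x + y) : G) • w
  l : Fin n → G
  hl : ∀ i, l i ∈ fr.L
  hlm : ∀ i x, fr.β (l i) (m x) = if b.repr x i = 0 then 1 else -1
  z : G
  hz : fr.y0 ∉ fr.L → z ∈ fr.D ∧ z ^ 2 ∈ fr.U ∧ (∀ w : V, z • fr.y0 • w = -(fr.y0 • z • w)) ∧
    ∀ d ∈ fr.D, ∃ i j : Bool, ∃ t ∈ fr.L, d = (if i then fr.y0 else 1) * (if j then z else 1) * t
  hmy : fr.y0 ∉ fr.L → ∀ x, fr.β (m x) fr.y0 = 1 ∧ fr.β (m x) z = 1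

theorem char_two_ne [Nontrivial V] {p : ℕ} [Fact p.Prime] (hV : ∀ x : V, p • x = 0) (h2 : p ≠ 2) :
    (-1 : fr.F) ≠ 1 := by
  haveI := fr.charP hV
  intro h
  have h20 : ((2 : ℕ) : fr.F) = 0 := by push_cast; linear_combination -h
  rw [CharP.cast_eq_zero_iff fr.F p] at h20
  exact h2 ((Nat.prime_dvd_prime_iff_eq Fact.out Nat.prime_two).1 h20)

/-- Every character of the index set is realised in `L` by an involution modulo `U`. -/
theorem exists_dual [Finite G] [Nontrivial V] {p : ℕ} [Fact p.Prime] (hV : ∀ x : V, p • x = 0)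
    (h2 : p ≠ 2) [Module (ZMod 2) fr.X] {n : ℕ} (b : Module.Basis (Fin n) (ZMod 2) fr.X)
    (s : Fin n → G) (hsM : ∀ i, s i ∈ fr.M) (hcls : ∀ i, fr.cl ⟨s i, hsM i⟩ = b i)
    (hs2 : ∀ i, s i ^ 2 ∈ fr.U) (h : Fin n → Bool) :
    ∃ l ∈ fr.L, l ^ 2 ∈ fr.U ∧ ∀ i, fr.β l (s i) = if h i then -1 else 1 := by
  classical
  have hne := fr.char_two_ne hV h2
  let bit : fr.F → ZMod 2 := fun c => if c = 1 then 0 else 1
  let W : Submodule (ZMod 2) (Fin n → ZMod 2) :=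
    AddSubgroup.toZModSubmodule 2
      { carrier := {f | ∃ l ∈ fr.L, ∀ i, bit (fr.β l (s i)) = f i}
        zero_mem' := ⟨1, fr.L.one_mem, fun i => by
          show bit (fr.β 1 (s i)) = 0
          rw [fr.β_U_left fr.U.one_mem (hsM i)]; simp [bit]⟩
        add_mem' := fun {f f'} ⟨l, hl, hf⟩ ⟨l', hl', hf'⟩ => ⟨l * l', fr.L.mul_mem hl hl', fun i => by
          rw [fr.β_left (fr.hLM hl) (fr.hLM hl') (hsM i), Pi.add_apply, ← hf, ← hf']
          rcases fr.β_sq_left (hsM i) (fr.hLM hl) (hs2 i) with e | e <;>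
          rcases fr.β_sq_left (hsM i) (fr.hLM hl') (hs2 i) with e' | e' <;>
            (rw [fr.β_symm_sign (hsM i) (fr.hLM hl) (hs2 i),
              fr.β_symm_sign (hsM i) (fr.hLM hl') (hs2 i), e, e']; simp [bit, hne]) <;> rfl⟩
        neg_mem' := fun {f} ⟨l, hl, hf⟩ => ⟨l, hl, fun i => by rw [hf i, Pi.neg_apply, ZMod.neg_eq_self_mod_two]⟩ }
  have hWtop : W = ⊤ := by
    by_contra hlt
    obtain ⟨f, hf0, hfW⟩ := Submodule.exists_dual_map_eq_bot_of_lt_top (lt_top_iff_ne_top.2 hlt)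
      inferInstance
    let x : fr.X := ∑ i, f (Pi.single i 1) • b i
    have hx : x ≠ 0 := fun e => hf0 (LinearMap.pi_ext' fun i => LinearMap.ext_ring (by
      have := congrArg (fun z => b.repr z i) e
      simpa [x, Finsupp.single_apply] using this))
    obtain ⟨l, hl, hne'⟩ := fr.separates hx
    rw [show fr.β l (fr.sec 0) = 1 from fr.β_LD hl ((fr.cl_eq_zero _).1 (fr.cl_sec 0))] at hne'
    refine hne' ?_
    let φ : fr.X →+ Additive fr.Fˣ :=
      AddMonoidHom.mk' (fun z => Additive.ofMul (Units.mk0 (fr.β l (fr.sec z))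
        (fr.β_ne (fr.hLM hl) (fr.sec z).2))) fun z z' => Additive.toMul.injective (Units.ext (by
          show fr.β l (fr.sec (z + z')) = fr.β l (fr.sec z) * fr.β l (fr.sec z')
          rw [← fr.β_right (fr.hLM hl) (fr.sec z).2 (fr.sec z').2, ← Subgroup.coe_mul]
          exact fr.β_cl hl (by rw [fr.cl_mul, fr.cl_sec, fr.cl_sec, fr.cl_sec])))
    have hφb : ∀ i, φ (b i) = (bit (fr.β l (s i))).val • Additive.ofMul (-1 : fr.Fˣ) := fun i => by
      refine Additive.toMul.injective (Units.ext ?_)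
      show fr.β l (fr.sec (b i)) = (((-1 : fr.Fˣ) ^ (bit (fr.β l (s i))).val : fr.Fˣ) : fr.F)
      rw [fr.β_cl hl (show fr.cl (fr.sec (b i)) = fr.cl ⟨s i, hsM i⟩ by rw [fr.cl_sec, hcls]),
        fr.β_symm_sign (hsM i) (fr.hLM hl) (hs2 i)]
      rcases fr.β_sq_left (hsM i) (fr.hLM hl) (hs2 i) with e | e <;> simp [e, bit, hne, ZMod.val_one]
    have hsum : ∑ i, f (Pi.single i 1) * bit (fr.β l (s i)) = 0 := by
      have h0 : f (fun i => bit (fr.β l (s i))) = 0 := by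
        rw [← Submodule.mem_bot (R := ZMod 2), ← hfW]
        exact ⟨_, ⟨l, hl, fun i => rfl⟩, rfl⟩
      refine Eq.trans ?_ h0
      conv_rhs => rw [pi_eq_sum_univ' (fun i => bit (fr.β l (s i)))]
      rw [map_sum]
      exact Finset.sum_congr rfl fun i _ => by rw [map_smul, smul_eq_mul, mul_comm]
    have hscal : ∀ (c : ZMod 2) (z : fr.X), φ (c • z) = c.val • φ z := fun c z => by
      rw [← map_nsmul, ← Nat.cast_smul_eq_nsmul (ZMod 2), ZMod.natCast_zmod_val]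
    have htwo : ∀ k : ℕ, (k : ZMod 2) = 0 → k • Additive.ofMul (-1 : fr.Fˣ) = 0 := fun k hk => by
      obtain ⟨j, rfl⟩ := (ZMod.natCast_eq_zero_iff _ _).1 hk
      rw [mul_comm, mul_nsmul']
      show j • Additive.ofMul ((-1 : fr.Fˣ) ^ 2) = 0
      simp
    have hφx : φ x = 0 := by
      simp only [x, map_sum, hscal, hφb, smul_smul, ← Finset.sum_smul]
      exact htwo _ (by push_cast; simpa [ZMod.natCast_zmod_val] using hsum)
    exact congrArg (fun z => ((Additive.toMul z : fr.Fˣ) : fr.F)) hφx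
  obtain ⟨l, hl, hli⟩ : (fun i => if h i then (1 : ZMod 2) else 0) ∈ W := by rw [hWtop]; trivial
  obtain ⟨t, ht, htU⟩ := fr.exists_pow Nat.prime_two (fr.hLM hl)
  refine ⟨l ^ t, fr.L.pow_mem hl t, htU, fun i => ?_⟩
  have hpow : ∀ k : ℕ, fr.β (l ^ k) (s i) = fr.β l (s i) ^ k := fun k => by
    induction k with
    | zero => rw [pow_zero, pow_zero]; exact fr.β_U_left fr.U.one_mem (hsM i)
    | succ k ih => rw [pow_succ, fr.β_left (fr.M.pow_mem (fr.hLM hl) k) (fr.hLM hl) (hsM i), ih,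
        pow_succ]
  rw [hpow, fr.β_symm_sign (hsM i) (fr.hLM hl) (hs2 i)]
  have e1 := hli i
  rw [fr.β_symm_sign (hsM i) (fr.hLM hl) (hs2 i)] at e1
  have hodd : Odd t := Nat.odd_iff.2 (by omega)
  rcases fr.β_sq_left (hsM i) (fr.hLM hl) (hs2 i) with e | e <;> rw [e] at e1 ⊢ <;>
    cases hi : h i <;> simp [bit, hi, hne] at e1 ⊢
  exact hodd.neg_one_pow

/-- Coordinates exist. -/
theorem exists_coord [Finite G] [Nontrivial V] {p : ℕ} [Fact p.Prime] (hV : ∀ x : V, p • x = 0)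
    (h2 : p ≠ 2) [Module (ZMod 2) fr.X] {n : ℕ} (b : Module.Basis (Fin n) (ZMod 2) fr.X) :
    Nonempty (fr.Coord n) := by
  classical
  have hne := fr.char_two_ne hV h2
  have hx2 : ∀ x : fr.X, 2 • x = 0 := fun x => by
    rw [← Nat.cast_smul_eq_nsmul (ZMod 2), show ((2 : ℕ) : ZMod 2) = 0 from rfl, zero_smul]
  have mulD : ∀ (a : fr.M) {d : G} (hd : d ∈ fr.D) (x : fr.X), fr.cl a = x →
      fr.cl (a * ⟨d, fr.hDM hd⟩) = x := fun a d hd x h => by
    rw [fr.cl_mul, (fr.cl_eq_zero ⟨d, fr.hDM hd⟩).2 hd, add_zero, h]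
  -- first representatives
  choose s0 hs0 hs0U using fun i => fr.exists_sec Nat.prime_two (hx2 (b i))
  -- commuting with the generators of `D`
  obtain ⟨z, s1, hz, hs1, hs1U, hs1y⟩ : ∃ (z : G) (s1 : Fin n → fr.M),
      (fr.y0 ∉ fr.L → z ∈ fr.D ∧ z ^ 2 ∈ fr.U ∧ (∀ w : V, z • fr.y0 • w = -(fr.y0 • z • w)) ∧
        ∀ d ∈ fr.D, ∃ i j : Bool, ∃ t ∈ fr.L,
          d = (if i then fr.y0 else 1) * (if j then z else 1) * t) ∧
      (∀ i, fr.cl (s1 i) = b i) ∧ (∀ i, (s1 i : G) ^ 2 ∈ fr.U) ∧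
      (fr.y0 ∉ fr.L → ∀ i, fr.β (s1 i) fr.y0 = 1 ∧ fr.β (s1 i) z = 1) := by
    rcases fr.hcase with ⟨hDL, hy⟩ | ⟨hyL, hyU, z, hzD, hzU, hzy, -, -, -, hgen⟩
    · exact ⟨1, s0, fun h => (h (hDL fr.hy0)).elim, hs0, hs0U, fun h => (h (hDL fr.hy0)).elim⟩
    have hyM := fr.hDM fr.hy0
    have hzM := fr.hDM hzD
    have hzyβ : fr.β z fr.y0 = -1 := fr.β_eq hzM hyM fr.hv (by rw [hzy, neg_one_smul])
    have hyzβ : fr.β fr.y0 z = -1 := by rw [fr.β_symm_sign hzM hyM hzU, hzyβ]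
    let a : Fin n → G := fun i => if fr.β (s0 i) z = 1 then 1 else fr.y0
    let c : Fin n → G := fun i => if fr.β (s0 i) fr.y0 = 1 then 1 else z
    have haD : ∀ i, a i ∈ fr.D := fun i => by
      simp only [a]; split_ifs
      exacts [fr.D.one_mem, fr.hy0]
    have hcD : ∀ i, c i ∈ fr.D := fun i => by
      simp only [c]; split_ifs
      exacts [fr.D.one_mem, hzD]
    have haU : ∀ i, a i ^ 2 ∈ fr.U := fun i => by
      simp only [a]; split_ifs
      exacts [by rw [one_pow]; exact fr.U.one_mem, hyU]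
    have hcU : ∀ i, c i ^ 2 ∈ fr.U := fun i => by
      simp only [c]; split_ifs
      exacts [by rw [one_pow]; exact fr.U.one_mem, hzU]
    refine ⟨z, fun i => s0 i * ⟨a i, fr.hDM (haD i)⟩ * ⟨c i, fr.hDM (hcD i)⟩,
      fun _ => ⟨hzD, hzU, hzy, hgen⟩, fun i => mulD _ (hcD i) _ (mulD _ (haD i) _ (hs0 i)),
      fun i => fr.mul_sq_mem (fr.M.mul_mem (s0 i).2 (fr.hDM (haD i))) (fr.hDM (hcD i))
        (fr.mul_sq_mem (s0 i).2 (fr.hDM (haD i)) (hs0U i) (haU i)) (hcU i),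
      fun _ i => ?_⟩
    have e : ∀ w ∈ fr.M, fr.β ((s0 i * ⟨a i, fr.hDM (haD i)⟩ * ⟨c i, fr.hDM (hcD i)⟩ : fr.M) : G) w
        = fr.β (s0 i) w * fr.β (a i) w * fr.β (c i) w := fun w hw => by
      push_cast
      rw [fr.β_left (fr.M.mul_mem (s0 i).2 (fr.hDM (haD i))) (fr.hDM (hcD i)) hw,
        fr.β_left (s0 i).2 (fr.hDM (haD i)) hw]
    have h1 : ∀ w ∈ fr.M, fr.β (1 : G) w = 1 := fun w hw => fr.β_U_left fr.U.one_mem hw
    have hyy : fr.β fr.y0 fr.y0 = 1 := fr.β_comm hyM hyM rfl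
    have hzz : fr.β z z = 1 := fr.β_comm hzM hzM rfl
    rcases fr.β_sq_left (s0 i).2 hyM (hs0U i) with p1 | p1 <;>
      rcases fr.β_sq_left (s0 i).2 hzM (hs0U i) with p2 | p2 <;>
      (rw [e _ hyM, e _ hzM]; simp [a, c, p1, p2, h1 _ hyM, h1 _ hzM, hyy, hzz, hzyβ, hyzβ, hne])
  -- commuting with each other
  have hsM1 : ∀ i, (s1 i : G) ∈ fr.M := fun i => (s1 i).2
  choose P hPL hPU hP using fun j => fr.exists_dual hV h2 b (fun i => (s1 i : G)) hsM1 hs1 hs1U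
    (fun i => decide (i < j) && decide (fr.β (s1 i) (s1 j) ≠ 1))
  let s2 : Fin n → fr.M := fun j => s1 j * ⟨P j, fr.hLM (hPL j)⟩
  have hs2U : ∀ j, (s2 j : G) ^ 2 ∈ fr.U := fun j =>
    fr.mul_sq_mem (s1 j).2 (fr.hLM (hPL j)) (hs1U j) (hPU j)
  have hs2cl : ∀ j, fr.cl (s2 j) = b j := fun j => mulD _ (fr.hLD (hPL j)) _ (hs1 j)
  have hs2comm : ∀ i j, i < j → fr.β (s2 i) (s2 j) = 1 := fun i j hij => by
    show fr.β ((s1 i : G) * P i) ((s1 j : G) * P j) = 1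
    rw [fr.β_left (s1 i).2 (fr.hLM (hPL i)) (fr.M.mul_mem (s1 j).2 (fr.hLM (hPL j))),
      fr.β_right (s1 i).2 (s1 j).2 (fr.hLM (hPL j)),
      fr.β_right (fr.hLM (hPL i)) (s1 j).2 (fr.hLM (hPL j)),
      fr.β_symm_sign (fr.hLM (hPL j)) (s1 i).2 (hPU j), hP, hP,
      fr.β_LD (hPL i) (fr.hLD (hPL j))]
    rcases fr.β_sq_left (s1 i).2 (s1 j).2 (hs1U i) with e | e <;>
      simp [e, hij, hij.le, not_lt.2 hij.le, hne]
  choose l hlL hlU hl using fun j => fr.exists_dual hV h2 b (fun i => (s2 i : G)) (fun i => (s2 i).2)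
    hs2cl hs2U (fun i => decide (i = j))
  let e : Fin n → G := fun j => if IsSquare (fr.ψ ((s2 j : G) ^ 2)) then 1 else l j
  have heL : ∀ j, e j ∈ fr.L := fun j => by
    simp only [e]; split_ifs
    exacts [fr.L.one_mem, hlL j]
  have heU : ∀ j, e j ^ 2 ∈ fr.U := fun j => by
    simp only [e]; split_ifs
    exacts [by rw [one_pow]; exact fr.U.one_mem, hlU j]
  let s : Fin n → fr.M := fun j => s2 j * ⟨e j, fr.hLM (heL j)⟩
  have hsU : ∀ j, (s j : G) ^ 2 ∈ fr.U := fun j =>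
    fr.mul_sq_mem (s2 j).2 (fr.hLM (heL j)) (hs2U j) (heU j)
  have hscl : ∀ j, fr.cl (s j) = b j := fun j => mulD _ (fr.hLD (heL j)) _ (hs2cl j)
  have hes : ∀ i j, i ≠ j → fr.β (e i) (s2 j) = 1 := fun i j hij => by
    simp only [e]; split_ifs
    · exact fr.β_U_left fr.U.one_mem (s2 j).2
    · rw [hl i j]; simp [Ne.symm hij]
  have hscomm : ∀ i j, fr.β (s i) (s j) = 1 := fun i j => by
    by_cases hij : i = j
    · subst hij; exact fr.β_comm (s i).2 (s i).2 rfl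
    show fr.β ((s2 i : G) * e i) ((s2 j : G) * e j) = 1
    rw [fr.β_left (s2 i).2 (fr.hLM (heL i)) (fr.M.mul_mem (s2 j).2 (fr.hLM (heL j))),
      fr.β_right (s2 i).2 (s2 j).2 (fr.hLM (heL j)),
      fr.β_right (fr.hLM (heL i)) (s2 j).2 (fr.hLM (heL j)),
      fr.β_symm_sign (fr.hLM (heL j)) (s2 i).2 (heU j), hes i j hij, hes j i (Ne.symm hij),
      fr.β_LD (heL i) (fr.hLD (heL j))]
    rcases lt_or_gt_of_ne hij with h | h
    · rw [hs2comm i j h]; simp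
    · rw [fr.β_symm_sign (s2 j).2 (s2 i).2 (hs2U j), hs2comm j i h]; simp
  have hsq : ∀ j, IsSquare (fr.ψ ((s j : G) ^ 2)) := fun j => by
    have h0 : fr.ψ ((s j : G) ^ 2) = fr.ψ (((s2 j : G) * e j) ^ 2) := rfl
    rw [h0, fr.ψ_sq_mul (s2 j).2 (fr.hLM (heL j)) (hs2U j) (heU j)]
    simp only [e]
    split_ifs with h
    · rw [fr.β_U_left fr.U.one_mem (s2 j).2, one_mul]
      refine h.mul ⟨fr.χ 1, ?_⟩
      exact fr.ψ_sq_L fr.L.one_mem (by rw [one_pow]; exact fr.U.one_mem)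
    · rw [hl j j, fr.ψ_sq_L (hlL j) (hlU j)]
      have h' := (fr.sq_or_neg hne (s2 j).2 (hs2U j)).resolve_left h
      simp only [decide_true, if_true]
      rw [← mul_assoc, neg_one_mul]
      exact h'.mul ⟨fr.χ (l j), rfl⟩
  choose r hr using fun j => hsq j
  have hr0 : ∀ j, r j ≠ 0 := fun j h0 => fr.ψ_ne (hsU j) (by rw [hr j, h0, mul_zero])
  -- the involutions
  let S : Fin n → AddMonoid.End V := fun j =>
    AddMonoidHom.mk' (fun w => (r j)⁻¹ • (s j : G) • w) (fun w w' => by rw [smul_add, smul_add])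
  have hSS : ∀ j, S j * S j = 1 := fun j => AddMonoidHom.ext fun w => by
    show (r j)⁻¹ • (s j : G) • (r j)⁻¹ • (s j : G) • w = w
    rw [fr.hMlin _ (s j).2, ← mul_smul (s j : G), ← sq, fr.hψ _ (hsU j), smul_smul, smul_smul, hr j]
    have := hr0 j
    field_simp
    exact one_smul _ _
  have hScomm : ∀ i j, S i * S j = S j * S i := fun i j => AddMonoidHom.ext fun w => by
    show (r i)⁻¹ • (s i : G) • (r j)⁻¹ • (s j : G) • w = (r j)⁻¹ • (s j : G) • (r i)⁻¹ • (s i : G) • w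
    rw [fr.hMlin _ (s i).2, fr.hMlin _ (s j).2, fr.smul_comm' (s i).2 (s j).2, hscomm i j, one_smul,
      smul_comm]
  let Cl := Submonoid.closure (Set.range S)
  have hClc : ∀ a ∈ Cl, ∀ c ∈ Cl, Commute a c := fun a ha c hc => by
    induction ha using Submonoid.closure_induction with
    | mem x hx =>
      obtain ⟨i, rfl⟩ := hx
      induction hc using Submonoid.closure_induction with
      | mem y hy => obtain ⟨j, rfl⟩ := hy; exact hScomm i j
      | one => exact Commute.one_right _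
      | mul y z _ _ h h' => exact h.mul_right h'
    | one => exact Commute.one_left _
    | mul x y _ _ h h' => exact h.mul_left h'
  letI : CommMonoid Cl :=
    { (inferInstance : Monoid Cl) with mul_comm := fun a c => Subtype.ext (hClc a a.2 c c.2) }
  let Sx : fr.X → Cl := fun x => ∏ i, (⟨S i, Submonoid.subset_closure ⟨i, rfl⟩⟩ : Cl) ^ (b.repr x i).val
  have hSxadd : ∀ x y, Sx (x + y) = Sx x * Sx y := fun x y => by
    simp only [Sx, ← Finset.prod_mul_distrib, ← pow_add, map_add, Finsupp.add_apply]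
    refine Finset.prod_congr rfl fun i _ => ?_
    generalize b.repr x i = a
    generalize b.repr y i = c
    have h1 : (⟨S i, Submonoid.subset_closure ⟨i, rfl⟩⟩ : Cl) ^ 2 = 1 :=
      Subtype.ext (by rw [SubmonoidClass.coe_pow, sq]; exact hSS i)
    rw [ZMod.val_add, ← pow_eq_pow_mod _ h1]
  let Rep : AddMonoid.End V → fr.X → Prop := fun T x => ∃ k : fr.F, k ≠ 0 ∧ ∃ a : fr.M,
    fr.cl a = x ∧ (∀ w, T w = k • (a : G) • w) ∧ (∀ i, fr.β (l i) a = if b.repr x i = 0 then 1 else -1) ∧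
    (fr.y0 ∉ fr.L → fr.β a fr.y0 = 1 ∧ fr.β a z = 1)
  have hrep1 : Rep 1 0 := by
    refine ⟨1, one_ne_zero, 1, rfl, fun w => ?_, fun i => ?_, fun h => ?_⟩
    · show w = (1 : fr.F) • ((1 : fr.M) : G) • w
      rw [one_smul, Subgroup.coe_one, one_smul]
    · simp [fr.β_comm (fr.hLM (hlL i)) fr.M.one_mem]
    · exact ⟨fr.β_U_left fr.U.one_mem (fr.hDM fr.hy0), fr.β_U_left fr.U.one_mem (fr.hDM (hz h).1)⟩
  have hrepmul : ∀ T T' x x', Rep T x → Rep T' x' → Rep (T * T') (x + x') := by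
    rintro T T' x x' ⟨k, hk, a, ha, hT, hla, hya⟩ ⟨k', hk', a', ha', hT', hla', hya'⟩
    refine ⟨k * k', mul_ne_zero hk hk', a * a', by rw [fr.cl_mul, ha, ha'], fun w => ?_,
      fun i => ?_, fun h => ?_⟩
    · show T (T' w) = _
      rw [hT', hT, fr.hMlin _ a.2, smul_smul k, Subgroup.coe_mul, mul_smul (a : G)]
    · rw [Subgroup.coe_mul, fr.β_right (fr.hLM (hlL i)) a.2 a'.2, hla i, hla' i, map_add,
        Finsupp.add_apply]
      generalize b.repr x i = u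
      generalize b.repr x' i = u'
      have hu : ∀ u : ZMod 2, u = 0 ∨ u = 1 := by decide
      rcases hu u with rfl | rfl <;> rcases hu u' with rfl | rfl <;> simp [show (1 : ZMod 2) + 1 = 0 from rfl]
    · rw [Subgroup.coe_mul, fr.β_left a.2 a'.2 (fr.hDM fr.hy0), (hya h).1, (hya' h).1,
        fr.β_left a.2 a'.2 (fr.hDM (hz h).1), (hya h).2, (hya' h).2]
      simp
  have hrepS : ∀ j, Rep (S j) (b j) := fun j => by
    refine ⟨(r j)⁻¹, inv_ne_zero (hr0 j), s j, hscl j, fun w => rfl, fun i => ?_, fun h => ?_⟩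
    · show fr.β (l i) ((s2 j : G) * e j) = _
      rw [fr.β_right (fr.hLM (hlL i)) (s2 j).2 (fr.hLM (heL j)), hl i j,
        fr.β_LD (hlL i) (fr.hLD (heL j)), mul_one, b.repr_self, Finsupp.single_apply]
      by_cases hij : j = i <;> simp [hij]
    · have hE : ∀ w ∈ fr.D, fr.β (e j) w = 1 := fun w hw => fr.β_LD (heL j) hw
      have hPj : ∀ w ∈ fr.D, fr.β (P j) w = 1 := fun w hw => fr.β_LD (hPL j) hw
      have e' : ∀ w ∈ fr.D, fr.β (s j) w = fr.β (s1 j) w := fun w hw => by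
        show fr.β ((s1 j : G) * P j * e j) w = _
        rw [fr.β_left (fr.M.mul_mem (s1 j).2 (fr.hLM (hPL j))) (fr.hLM (heL j)) (fr.hDM hw),
          fr.β_left (s1 j).2 (fr.hLM (hPL j)) (fr.hDM hw), hE w hw, hPj w hw, mul_one, mul_one]
      exact ⟨(e' _ fr.hy0).trans (hs1y h j).1, (e' _ (hz h).1).trans (hs1y h j).2⟩
  have hrep : ∀ x, Rep (Sx x : AddMonoid.End V) x := fun x => by
    have key : ∀ (J : Finset (Fin n)),
        Rep ((∏ i ∈ J, (⟨S i, Submonoid.subset_closure ⟨i, rfl⟩⟩ : Cl) ^ (b.repr x i).val : Cl) :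
          AddMonoid.End V) (∑ i ∈ J, b.repr x i • b i) := by
      intro J
      induction J using Finset.induction_on with
      | empty => simpa using hrep1
      | insert i J hi ih =>
        rw [Finset.prod_insert hi, Finset.sum_insert hi, Submonoid.coe_mul]
        refine hrepmul _ _ _ _ ?_ ih
        generalize b.repr x i = c
        have hc : ∀ c : ZMod 2, c = 0 ∨ c = 1 := by decide
        rcases hc c with rfl | rfl
        · simpa using hrep1
        · simpa [ZMod.val_one] using hrepS i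
    have := key Finset.univ
    rwa [b.sum_repr] at this
  have hS0 : ∀ w, (Sx 0 : AddMonoid.End V) w = w := fun w => by
    have h : Sx 0 = 1 := Finset.prod_eq_one fun i _ => by
      rw [map_zero, Finsupp.zero_apply, ZMod.val_zero, pow_zero]
    rw [h]; rfl
  choose k hk m hm hTm hlm hmy using hrep
  let k' : fr.X → fr.F := fun x => if x = 0 then 1 else k x
  let m' : fr.X → fr.M := fun x => if x = 0 then 1 else m x
  have hTm' : ∀ x w, (Sx x : AddMonoid.End V) w = k' x • (m' x : G) • w := fun x w => by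
    simp only [k', m']
    split_ifs with h
    · rw [h, hS0, one_smul, Subgroup.coe_one, one_smul]
    · exact hTm x w
  refine ⟨{ b := b, m := m', k := k', hcl := fun x => ?_, hk := fun x => ?_, hm0 := if_pos rfl,
            hk0 := if_pos rfl, hadd := fun x y w => ?_, l := l, hl := hlL, hlm := fun i x => ?_,
            z := z, hz := hz, hmy := fun h x => ?_ }⟩
  · simp only [m']; split_ifs with h
    · rw [h]; exact fr.cl_one
    · exact hm x
  · simp only [k']; split_ifs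
    exacts [one_ne_zero, hk x]
  · rw [← hTm', ← hTm', ← hTm', hSxadd]; rfl
  · simp only [m']; split_ifs with h h' h'
    · exact fr.β_comm (fr.hLM (hlL i)) fr.M.one_mem (by simp)
    · exact absurd (by rw [h]; simp) h'
    · rw [hlm, if_pos h']
    · rw [hlm, if_neg h']
  · simp only [m']; split_ifs
    · exact ⟨fr.β_U_left fr.U.one_mem (fr.hDM fr.hy0), fr.β_U_left fr.U.one_mem (fr.hDM (hz h).1)⟩
    · exact hmy x h

end Frame

end CfsgLib.Perm.CoprimeBase
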