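import Cfsg.Agent.Lib.Perm.CoprimeBase.Pauli
import Cfsg.Agent.Lib.Perm.CoprimeBase.LinSearch

/-!
# The two systems of generators
-/

namespace CfsgLib.Perm.CoprimeBase

universe u

open CfsgLib.Perm.OddBase
open scoped commutatorElement

namespace Pauli

open Check

/-- The coding of a prime field. -/
noncomputable def codePrime {F : Type*} [Field F] [Fintype F] (q : ℕ) [hq : Fact q.Prime] [CharP F q]
    (hcard : Fintype.card F = q) (A : Ar) (hAq : A.q = q)
    (hadd : ∀ a b, A.add a b = (a + b) % q) (hmul : ∀ a b, A.mul a b = a * b % q)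
    (hneg : A.neg 1 = q - 1) : Code A F where
  ι a := (a : F)
  hq := hAq ▸ hq.out.one_lt
  hadd a b _ _ := by
    rw [hAq, hadd]
    exact ⟨Nat.mod_lt _ hq.out.pos, by
      rw [← Nat.cast_add]; exact (CharP.natCast_eq_natCast F q).2 (Nat.mod_modEq _ _)⟩
  hmul a b _ _ := by
    rw [hAq, hmul]
    exact ⟨Nat.mod_lt _ hq.out.pos, by
      rw [← Nat.cast_mul]; exact (CharP.natCast_eq_natCast F q).2 (Nat.mod_modEq _ _)⟩
  hneg := by
    rw [hAq, hneg]
    refine ⟨Nat.sub_lt hq.out.pos Nat.one_pos, ?_⟩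
    rw [Nat.cast_sub hq.out.one_le, CharP.cast_eq_zero, Nat.cast_one, zero_sub]
  h0 := Nat.cast_zero
  h1 := Nat.cast_one
  hinj a b ha hb h := CharP.natCast_injOn_Iio F q (Set.mem_Iio.2 (hAq ▸ ha))
    (Set.mem_Iio.2 (hAq ▸ hb)) h
  hsurj c := by
    classical
    have h : Function.Bijective fun a : Fin q => ((a : ℕ) : F) :=
      (Fintype.bijective_iff_injective_and_card _).2 ⟨fun a b e =>
        Fin.ext (CharP.natCast_injOn_Iio F q (Set.mem_Iio.2 a.2) (Set.mem_Iio.2 b.2) e),
        by rw [Fintype.card_fin, hcard]⟩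
    obtain ⟨a, ha⟩ := h.2 c
    exact ⟨a, hAq ▸ a.2, ha⟩

/-- The coding of the field of nine elements. -/
noncomputable def codeNine {F : Type*} [Field F] [Fintype F] [CharP F 3]
    (hcard : Fintype.card F = 9) (i : F) (hi : i * i = -1) : Code ar9 F where
  ι a := ((a % 3 : ℕ) : F) + ((a / 3 : ℕ) : F) * i
  hq := by decide
  hadd a b ha hb := by
    have hlt : ∀ r s, r < 3 → s < 3 → r + 3 * s < 9 ∧ (r + 3 * s) % 3 = r ∧ (r + 3 * s) / 3 = s := by
      intro r s hr hs; omega
    obtain ⟨h1, h2, h3⟩ := hlt ((a % 3 + b % 3) % 3) ((a / 3 + b / 3) % 3) (Nat.mod_lt _ (by norm_num))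
      (Nat.mod_lt _ (by norm_num))
    refine ⟨h1, ?_⟩
    show ((((a % 3 + b % 3) % 3 + 3 * ((a / 3 + b / 3) % 3)) % 3 : ℕ) : F) + _ = _
    simp only [ar9]
    rw [h2, h3, (CharP.natCast_eq_natCast F 3).2 (Nat.mod_modEq (a % 3 + b % 3) 3),
      (CharP.natCast_eq_natCast F 3).2 (Nat.mod_modEq (a / 3 + b / 3) 3)]
    push_cast
    ring
  hmul a b ha hb := by
    have hlt : ∀ r s, r < 3 → s < 3 → r + 3 * s < 9 ∧ (r + 3 * s) % 3 = r ∧ (r + 3 * s) / 3 = s := by
      intro r s hr hs; omega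
    obtain ⟨h1, h2, h3⟩ := hlt ((a % 3 * (b % 3) + 2 * (a / 3 * (b / 3))) % 3)
      ((a % 3 * (b / 3) + a / 3 * (b % 3)) % 3) (Nat.mod_lt _ (by norm_num))
      (Nat.mod_lt _ (by norm_num))
    refine ⟨h1, ?_⟩
    show ((((a % 3 * (b % 3) + 2 * (a / 3 * (b / 3))) % 3 +
      3 * ((a % 3 * (b / 3) + a / 3 * (b % 3)) % 3)) % 3 : ℕ) : F) + _ = _
    simp only [ar9]
    rw [h2, h3, (CharP.natCast_eq_natCast F 3).2 (Nat.mod_modEq
        (a % 3 * (b % 3) + 2 * (a / 3 * (b / 3))) 3),
      (CharP.natCast_eq_natCast F 3).2 (Nat.mod_modEq (a % 3 * (b / 3) + a / 3 * (b % 3)) 3)]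
    push_cast
    have h30 : (3 : F) = 0 := by exact_mod_cast CharP.cast_eq_zero F 3
    linear_combination (((a / 3 : ℕ) : F) * ((b / 3 : ℕ) : F)) * h30 -
      (((a / 3 : ℕ) : F) * ((b / 3 : ℕ) : F)) * hi
  hneg := by
    refine ⟨by decide, ?_⟩
    have h30 : (3 : F) = 0 := by exact_mod_cast CharP.cast_eq_zero F 3
    show ((2 % 3 : ℕ) : F) + ((2 / 3 : ℕ) : F) * i = -1
    norm_num
    linear_combination h30
  h0 := by simp
  h1 := by simp
  hinj := by
    intro a b ha hb h
    have hd : ∀ x y x' y' : Fin 3, ((x.val + 3 - x'.val) * (x.val + 3 - x'.val) +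
        (y.val + 3 - y'.val) * (y.val + 3 - y'.val)) % 3 = 0 → x = x' ∧ y = y' := by decide
    have ha' : a < 9 := ha
    have hb' : b < 9 := hb
    have h30 : (3 : F) = 0 := by exact_mod_cast CharP.cast_eq_zero F 3
    obtain ⟨e1, e2⟩ := hd ⟨a % 3, by omega⟩ ⟨a / 3, by omega⟩ ⟨b % 3, by omega⟩ ⟨b / 3, by omega⟩
      (Nat.mod_eq_zero_of_dvd ((CharP.cast_eq_zero_iff F 3 _).1 (by
        simp only
        rw [Nat.cast_add, Nat.cast_mul, Nat.cast_mul, Nat.cast_sub (by omega),
          Nat.cast_sub (by omega)]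
        push_cast
        rw [h30, add_zero, add_zero]
        linear_combination ((((a % 3 : ℕ) : F) - ((b % 3 : ℕ) : F)) -
          (((a / 3 : ℕ) : F) - ((b / 3 : ℕ) : F)) * i) * h +
          (((a / 3 : ℕ) : F) - ((b / 3 : ℕ) : F)) ^ 2 * hi)))
    simp only [Fin.mk.injEq] at e1 e2
    omega
  hsurj c := by
    classical
    let f : Fin 9 → F := fun a => (((a : ℕ) % 3 : ℕ) : F) + (((a : ℕ) / 3 : ℕ) : F) * i
    have hinj : Function.Injective f := by
      intro a b h
      have hd : ∀ x y x' y' : Fin 3, ((x.val + 3 - x'.val) * (x.val + 3 - x'.val) +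
          (y.val + 3 - y'.val) * (y.val + 3 - y'.val)) % 3 = 0 → x = x' ∧ y = y' := by decide
      have h30 : (3 : F) = 0 := by exact_mod_cast CharP.cast_eq_zero F 3
      obtain ⟨e1, e2⟩ := hd ⟨a.val % 3, by omega⟩ ⟨a.val / 3, by omega⟩ ⟨b.val % 3, by omega⟩
        ⟨b.val / 3, by omega⟩ (Nat.mod_eq_zero_of_dvd ((CharP.cast_eq_zero_iff F 3 _).1 (by
          simp only
          rw [Nat.cast_add, Nat.cast_mul, Nat.cast_mul, Nat.cast_sub (by omega),
            Nat.cast_sub (by omega)]
          push_cast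
          rw [h30, add_zero, add_zero]
          simp only [f] at h
          linear_combination ((((a.val % 3 : ℕ) : F) - ((b.val % 3 : ℕ) : F)) -
            (((a.val / 3 : ℕ) : F) - ((b.val / 3 : ℕ) : F)) * i) * h +
            (((a.val / 3 : ℕ) : F) - ((b.val / 3 : ℕ) : F)) ^ 2 * hi)))
      simp only [Fin.mk.injEq] at e1 e2
      omega
    obtain ⟨a, ha⟩ := ((Fintype.bijective_iff_injective_and_card f).2
      ⟨hinj, by rw [Fintype.card_fin, hcard]⟩).2 c
    exact ⟨a, a.2, ha⟩

/-- The generators of the plus type act as flips and signs. -/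
def plusOK (A : Ar) (n : ℕ) (gens : List Op) : Bool :=
  (List.range n).all fun a => (List.range (2 ^ n)).all fun j =>
    app A (gens.getD (2 * a) []) (unitVec (2 ^ n) j) == unitVec (2 ^ n) (j ^^^ 2 ^ a) &&
      app A (gens.getD (2 * a + 1) []) (unitVec (2 ^ n) j) ==
        vscale A (if j.testBit a then A.neg 1 else 1) (unitVec (2 ^ n) j)

/-- The generators of the minus type. -/
def minusOK (A : Ar) (n : ℕ) (gens : List Op) : Bool :=
  ((List.range n).all fun a => (List.range (2 ^ n)).all fun c => (List.range 2).all fun e =>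
    app A (gens.getD (2 * a) []) (unitVec (2 ^ n * 2) (e + 2 * c)) ==
        unitVec (2 ^ n * 2) (e + 2 * (c ^^^ 2 ^ a)) &&
      app A (gens.getD (2 * a + 1) []) (unitVec (2 ^ n * 2) (e + 2 * c)) ==
        vscale A (if c.testBit a then A.neg 1 else 1) (unitVec (2 ^ n * 2) (e + 2 * c))) &&
  (List.range (2 ^ n)).all fun c =>
    app A (gens.getD (2 * n) []) (unitVec (2 ^ n * 2) (2 * c)) == unitVec (2 ^ n * 2) (1 + 2 * c) &&
    app A (gens.getD (2 * n) []) (unitVec (2 ^ n * 2) (1 + 2 * c)) ==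
      vscale A (A.neg 1) (unitVec (2 ^ n * 2) (2 * c)) &&
    app A (gens.getD (2 * n + 1) []) (unitVec (2 ^ n * 2) (2 * c)) ==
      vadd A (unitVec (2 ^ n * 2) (2 * c)) (unitVec (2 ^ n * 2) (1 + 2 * c)) &&
    app A (gens.getD (2 * n + 1) []) (unitVec (2 ^ n * 2) (1 + 2 * c)) ==
      vadd A (unitVec (2 ^ n * 2) (2 * c)) (vscale A (A.neg 1) (unitVec (2 ^ n * 2) (1 + 2 * c)))

end Pauli

namespace Frame

open Pauli Check

variable {G V : Type u} [Group G] [AddCommGroup V] [DistribMulAction G V] (fr : Frame G V)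
  [Module (ZMod 2) fr.X] {n : ℕ} (C : fr.Coord n)

/-- The base vectors attached to the index set. -/
def base (x : fr.X) (w : V) : V := C.k x • (C.m x : G) • w

theorem base_add (x y : fr.X) (w : V) :
    fr.base C x (fr.base C y w) = fr.base C (x + y) w := C.hadd x y w

/-- The first generators. -/
noncomputable def genE (y z : G) (i : ℕ) : G :=
  if h : i / 2 < n then (if i % 2 = 0 then (C.m (C.b ⟨i / 2, h⟩) : G) else C.l ⟨i / 2, h⟩)
  else if i % 2 = 0 then y else z

theorem genE_even (y z : G) {a : ℕ} (ha : a < n) : fr.genE C y z (2 * a) = C.m (C.b ⟨a, ha⟩) := by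
  have h : 2 * a / 2 = a := by omega
  simp [genE, h, ha]

theorem genE_odd (y z : G) {a : ℕ} (ha : a < n) : fr.genE C y z (2 * a + 1) = C.l ⟨a, ha⟩ := by
  have h : (2 * a + 1) / 2 = a := by omega
  simp [genE, h, ha]

theorem genE_y (y z : G) : fr.genE C y z (2 * n) = y := by
  have h : 2 * n / 2 = n := by omega
  simp [genE, h]

theorem genE_z (y z : G) : fr.genE C y z (2 * n + 1) = z := by
  have h : (2 * n + 1) / 2 = n := by omega
  simp [genE, h]

theorem β_m_m (x y : fr.X) : fr.β (C.m x) (C.m y) = 1 := by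
  refine fr.β_eq (C.m x).2 (C.m y).2 fr.hv ?_
  have h1 := C.hadd x y fr.v
  have h2 := C.hadd y x fr.v
  rw [add_comm y x, ← h1, fr.hMlin _ (C.m x).2, fr.hMlin _ (C.m y).2, smul_smul, smul_smul,
    mul_comm (C.k y)] at h2
  simp only [smul_smul] at h2
  rw [one_smul, smul_smul, smul_smul]
  exact (smul_right_injective V (mul_ne_zero (C.hk x) (C.hk y)) h2).symm

theorem β_l_m (i a : Fin n) :
    fr.β (C.l i) (C.m (C.b a)) = sgn fr.F (decide (i = a)) := by
  rw [C.hlm, C.b.repr_self, Finsupp.single_apply]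
  by_cases h : i = a
  · subst h; simp [sgn]
  · simp [sgn, h, Ne.symm h]

theorem β_m_l (i a : Fin n) :
    fr.β (C.m (C.b a)) (C.l i) = sgn fr.F (decide (i = a)) := by
  rw [fr.β_swap (fr.hLM (C.hl i)) (C.m _).2, fr.β_l_m C i a]
  cases decide (i = a) <;> simp [sgn, inv_neg]

theorem symp_gen {y z : G}
    (hmy : ∀ x, fr.β (C.m x) y = 1 ∧ fr.β (C.m x) z = 1) (hly : ∀ i, fr.β (C.l i) y = 1 ∧
      fr.β (C.l i) z = 1) (hyM : y ∈ fr.M) (hzM : z ∈ fr.M) (hzy : fr.β z y = -1)
    {i j : ℕ} (hi : i < 2 * (n + 1)) (hj : j < 2 * (n + 1)) :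
    fr.β (fr.genE C y z i) (fr.genE C y z j) = sgn fr.F (decide (mate i = j)) := by
  obtain ⟨a, rfl | rfl⟩ : ∃ a, i = 2 * a ∨ i = 2 * a + 1 := ⟨i / 2, by omega⟩
  all_goals obtain ⟨c, rfl | rfl⟩ : ∃ c, j = 2 * c ∨ j = 2 * c + 1 := ⟨j / 2, by omega⟩
  all_goals
    (try rw [show mate (2 * a) = 2 * a + 1 by simp [mate]])
    (try rw [show mate (2 * a + 1) = 2 * a by simp [mate]])
  all_goals rcases (show a < n ∨ n = a by omega) with ha | rfl
  all_goals rcases (show c < n ∨ n = c by omega) with hc | rfl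
  all_goals
    (try rw [fr.genE_even C y z ha])
    (try rw [fr.genE_odd C y z ha])
    (try rw [fr.genE_even C y z hc])
    (try rw [fr.genE_odd C y z hc])
    (try simp only [fr.genE_y C, fr.genE_z C])
  all_goals
    first
      | (rw [fr.β_m_m C, decide_eq_false (by omega)]; rfl)
      | (rw [fr.β_l_m C]; exact congrArg (sgn fr.F) (decide_eq_decide.2 (Fin.ext_iff.trans (by constructor <;> intro h <;> simp only at h ⊢ <;> omega))))
      | (rw [fr.β_m_l C]; exact congrArg (sgn fr.F) (decide_eq_decide.2 (Fin.ext_iff.trans (by constructor <;> intro h <;> simp only at h ⊢ <;> omega))))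
      | (rw [fr.β_LD (C.hl _) (fr.hLD (C.hl _)), decide_eq_false (by omega)]; rfl)
      | (rw [(hmy _).1, decide_eq_false (by omega)]; rfl)
      | (rw [(hmy _).2, decide_eq_false (by omega)]; rfl)
      | (rw [(hly _).1, decide_eq_false (by omega)]; rfl)
      | (rw [(hly _).2, decide_eq_false (by omega)]; rfl)
      | (rw [fr.β_swap (C.m _).2 hyM, (hmy _).1, inv_one, decide_eq_false (by omega)]; rfl)
      | (rw [fr.β_swap (C.m _).2 hzM, (hmy _).2, inv_one, decide_eq_false (by omega)]; rfl)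
      | (rw [fr.β_swap (fr.hLM (C.hl _)) hyM, (hly _).1, inv_one, decide_eq_false (by omega)]; rfl)
      | (rw [fr.β_swap (fr.hLM (C.hl _)) hzM, (hly _).2, inv_one, decide_eq_false (by omega)]; rfl)
      | (rw [fr.β_comm hyM hyM rfl]; simp [sgn]; done)
      | (rw [fr.β_comm hzM hzM rfl]; simp [sgn]; done)
      | (rw [fr.β_comm hyM hyM rfl, decide_eq_false (by omega)]; rfl)
      | (rw [fr.β_comm hzM hzM rfl, decide_eq_false (by omega)]; rfl)
      | (rw [hzy]; simp [sgn]; done)
      | (rw [fr.β_swap hzM hyM, hzy]; simp [sgn, inv_neg]; done)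
      | (rw [hzy, decide_eq_true (by omega)]; rfl)
      | (rw [fr.β_swap hzM hyM, hzy, decide_eq_true (by omega)]; simp [sgn, inv_neg])

theorem symp_plus {i j : ℕ} (hi : i < 2 * n) (hj : j < 2 * n) :
    fr.β (fr.genE C 1 1 i) (fr.genE C 1 1 j) = sgn fr.F (decide (mate i = j)) := by
  obtain ⟨a, rfl | rfl⟩ : ∃ a, i = 2 * a ∨ i = 2 * a + 1 := ⟨i / 2, by omega⟩
  all_goals obtain ⟨c, rfl | rfl⟩ : ∃ c, j = 2 * c ∨ j = 2 * c + 1 := ⟨j / 2, by omega⟩
  all_goals
    (try rw [show mate (2 * a) = 2 * a + 1 by simp [mate]])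
    (try rw [show mate (2 * a + 1) = 2 * a by simp [mate]])
  all_goals have ha : a < n := by omega
  all_goals have hc : c < n := by omega
  all_goals
    (try rw [fr.genE_even C 1 1 ha])
    (try rw [fr.genE_odd C 1 1 ha])
    (try rw [fr.genE_even C 1 1 hc])
    (try rw [fr.genE_odd C 1 1 hc])
  all_goals
    first
      | (rw [fr.β_m_m C, decide_eq_false (by omega)]; rfl)
      | (rw [fr.β_l_m C]; exact congrArg (sgn fr.F) (decide_eq_decide.2 (Fin.ext_iff.trans (by constructor <;> intro h <;> simp only at h ⊢ <;> omega))))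
      | (rw [fr.β_m_l C]; exact congrArg (sgn fr.F) (decide_eq_decide.2 (Fin.ext_iff.trans (by constructor <;> intro h <;> simp only at h ⊢ <;> omega))))
      | (rw [fr.β_LD (C.hl _) (fr.hLD (C.hl _)), decide_eq_false (by omega)]; rfl)

/-- An element of the line stabilizer commuting with the first generators is central. -/
theorem central_of_gens {a : G} (ha : a ∈ fr.L) (h : ∀ i, fr.β a (C.m (C.b i)) = 1) : a ∈ fr.U := by
  have hall : ∀ x, fr.β a (C.m x) = 1 := by
    intro x
    have hx : x ∈ Submodule.span (ZMod 2) (Set.range C.b) := C.b.mem_span x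
    induction hx using Submodule.span_induction with
    | mem y hy => obtain ⟨i, rfl⟩ := hy; exact h i
    | zero => rw [C.hm0]; exact fr.β_comm (fr.hLM ha) fr.M.one_mem (by simp)
    | add y y' _ _ h1 h2 =>
      rw [fr.β_cl ha (show fr.cl (C.m (y + y')) = fr.cl (C.m y * C.m y') by
        rw [fr.cl_mul, C.hcl, C.hcl, C.hcl]), Subgroup.coe_mul,
        fr.β_right (fr.hLM ha) (C.m y).2 (C.m y').2, h1, h2, one_mul]
    | smul c y _ h1 =>
      have hc : ∀ c : ZMod 2, c = 0 ∨ c = 1 := by decide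
      rcases hc c with rfl | rfl
      · rw [zero_smul, C.hm0]; exact fr.β_comm (fr.hLM ha) fr.M.one_mem (by simp)
      · rwa [one_smul]
  refine fr.hlinCM a (fr.hMlin a (fr.hLM ha)) fun w hw => fr.comm_of_β (fr.hLM ha) hw ?_
  rw [← fr.β_cl ha (a := C.m (fr.cl ⟨w, hw⟩)) (b := ⟨w, hw⟩) (C.hcl _)]
  exact hall _

theorem mem_D_of_gens (hne : (-1 : fr.F) ≠ 1) {a : G} (ha : a ∈ fr.M)
    (h : ∀ i, fr.β a (C.l i) = 1) : a ∈ fr.D := by
  have hx : fr.cl ⟨a, ha⟩ = 0 := C.b.repr.injective (Finsupp.ext fun i => by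
    rw [map_zero, Finsupp.zero_apply]
    by_contra hn
    have h1 := C.hlm i (fr.cl ⟨a, ha⟩)
    rw [if_neg hn, fr.β_cl (C.hl i) (b := ⟨a, ha⟩) (C.hcl _),
      fr.β_swap ha (fr.hLM (C.hl i)), h i, inv_one] at h1
    exact hne h1.symm)
  exact (fr.cl_eq_zero _).1 hx

theorem ker_of_base [Finite G] {g : G} (hlin : fr.IsLin g) (hg : g • fr.v = fr.v)
    (hy : g • fr.y0 • fr.v = fr.y0 • fr.v) (h : ∀ x, g • fr.base C x fr.v = fr.base C x fr.v) :
    g = 1 := by
  refine fr.kill hlin hg hy ∅ (by rw [Finset.card_empty, mul_zero]; exact Nat.card_pos) fun x _ => ?_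
  have h1 := h x
  rw [base, hlin] at h1
  have h2 := fr.fix_mul_D hlin hg hy (C.m x).2
    ((fr.cl_eq (C.m x) (fr.sec x)).1 ((C.hcl x).trans (fr.cl_sec x).symm))
    (smul_right_injective V (C.hk x) h1)
  rwa [mul_inv_cancel_left] at h2

theorem l_base (i : Fin n) (c : ℕ) {w : V} (hw : fr.Ev w) :
    C.l i • fr.base C (Cert.emb C.b c) w =
      (fr.χ (C.l i) * if c.testBit i then -1 else 1) • fr.base C (Cert.emb C.b c) w := by
  rw [base, fr.hMlin _ (fr.hLM (C.hl i)), fr.eig (C.m _).2 hw (C.hl i), C.hlm, Cert.repr_emb,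
    smul_smul, smul_smul]
  congr 1
  cases c.testBit i <;> simp [mul_comm]

theorem m_base (a : Fin n) (c : ℕ) (w : V) :
    C.k (C.b a) • (C.m (C.b a) : G) • fr.base C (Cert.emb C.b c) w =
      fr.base C (Cert.emb C.b (c ^^^ 2 ^ (a : ℕ))) w := by
  rw [Cert.emb_xor, Cert.emb_pow, add_comm]
  exact fr.base_add C _ _ w

/-- The system of the plus type. -/
noncomputable def plusSys [Finite G] (hDL : fr.D ≤ fr.L) (hne : (-1 : fr.F) ≠ 1) (A : Ar)
    (S : Code A fr.F) (gens els : List Op) (hgens : plusOK A n gens = true)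
    (hok : sysOK A (2 ^ n) n gens els = true) : Sys fr A (2 ^ n) n where
  S := S
  lc := Fintype.linearCombination fr.F fun j => fr.base C (Cert.emb C.b j) fr.v
  hlc := by
    classical
    haveI : Fintype fr.X := Module.fintypeOfFintype C.b
    refine (injective_iff_map_eq_zero _).2 fun f hf => ?_
    let u : fr.X → V := fun x => (f ⟨Cert.code C.b x, Cert.code_lt _ _⟩ * C.k x) • fr.v
    have h := fr.indep C.m C.hcl u (fun x => fr.ev_smul fr.ev_v) (by
      rw [← hf, Fintype.linearCombination_apply]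
      refine (Finset.sum_nbij' (fun j : Fin (2 ^ n) => Cert.emb C.b (j : ℕ))
        (fun x => ⟨Cert.code C.b x, Cert.code_lt _ _⟩) (by simp) (by simp)
        (fun j _ => Fin.ext (Cert.code_emb C.b j.2)) (fun x _ => Cert.emb_code C.b x)
        fun j _ => ?_).symm
      simp only [u, base, fr.hMlin _ (C.m _).2, smul_smul]
      congr 2
      exact congrArg f (Fin.ext (Cert.code_emb C.b j.2).symm))
    funext j
    have hx := h (Cert.emb C.b (j : ℕ))
    simp only [u, smul_eq_zero, mul_eq_zero, fr.hv, C.hk, or_false] at hx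
    exact (congrArg f (Fin.ext (Cert.code_emb C.b j.2).symm)).trans hx
  hD := Nat.two_pow_pos n
  e := fr.genE C 1 1
  gens := gens
  els := els
  heM i hi := by
    obtain ⟨a, rfl | rfl⟩ : ∃ a, i = 2 * a ∨ i = 2 * a + 1 := ⟨i / 2, by omega⟩
    · rw [fr.genE_even C 1 1 (show a < n by omega)]; exact (C.m _).2
    · rw [fr.genE_odd C 1 1 (show a < n by omega)]; exact fr.hLM (C.hl _)
  hsymp i j hi hj := fr.symp_plus C hi hj
  hcomplete a ha h := fr.central_of_gens C
    (hDL (fr.mem_D_of_gens C hne ha fun i => by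
      have := h (2 * i + 1) (by omega)
      rwa [fr.genE_odd C 1 1 i.2] at this))
    fun i => by
      have := h (2 * i) (by omega)
      rwa [fr.genE_even C 1 1 i.2] at this
  hker g hlin h := by
    have hb : ∀ x, g • fr.base C x fr.v = fr.base C x fr.v := fun x => by
      have := h ⟨Cert.code C.b x, Cert.code_lt _ _⟩
      simpa [Cert.emb_code] using this
    have hg : g • fr.v = fr.v := by simpa [base, C.hk0, C.hm0] using hb 0
    refine fr.ker_of_base C hlin hg ?_ hb
    rw [fr.hχ _ (hDL fr.hy0), hlin, hg]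
  hgen i hi := by
    simp only [plusOK, List.all_eq_true, List.mem_range, Bool.and_eq_true, beq_iff_eq] at hgens
    obtain ⟨a, rfl | rfl⟩ : ∃ a, i = 2 * a ∨ i = 2 * a + 1 := ⟨i / 2, by omega⟩
    · have ha : a < n := by omega
      refine ⟨C.k (C.b ⟨a, ha⟩), C.hk _, fun j => ?_⟩
      have hlt : (j : ℕ) ^^^ 2 ^ a < 2 ^ n :=
        Nat.xor_lt_two_pow j.2 (Nat.pow_lt_pow_right one_lt_two ha)
      rw [(hgens a ha j j.2).1, coef_unit S ⟨_, hlt⟩, Fintype.linearCombination_apply_single,
        Fintype.linearCombination_apply_single, one_smul, one_smul, fr.genE_even C 1 1 ha]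
      exact (fr.m_base C ⟨a, ha⟩ j fr.v).symm
    · have ha : a < n := by omega
      refine ⟨(fr.χ (C.l ⟨a, ha⟩))⁻¹, inv_ne_zero (fr.χ_ne (C.hl _)), fun j => ?_⟩
      have hc : (if (j : ℕ).testBit a then A.neg 1 else 1) < A.q := by
        split_ifs
        exacts [S.hneg.1, S.hq]
      rw [(hgens a ha j j.2).2, coef_vscale S hc (good_unit S j), coef_unit, map_smul,
        Fintype.linearCombination_apply_single, one_smul, fr.genE_odd C 1 1 ha,
        fr.l_base C ⟨a, ha⟩ j fr.ev_v, smul_smul, inv_mul_cancel_left₀ (fr.χ_ne (C.hl _))]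
      congr 1
      cases (j : ℕ).testBit a <;> simp [S.hneg.2, S.h1]
  hok := hok

/-- The system of the minus type over the field of three elements. -/
noncomputable def minusSys [Finite G] (hyL : fr.y0 ∉ fr.L) (hne : (-1 : fr.F) ≠ 1)
    (hy2 : fr.ψ (fr.y0 ^ 2) = -1) (hyU : fr.y0 ^ 2 ∈ fr.U) {σ a : fr.F} (hσ : σ * σ = 1)
    (ha : a * a = 1) (hzv : C.z • fr.v = a • fr.v + (a * σ) • fr.y0 • fr.v) (A : Ar)
    (S : Code A fr.F) (gens els : List Op) (hgens : minusOK A n gens = true)
    (hok : sysOK A (2 ^ n * 2) (n + 1) gens els = true) : Sys fr A (2 ^ n * 2) (n + 1) where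
  S := S
  lc := Fintype.linearCombination fr.F fun j => fr.base C (Cert.emb C.b ((finProdFinEquiv.symm j).1 : ℕ))
    (if (finProdFinEquiv.symm j).2 = 0 then fr.v else σ • fr.y0 • fr.v)
  hlc := by
    classical
    haveI : Fintype fr.X := Module.fintypeOfFintype C.b
    have hσ0 : σ ≠ 0 := fun e => by simp [e] at hσ
    refine (injective_iff_map_eq_zero _).2 fun f hf => ?_
    let co : fr.X → Fin 2 → fr.F := fun x e =>
      f (finProdFinEquiv (⟨Cert.code C.b x, Cert.code_lt _ _⟩, e))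
    let u : fr.X → V := fun x => (C.k x * co x 0) • fr.v + (C.k x * (co x 1 * σ)) • fr.y0 • fr.v
    have hev := fr.ev_D fr.hy0 fr.ev_v
    have h := fr.indep C.m C.hcl u (fun x => fr.ev_add (fr.ev_smul fr.ev_v) (fr.ev_smul hev)) (by
      rw [← hf, Fintype.linearCombination_apply,
        ← (finProdFinEquiv (m := 2 ^ n) (n := 2)).sum_comp, Fintype.sum_prod_type]
      refine (Finset.sum_nbij' (fun j : Fin (2 ^ n) => Cert.emb C.b (j : ℕ))
        (fun x => ⟨Cert.code C.b x, Cert.code_lt _ _⟩) (by simp) (by simp)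
        (fun j _ => Fin.ext (Cert.code_emb C.b j.2)) (fun x _ => Cert.emb_code C.b x)
        fun j _ => ?_).symm
      rw [Fin.sum_univ_two]
      simp only [u, co, base, Equiv.symm_apply_apply, smul_add, fr.hMlin _ (C.m _).2, smul_smul,
        if_true, show ((1 : Fin 2) = 0) = False from eq_false (by decide), if_false]
      have e : (⟨Cert.code C.b (Cert.emb C.b (j : ℕ)), Cert.code_lt _ _⟩ : Fin (2 ^ n)) = j :=
        Fin.ext (Cert.code_emb C.b j.2)
      rw [e]
      congr 2 <;> ring)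
    funext j
    obtain ⟨⟨c, e⟩, rfl⟩ := finProdFinEquiv.surjective j
    have hx := h (Cert.emb C.b (c : ℕ))
    obtain ⟨h1, h2⟩ := fr.indep_y0 hyL hx
    simp only [co, mul_eq_zero, C.hk, false_or, hσ0, or_false] at h1 h2
    have ec : (⟨Cert.code C.b (Cert.emb C.b (c : ℕ)), Cert.code_lt _ _⟩ : Fin (2 ^ n)) = c :=
      Fin.ext (Cert.code_emb C.b c.2)
    rw [ec] at h1 h2
    rcases (show e = 0 ∨ e = 1 by omega) with rfl | rfl
    exacts [h1, h2]
  hD := Nat.mul_pos (Nat.two_pow_pos n) Nat.two_pos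
  e := fr.genE C fr.y0 C.z
  gens := gens
  els := els
  heM i hi := by
    obtain ⟨c, rfl | rfl⟩ : ∃ c, i = 2 * c ∨ i = 2 * c + 1 := ⟨i / 2, by omega⟩
    · rcases (show c < n ∨ n = c by omega) with hc | rfl
      · rw [fr.genE_even C _ _ hc]; exact (C.m _).2
      · rw [fr.genE_y C]; exact fr.hDM fr.hy0
    · rcases (show c < n ∨ n = c by omega) with hc | rfl
      · rw [fr.genE_odd C _ _ hc]; exact fr.hLM (C.hl _)
      · rw [fr.genE_z C]; exact fr.hDM (C.hz hyL).1
  hsymp i j hi hj := fr.symp_gen C (C.hmy hyL)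
    (fun i => ⟨fr.β_LD (C.hl i) fr.hy0, fr.β_LD (C.hl i) (C.hz hyL).1⟩) (fr.hDM fr.hy0)
    (fr.hDM (C.hz hyL).1)
    (fr.β_eq (fr.hDM (C.hz hyL).1) (fr.hDM fr.hy0) fr.hv
      (by rw [(C.hz hyL).2.2.1, neg_one_smul])) hi hj
  hcomplete d hd h := by
    have hyM := fr.hDM fr.hy0
    obtain ⟨hzD, -, hzy, hgen⟩ := C.hz hyL
    have hzM := fr.hDM hzD
    have hzyβ : fr.β C.z fr.y0 = -1 := fr.β_eq hzM hyM fr.hv (by rw [hzy, neg_one_smul])
    have hyzβ : fr.β fr.y0 C.z = -1 := by rw [fr.β_swap hzM hyM, hzyβ, inv_neg, inv_one]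
    have hdD := fr.mem_D_of_gens C hne hd fun i => by
      have := h (2 * i + 1) (by omega)
      rwa [fr.genE_odd C _ _ i.2] at this
    have h1 := h (2 * n) (by omega)
    have h2 := h (2 * n + 1) (by omega)
    rw [fr.genE_y C] at h1
    rw [fr.genE_z C] at h2
    obtain ⟨i, j, t, ht, rfl⟩ := hgen d hdD
    have hi : (if i then fr.y0 else 1) ∈ fr.M := by split_ifs; exacts [hyM, fr.M.one_mem]
    have hj : (if j then C.z else 1) ∈ fr.M := by split_ifs; exacts [hzM, fr.M.one_mem]
    have ht' := fr.hLM ht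
    rw [fr.β_left (fr.M.mul_mem hi hj) ht' hyM, fr.β_left hi hj hyM, fr.β_LD ht fr.hy0,
      mul_one] at h1
    rw [fr.β_left (fr.M.mul_mem hi hj) ht' hzM, fr.β_left hi hj hzM, fr.β_LD ht hzD, mul_one] at h2
    have hb1 : ∀ w ∈ fr.M, fr.β (1 : G) w = 1 := fun w hw => fr.β_U_left fr.U.one_mem hw
    have hy1 : fr.β fr.y0 fr.y0 = 1 := fr.β_comm hyM hyM rfl
    have hz1 : fr.β C.z C.z = 1 := fr.β_comm hzM hzM rfl
    have hL : (if i then fr.y0 else 1) * (if j then C.z else 1) * t ∈ fr.L := by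
      cases i <;> cases j <;> simp [hb1 _ hyM, hb1 _ hzM, hy1, hz1, hzyβ, hyzβ, hne] at h1 h2 ⊢
      exact ht
    exact fr.central_of_gens C hL fun a => by
      have := h (2 * a) (by omega)
      rwa [fr.genE_even C _ _ a.2] at this
  hker g hlin h := by
    have hb : ∀ (x : fr.X) (e : Fin 2), g • fr.base C x (if e = 0 then fr.v else σ • fr.y0 • fr.v) =
        fr.base C x (if e = 0 then fr.v else σ • fr.y0 • fr.v) := fun x e => by
      have := h (finProdFinEquiv (⟨Cert.code C.b x, Cert.code_lt _ _⟩, e))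
      rw [Fintype.linearCombination_apply_single, one_smul, Equiv.symm_apply_apply] at this
      simp only [Cert.emb_code] at this
      exact this
    have hb0 : ∀ w, fr.base C 0 w = w := fun w => by simp [base, C.hk0, C.hm0]
    have hg : g • fr.v = fr.v := by simpa [hb0] using hb 0 0
    refine fr.ker_of_base C hlin hg ?_ fun x => by simpa using hb x 0
    have := hb 0 1
    simp only [hb0, show ((1 : Fin 2) = 0) = False from eq_false (by decide), if_false] at this
    rw [hlin] at this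
    exact smul_right_injective V (fun e : σ = 0 => by simp [e] at hσ) this
  hgen i hi := by
    simp only [minusOK, List.all_eq_true, List.mem_range, Bool.and_eq_true, beq_iff_eq] at hgens
    obtain ⟨hg1, hg2⟩ := hgens
    have hval : ∀ (c : Fin (2 ^ n)) (e : Fin 2),
        (finProdFinEquiv (c, e) : ℕ) = e + 2 * c := fun c e => rfl
    obtain ⟨c, rfl | rfl⟩ : ∃ c, i = 2 * c ∨ i = 2 * c + 1 := ⟨i / 2, by omega⟩
    · rcases (show c < n ∨ n = c by omega) with hc | rfl
      · refine ⟨C.k (C.b ⟨c, hc⟩), C.hk _, fun j => ?_⟩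
        obtain ⟨⟨x, e⟩, rfl⟩ := finProdFinEquiv.surjective j
        have hlt : (x : ℕ) ^^^ 2 ^ c < 2 ^ n :=
          Nat.xor_lt_two_pow x.2 (Nat.pow_lt_pow_right one_lt_two hc)
        rw [hval, (hg1 c hc x x.2 e e.2).1,
          show (e : ℕ) + 2 * ((x : ℕ) ^^^ 2 ^ c) = (finProdFinEquiv (⟨_, hlt⟩, e) : ℕ) from rfl,
          coef_unit S, Fintype.linearCombination_apply_single,
          Fintype.linearCombination_apply_single, one_smul, one_smul, fr.genE_even C _ _ hc,
          Equiv.symm_apply_apply, Equiv.symm_apply_apply]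
        exact (fr.m_base C ⟨c, hc⟩ x _).symm
      · refine ⟨σ, fun e => by simp [e] at hσ, fun j => ?_⟩
        obtain ⟨⟨x, e⟩, rfl⟩ := finProdFinEquiv.surjective j
        obtain ⟨⟨⟨h0, h1⟩, -⟩, -⟩ := hg2 x x.2
        rw [fr.genE_y C, Fintype.linearCombination_apply_single, one_smul, Equiv.symm_apply_apply,
          hval]
        have hcomm : ∀ w : V, fr.y0 • fr.base C (Cert.emb C.b (x : ℕ)) w =
            fr.base C (Cert.emb C.b (x : ℕ)) (fr.y0 • w) := fun w => by
          rw [base, base, fr.hMlin _ (fr.hDM fr.hy0), fr.smul_comm' (fr.hDM fr.hy0) (C.m _).2,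
            fr.β_swap (C.m _).2 (fr.hDM fr.hy0), (C.hmy hyL _).1, inv_one, one_smul]
        have hbs : ∀ (k : fr.F) (w : V), fr.base C (Cert.emb C.b (x : ℕ)) (k • w) =
            k • fr.base C (Cert.emb C.b (x : ℕ)) w := fun k w => by
          rw [base, base, fr.hMlin _ (C.m _).2, smul_comm]
        rw [hcomm, ← hbs]
        rcases (show e = 0 ∨ e = 1 by omega) with rfl | rfl
        · rw [Fin.val_zero, zero_add, h0,
            show (1 : ℕ) + 2 * (x : ℕ) = (finProdFinEquiv (x, (1 : Fin 2)) : ℕ) from rfl,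
            coef_unit S, Fintype.linearCombination_apply_single, one_smul, Equiv.symm_apply_apply]
          simp
        · rw [Fin.val_one, h1, coef_vscale S S.hneg.1 (good_unit S _),
            show 2 * (x : ℕ) = (finProdFinEquiv (x, (0 : Fin 2)) : ℕ) by simp [hval],
            coef_unit S, map_smul, Fintype.linearCombination_apply_single, one_smul,
            Equiv.symm_apply_apply, S.hneg.2]
          simp only [show ((1 : Fin 2) = 0) = False from eq_false (by decide), if_false, if_true]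
          rw [← hbs, fr.hMlin _ (fr.hDM fr.hy0), ← mul_smul fr.y0, ← sq, fr.hψ _ hyU, hy2,
            smul_smul, smul_smul, hσ, one_mul]
    · rcases (show c < n ∨ n = c by omega) with hc | rfl
      · refine ⟨(fr.χ (C.l ⟨c, hc⟩))⁻¹, inv_ne_zero (fr.χ_ne (C.hl _)), fun j => ?_⟩
        obtain ⟨⟨x, e⟩, rfl⟩ := finProdFinEquiv.surjective j
        have hsc : (if (x : ℕ).testBit c then A.neg 1 else 1) < A.q := by
          split_ifs
          exacts [S.hneg.1, S.hq]
        have hw : fr.Ev (if e = 0 then fr.v else σ • fr.y0 • fr.v) := by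
          split_ifs
          exacts [fr.ev_v, fr.ev_smul (fr.ev_D fr.hy0 fr.ev_v)]
        rw [hval, (hg1 c hc x x.2 e e.2).2, coef_vscale S hsc (good_unit S _), ← hval,
          coef_unit, map_smul, Fintype.linearCombination_apply_single, one_smul,
          Equiv.symm_apply_apply, fr.genE_odd C _ _ hc, fr.l_base C ⟨c, hc⟩ x hw, smul_smul,
          inv_mul_cancel_left₀ (fr.χ_ne (C.hl _))]
        congr 1
        cases (x : ℕ).testBit c <;> simp [S.hneg.2, S.h1]
      · refine ⟨a, fun e => by simp [e] at ha, fun j => ?_⟩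
        obtain ⟨⟨x, e⟩, rfl⟩ := finProdFinEquiv.surjective j
        obtain ⟨⟨⟨-, -⟩, h2⟩, h3⟩ := hg2 x x.2
        obtain ⟨hzD, -, hzy, -⟩ := C.hz hyL
        rw [fr.genE_z C, Fintype.linearCombination_apply_single, one_smul, Equiv.symm_apply_apply,
          hval]
        have hcomm : ∀ w : V, C.z • fr.base C (Cert.emb C.b (x : ℕ)) w =
            fr.base C (Cert.emb C.b (x : ℕ)) (C.z • w) := fun w => by
          rw [base, base, fr.hMlin _ (fr.hDM hzD), fr.smul_comm' (fr.hDM hzD) (C.m _).2,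
            fr.β_swap (C.m _).2 (fr.hDM hzD), (C.hmy hyL _).2, inv_one, one_smul]
        have hbs : ∀ (k : fr.F) (w : V), fr.base C (Cert.emb C.b (x : ℕ)) (k • w) =
            k • fr.base C (Cert.emb C.b (x : ℕ)) w := fun k w => by
          rw [base, base, fr.hMlin _ (C.m _).2, smul_comm]
        have hba : ∀ w w' : V, fr.base C (Cert.emb C.b (x : ℕ)) (w + w') =
            fr.base C (Cert.emb C.b (x : ℕ)) w + fr.base C (Cert.emb C.b (x : ℕ)) w' := fun w w' => by
          rw [base, base, base, smul_add, smul_add]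
        rw [hcomm, ← hbs]
        have e0 : 2 * (x : ℕ) = (finProdFinEquiv (x, (0 : Fin 2)) : ℕ) := by simp [hval]
        have e1 : 1 + 2 * (x : ℕ) = (finProdFinEquiv (x, (1 : Fin 2)) : ℕ) := rfl
        rcases (show e = 0 ∨ e = 1 by omega) with rfl | rfl
        · rw [Fin.val_zero, zero_add, h2, coef_vadd S (good_unit S _) (good_unit S _), e1, e0,
            coef_unit S, coef_unit S, map_add, Fintype.linearCombination_apply_single,
            Fintype.linearCombination_apply_single, one_smul, one_smul, Equiv.symm_apply_apply,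
            Equiv.symm_apply_apply]
          simp only [show ((1 : Fin 2) = 0) = False from eq_false (by decide), if_false, if_true]
          rw [hzv, smul_add, smul_smul, smul_smul, ← mul_assoc, ha, one_mul, one_smul, hba]
        · rw [Fin.val_one, h3, coef_vadd S (good_unit S _) (good_vscale S S.hneg.1 (good_unit S _)),
            coef_vscale S S.hneg.1 (good_unit S _), e1, e0,
            coef_unit S, coef_unit S, map_add, map_smul, Fintype.linearCombination_apply_single,
            Fintype.linearCombination_apply_single, one_smul, one_smul, Equiv.symm_apply_apply,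
            Equiv.symm_apply_apply, S.hneg.2]
          simp only [show ((1 : Fin 2) = 0) = False from eq_false (by decide), if_false, if_true]
          rw [← hbs, ← hba]
          congr 1
          rw [fr.hMlin _ (fr.hDM hzD), hzy, hzv, smul_add fr.y0, fr.hMlin _ (fr.hDM fr.hy0),
            fr.hMlin _ (fr.hDM fr.hy0), ← mul_smul fr.y0 fr.y0, ← sq, fr.hψ _ hyU, hy2, smul_neg,
            smul_neg, smul_add, smul_add, smul_smul, smul_smul, smul_smul, smul_smul, smul_smul,
            show a * σ * (a * σ) = 1 by linear_combination (σ * σ) * ha + hσ,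
            show a * σ * a = σ by linear_combination σ * ha, one_smul, neg_one_smul, neg_mul,
            one_mul, neg_smul, neg_add_rev, neg_neg]
  hok := hok

end Frame

end CfsgLib.Perm.CoprimeBase
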