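import Cfsg.Agent.Lib.Perm.CoprimeBase.Generic

/-!
# Index sets of order three and nine

The cube of the coefficient times the cube of the representative is an invariant of a component.
-/

namespace CfsgLib.Perm.CoprimeBase

universe u

open CfsgLib.Perm.OddBase

namespace Frame

variable {G V : Type u} [Group G] [Finite G] [AddCommGroup V] [Finite V] [DistribMulAction G V]
  (fr : Frame G V)

/-- The invariant. -/
theorem cube_invariant {g : G} (hlin : fr.IsLin g) (hg : g • fr.v = fr.v) {s s' : G}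
    (hs : s ∈ fr.M) (hs' : s' ∈ fr.M) (hsU : s ^ 3 ∈ fr.U) (hsU' : s' ^ 3 ∈ fr.U)
    (hδ : s'⁻¹ * (g * s * g⁻¹) ∈ fr.D) {c c' : fr.F} (hc : c ≠ 0)
    (h : (s'⁻¹ * (g * s * g⁻¹)) • g • c • fr.v = c' • fr.v) :
    c ^ 3 * fr.ψ (s ^ 3) = c' ^ 3 * fr.ψ (s' ^ 3) := by
  set δ := s'⁻¹ * (g * s * g⁻¹)
  have hδM := fr.hDM hδ
  rw [hlin, hg, fr.hMlin δ hδM] at h
  have hv1 : δ • fr.v = (c⁻¹ * c') • fr.v := by
    calc δ • fr.v = c⁻¹ • c • δ • fr.v := (inv_smul_smul₀ hc _).symm
      _ = (c⁻¹ * c') • fr.v := by rw [h, smul_smul]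
  have hδL : δ ∈ fr.L := (fr.hL δ).2 ⟨hδM, _, hv1⟩
  set μ := c⁻¹ * c'
  have hβ : fr.β δ s' ^ 3 = 1 := by
    rw [pow_succ, pow_two, ← fr.β_right hδM hs' hs', ← fr.β_right hδM (fr.M.mul_mem hs' hs') hs',
      show s' * s' * s' = s' ^ 3 by rw [pow_succ, pow_two]]
    exact fr.β_LD hδL (fr.hUD hsU')
  have hpow : ∀ k : ℕ, (s' * δ) ^ k • fr.v = (μ ^ k * fr.β δ s' ^ k.choose 2) • s' ^ k • fr.v := by
    intro k
    induction k with
    | zero => simp
    | succ k ih =>
      have e : δ • s' ^ k • fr.v = (fr.β δ s' ^ k * μ) • s' ^ k • fr.v := by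
        have hk : fr.β δ (s' ^ k) = fr.β δ s' ^ k := by
          clear ih
          induction k with
          | zero => rw [pow_zero, pow_zero]; exact fr.β_comm hδM fr.M.one_mem (by simp)
          | succ k ihk => rw [pow_succ, fr.β_right hδM (fr.M.pow_mem hs' k) hs', ihk, ← pow_succ]
        rw [fr.smul_comm' hδM (fr.M.pow_mem hs' k), hv1, fr.hMlin _ (fr.M.pow_mem hs' k), smul_smul,
          hk]
      rw [pow_succ', mul_smul, ih, fr.hMlin _ (fr.M.mul_mem hs' hδM), mul_smul s' δ, e, fr.hMlin _ hs',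
        smul_smul, smul_smul s', ← pow_succ', Nat.choose_succ_succ', Nat.choose_one_right]
      congr 1
      ring
  have h3 := hpow 3
  rw [show (3 : ℕ).choose 2 = 3 from rfl, hβ, mul_one,
    show s' * δ = g * s * g⁻¹ from mul_inv_cancel_left _ _,
    show (g * s * g⁻¹) ^ 3 = g * s ^ 3 * g⁻¹ by rw [← MulAut.conj_apply, ← map_pow]; rfl,
    mul_smul, mul_smul, fr.g_inv hg, fr.hψ _ hsU, hlin, hg, fr.hψ _ hsU', smul_smul] at h3
  have h4 : c' = c * μ := by rw [← mul_assoc, mul_inv_cancel₀ hc, one_mul]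
  rw [h4, fr.scal fr.hv h3]
  ring

/-- Index sets of order three and nine. -/
theorem hasPair_three [Nontrivial V] {p : ℕ} [Fact p.Prime] (hV : ∀ x : V, p • x = 0) (h2 : p ≠ 2)
    (h39 : Nat.card fr.X = 3 ∨ Nat.card fr.X = 9) : HasPair G V := by
  classical
  haveI : Fact (Nat.Prime 3) := ⟨Nat.prime_three⟩
  haveI := fr.charP hV
  have h3 : ∀ x : fr.X, 3 • x = 0 := by
    rcases h39 with h | h
    · exact elementary_of_card fr.sqFree Nat.prime_three (k := 1) (h.trans (pow_one 3).symm)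
    · exact elementary_of_card fr.sqFree Nat.prime_three (k := 2) (h.trans (by norm_num))
  obtain ⟨hmod, n, hn, ⟨b⟩⟩ := exists_basis (q := 3) h3
  letI := hmod
  haveI : Fintype fr.X := Fintype.ofFinite _
  have hn12 : n = 1 ∧ Nat.card fr.X = 3 ∨ n = 2 ∧ Nat.card fr.X = 9 := by
    rcases h39 with h | h
    · exact Or.inl ⟨(Nat.pow_right_injective (by norm_num : 2 ≤ 3)
        (hn.symm.trans (h.trans (pow_one 3).symm)) : n = 1), h⟩
    · exact Or.inr ⟨(Nat.pow_right_injective (by norm_num : 2 ≤ 3)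
        (hn.symm.trans (h.trans (by norm_num : 9 = 3 ^ 2))) : n = 2), h⟩
  choose s hs hsU using fun x : fr.X => fr.exists_sec Nat.prime_three (h3 x)
  let s' : fr.X → fr.M := fun x => if x = 0 then 1 else s x
  have hs' : ∀ x, fr.cl (s' x) = x := fun x => by
    simp only [s']; split_ifs with h
    · rw [h]; exact fr.cl_one
    · exact hs x
  have hsU' : ∀ x, (s' x : G) ^ 3 ∈ fr.U := fun x => by
    simp only [s']; split_ifs with h
    · rw [Subgroup.coe_one, one_pow]; exact fr.U.one_mem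
    · exact hsU x
  -- a cube root of unity and an element which is not one
  obtain ⟨γ, hγ0, hγ⟩ : ∃ γ : fr.F, γ ≠ 0 ∧ γ ^ 3 ≠ 1 := by
    let a := b ⟨0, by omega⟩
    obtain ⟨l, hl, hne⟩ := fr.separates (show a ≠ 0 from b.ne_zero _)
    set ζ := fr.β l (fr.sec a) / fr.β l (fr.sec 0)
    have hz0 : fr.β l (fr.sec 0) = 1 := fr.β_LD hl (by rw [← fr.cl_eq_zero, fr.cl_sec])
    have hz : fr.β l (fr.sec a) ^ 3 = 1 := by
      have hM := fr.hLM hl
      rw [pow_succ, pow_two, ← fr.β_right hM (fr.sec a).2 (fr.sec a).2,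
        ← fr.β_right hM (fr.M.mul_mem (fr.sec a).2 (fr.sec a).2) (fr.sec a).2]
      refine fr.β_LD hl ?_
      have e : fr.cl (fr.sec a * fr.sec a * fr.sec a) = 0 := by
        rw [fr.cl_mul, fr.cl_mul, fr.cl_sec, ← h3 a, succ_nsmul, two_nsmul]
      exact (fr.cl_eq_zero _).1 e
    rw [hz0] at hne
    by_contra hall
    push Not at hall
    set ω := fr.β l (fr.sec a)
    have h1 := hall (-1) (by simp)
    have hm1 : (-1 : fr.F) ^ 3 = -1 := by ring
    rw [hm1] at h1
    haveI : CharP fr.F p := inferInstance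
    have h20 : ((2 : ℕ) : fr.F) = 0 := by push_cast; linear_combination -h1
    rw [CharP.cast_eq_zero_iff fr.F p] at h20
    exact h2 ((Nat.prime_dvd_prime_iff_eq Fact.out Nat.prime_two).1 h20)
  -- coefficients
  let Φ : fr.X → fr.F → fr.F := fun x c => c ^ 3 * fr.ψ ((s' x : G) ^ 3)
  have hpick : ∀ (x : fr.X) (t : fr.F), ∃ c : fr.F, c ≠ 0 ∧ Φ x c ≠ t := fun x t => by
    by_cases h : Φ x 1 = t
    · refine ⟨γ, hγ0, fun e => hγ ?_⟩
      rw [← h] at e
      simp only [Φ, one_pow, one_mul] at e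
      exact (mul_eq_right₀ (fr.ψ_ne (hsU' x))).1 e
    · exact ⟨1, one_ne_zero, h⟩
  obtain ⟨w0, hev0, hw0⟩ := fr.exists_w0 hV h2
  -- the marked element and the zero set
  let a1 : fr.X := b ⟨n - 1, by omega⟩
  let T : Finset fr.X := if h : n = 2 then {b ⟨0, by omega⟩} else ∅
  have ha1 : a1 ≠ 0 := b.ne_zero _
  have hT1 : a1 ∉ T := by
    simp only [T]
    split_ifs with h
    · rw [Finset.mem_singleton]
      exact fun e => absurd (congrArg Fin.val (b.injective e)) (by simp; omega)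
    · simp
  have hT0 : (0 : fr.X) ∉ T := by
    simp only [T]
    split_ifs
    · rw [Finset.mem_singleton]; exact (b.ne_zero _).symm
    · simp
  choose pick hpick0 hpickne using fun x => hpick x (Φ a1 1)
  let c : fr.X → fr.F := fun x => if x ∈ T then 0 else if x = a1 then 1 else pick x
  have hc0 : ∀ x, x ∉ T → c x ≠ 0 := fun x hx => by
    simp only [c, if_neg hx]
    split_ifs
    exacts [one_ne_zero, hpick0 x]
  let u : fr.X → V := fun x => if x = 0 then w0 else c x • fr.v
  have hu : ∀ x, fr.Ev (u x) := fun x => by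
    simp only [u]; split_ifs
    exacts [hev0, fr.ev_smul fr.ev_v]
  refine ⟨fr.v, ∑ x, (s' x : G) • u x, fun g hg hw z => ?_⟩
  obtain ⟨hlin, hy, hcomp⟩ := fr.stab_components s' hs' (if_pos rfl) u hu
    (fun k hk h => hw0 k hk (by simpa [u] using h)) hg hw
  have hne : ∀ x, x ≠ 0 → fr.A hg x ≠ 0 := fun x hx h =>
    hx (fr.A_inj hg (h.trans (map_zero _).symm))
  have hcv : ∀ x, x ≠ 0 → ((s' (fr.A hg x) : G)⁻¹ * (g * (s' x : G) * g⁻¹)) • g • c x • fr.v =
      c (fr.A hg x) • fr.v := fun x hx => by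
    have h := (hcomp x).2
    simpa [u, if_neg hx, if_neg (hne x hx)] using h
  have hzero : ∀ x, x ∈ T → fr.A hg x ∈ T := fun x hx => by
    have hx0 : x ≠ 0 := fun e => hT0 (e ▸ hx)
    have h := hcv x hx0
    by_contra hn
    simp only [c, if_pos hx, zero_smul, smul_zero] at h
    exact hc0 _ hn ((smul_eq_zero.1 h.symm).resolve_right fr.hv)
  have hTimg : ∀ x, fr.A hg x ∈ T → x ∈ T := fun x hx => by
    have himg : T.image (fr.A hg) = T := Finset.eq_of_subset_of_card_le
      (fun y hy => by obtain ⟨x, hx, rfl⟩ := Finset.mem_image.1 hy; exact hzero x hx)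
      (by rw [Finset.card_image_of_injective _ (fr.A_inj hg)])
    rw [← himg] at hx
    obtain ⟨y, hy, e⟩ := Finset.mem_image.1 hx
    exact fr.A_inj hg e ▸ hy
  have hA1 : fr.A hg a1 = a1 := by
    by_contra hne1
    have hn1 : fr.A hg a1 ∉ T := fun h => hT1 (hTimg _ h)
    have e := fr.cube_invariant hlin hg (s' a1).2 (s' _).2 (hsU' a1) (hsU' _) (hcomp a1).1
      (hc0 a1 hT1) (hcv a1 ha1)
    simp only [c, if_neg hT1, if_neg hn1, if_neg hne1, if_true] at e
    exact hpickne _ e.symm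
  have hA : ∀ x, fr.A hg x = x := by
    have : (fr.A hg).toZModLinearMap 3 = LinearMap.id := b.ext fun i => by
      show fr.A hg (b i) = b i
      by_cases hi : (i : ℕ) = n - 1
      · rw [show i = ⟨n - 1, by omega⟩ from Fin.ext hi]; exact hA1
      · have h2' : n = 2 := by omega
        have hmem : b i ∈ T := by
          simp only [T, dif_pos h2', Finset.mem_singleton]
          exact congrArg b (Fin.ext (show (i : ℕ) = 0 by omega))
        have h := hzero _ hmem
        simp only [T, dif_pos h2', Finset.mem_singleton] at h hmem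
        rw [h, hmem]
    exact fun x => DFunLike.congr_fun this x
  suffices g = 1 by rw [this, one_smul]
  refine fr.kill hlin hg hy T ?_ fun x hx => ?_
  · simp only [T]
    rcases hn12 with ⟨rfl, h⟩ | ⟨rfl, h⟩
    · rw [dif_neg (by omega), Finset.card_empty, h]; omega
    · rw [dif_pos rfl, Finset.card_singleton, h]; omega
  by_cases hx0 : x = 0
  · exact fr.fix_D hlin hg hy ((fr.cl_eq_zero _).1 (by rw [fr.cl_sec, hx0]))
  have h := hcv x hx0
  rw [hA x] at h
  exact fr.fixed_of_comp hlin hg hy (s' x) x (hs' x) (hc0 x hx) h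

end Frame

end CfsgLib.Perm.CoprimeBase
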