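import Cfsg.Agent.Lib.Perm.CoprimeBase.Models
import Cfsg.Agent.Lib.Perm.CoprimeBase.Three
import Cfsg.Agent.Lib.Perm.CoprimeBase.PauliSys
import Cfsg.Agent.Lib.Perm.CoprimeBase.CertPlus2
import Cfsg.Agent.Lib.Perm.CoprimeBase.CertPlus3
import Cfsg.Agent.Lib.Perm.CoprimeBase.CertPlus4
import Cfsg.Agent.Lib.Perm.CoprimeBase.CertMinus2
import Cfsg.Agent.Lib.Perm.CoprimeBase.CertFive2
import Cfsg.Agent.Lib.Perm.CoprimeBase.CertFive3
import Cfsg.Agent.Lib.Perm.CoprimeBase.CertNine2

/-!
# The field case

A rigid subset settles the large index sets; the sets with four, eight and sixteen elements are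
settled by colourings or by certificates, according to the field.
-/

namespace CfsgLib.Perm.CoprimeBase

universe u

open CfsgLib.Perm.OddBase

namespace Frame

open Pauli Check

variable {G V : Type u} [Group G] [Finite G] [AddCommGroup V] [Finite V] [DistribMulAction G V]
  [Nontrivial V] (fr : Frame G V)

omit [Finite V] [Nontrivial V] in
/-- If `-1` is a square then `D` stabilizes the line. -/
theorem DL_of_isSquare (hne : (-1 : fr.F) ≠ 1) (h : IsSquare (-1 : fr.F)) : fr.D ≤ fr.L := by
  rcases fr.hcase with ⟨hDL, -⟩ | ⟨-, hyU, z, -, -, -, -, hns, -, -⟩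
  · exact hDL
  · rcases fr.sq_or_neg hne (fr.hDM fr.hy0) hyU with h' | h'
    · exact absurd h' hns
    · refine absurd ?_ hns
      have := h.mul h'
      rwa [neg_one_mul, neg_neg] at this

omit [Finite V] in
theorem hasPair_of_prime {p : ℕ} [Fact p.Prime] (hV : ∀ x : V, p • x = 0)
    (hcard : Fintype.card fr.F = p) (h : LinPair fr) : HasPair G V := by
  haveI := fr.charP hV
  obtain ⟨v, w, -, hp⟩ := h
  refine ⟨v, w, fun g hgv hgw x => ?_⟩
  rw [hp g (fun k y => ?_) hgv hgw, one_smul]
  obtain ⟨a, ha⟩ : ∃ a : ℕ, (a : fr.F) = k := by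
    obtain ⟨a, ha⟩ := ((Fintype.bijective_iff_injective_and_card
      (fun a : ZMod p => ZMod.castHom (dvd_refl p) fr.F a)).2
      ⟨ZMod.castHom_injective _, by rw [ZMod.card, hcard]⟩).2 k
    exact ⟨a.val, by simp [← ha, ZMod.natCast_val]⟩
  rw [← ha, Nat.cast_smul_eq_nsmul, Nat.cast_smul_eq_nsmul, smul_comm]

omit [Finite V] in
theorem hasPair_of_nine (hV : ∀ x : V, 3 • x = 0) (hcard : Fintype.card fr.F = 9) (i : fr.F)
    (hi : i * i = -1) (hcop : (Nat.card G).Coprime 3) (h : LinPair fr) : HasPair G V := by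
  haveI : Fact (Nat.Prime 3) := ⟨Nat.prime_three⟩
  haveI := fr.charP hV
  obtain ⟨v, w, hv, hp⟩ := h
  have h30 : (3 : fr.F) = 0 := by exact_mod_cast CharP.cast_eq_zero fr.F 3
  have hne : (-1 : fr.F) ≠ 1 := fr.char_two_ne hV (by norm_num)
  have hi0 : i ≠ 0 := fun e => by simp [e] at hi
  let S := codeNine hcard i hi
  have hlin : ∀ g : G, fr.σ g i = i → fr.IsLin g := fun g hg k x => by
    obtain ⟨a, -, rfl⟩ := S.hsurj k
    rw [fr.hcj]
    congr 1
    show fr.σ g (S.ι a) = S.ι a
    simp only [S, codeNine, map_add, map_mul, map_natCast, hg]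
  by_contra hno
  have key : ∀ t : fr.F, ∃ g : G, g ≠ 1 ∧ g • v = v ∧ g • (t • v + w) = t • v + w := by
    intro t
    by_contra hall
    push Not at hall
    refine hno ⟨v, t • v + w, fun g h1 h2 x => ?_⟩
    by_cases hg : g = 1
    · rw [hg, one_smul]
    · exact absurd h2 (hall g hg h1)
  have hσ : ∀ (t : fr.F) (g : G), g ≠ 1 → g • v = v → g • (t • v + w) = t • v + w → fr.σ g i = -i := by
    intro t g hg h1 h2
    have hsq : fr.σ g i * fr.σ g i = i * i := by rw [← map_mul, hi, map_neg, map_one]
    refine (mul_self_eq_mul_self_iff.1 hsq).resolve_left fun e => hg ?_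
    refine hp g (hlin g e) h1 ?_
    rw [smul_add, hlin g e, h1] at h2
    exact add_left_cancel h2
  obtain ⟨g0, hg0, hv0, hw0⟩ := key 0
  obtain ⟨g1, hg1, hv1, hw1⟩ := key i
  have s0 := hσ _ g0 hg0 hv0 hw0
  have s1 := hσ _ g1 hg1 hv1 hw1
  rw [zero_smul, zero_add] at hw0
  rw [smul_add, fr.hcj, hv1, show fr.cj g1 i = -i from s1] at hw1
  have hw1' : g1 • w = (i + i) • v + w := by
    rw [← add_right_inj ((-i) • v), hw1, ← add_assoc, ← add_smul, neg_add_cancel_left]
  set h := g0 * g1
  have hhlin : fr.IsLin h := fun k x => by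
    obtain ⟨a, -, rfl⟩ := S.hsurj k
    rw [mul_smul, mul_smul, fr.hcj, fr.hcj]
    congr 1
    show fr.σ g0 (fr.σ g1 (S.ι a)) = S.ι a
    simp only [S, codeNine, map_add, map_mul, map_natCast, map_neg, s0, s1, neg_neg]
  have hhv : h • v = v := by rw [mul_smul, hv1, hv0]
  have hhw : h • w = (-(i + i)) • v + w := by
    rw [mul_smul, hw1', smul_add, fr.hcj, hv0, hw0]
    congr 2
    show fr.σ g0 (i + i) = _
    rw [map_add, s0, neg_add]
  set c := -(i + i)
  have hh3 : h ^ 3 = 1 := by
    refine hp _ ((linG fr).pow_mem (show h ∈ linG fr from hhlin) 3) ?_ ?_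
    · simp only [pow_succ, pow_zero, one_mul, mul_smul, hhv]
    · have h1 : ∀ k : fr.F, h • (k • v + w) = (k + c) • v + w := fun k => by
        rw [smul_add, hhlin, hhv, hhw, ← add_assoc, ← add_smul]
      simp only [pow_succ, pow_zero, one_mul, mul_smul]
      rw [hhw, h1, h1, show c + c + c = 0 by linear_combination c * h30, zero_smul, zero_add]
  have hh1 : h = 1 := by
    have h1 : orderOf h ∣ 3 := orderOf_dvd_of_pow_eq_one hh3
    have h2 : orderOf h ∣ Nat.card G := orderOf_dvd_natCard h
    exact orderOf_eq_one_iff.1 (Nat.dvd_one.1 (hcop ▸ Nat.dvd_gcd h2 h1))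
  rw [hh1, one_smul] at hhw
  have h2 : c • v = 0 := by
    have := hhw.symm
    rwa [add_eq_right] at this
  have h3 : c = 0 := (smul_eq_zero.1 h2).resolve_right hv
  refine hne ?_
  have : (2 : fr.F) * i = 0 := by linear_combination -h3
  rcases mul_eq_zero.1 this with e | e
  · linear_combination -e
  · exact absurd e hi0

variable [Module (ZMod 2) fr.X] {n : ℕ}

/-- Index sets of exponent two with four, eight or sixteen elements. -/
theorem hasPair_small (C : fr.Coord n) (hn : n = 2 ∨ n = 3 ∨ n = 4) {p : ℕ} [hp : Fact p.Prime]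
    (hV : ∀ x : V, p • x = 0) (h2 : p ≠ 2) (hcop : (Nat.card G).Coprime p) : HasPair G V := by
  classical
  haveI := fr.charP hV
  have hne := fr.char_two_ne hV h2
  obtain ⟨f, hpp, hQ⟩ := FiniteField.card fr.F p
  have hp3 : 3 ≤ p := by have := hp.out.two_le; omega
  obtain ⟨md, hmd⟩ : ∃ md, Fintype.card fr.F = md + 1 :=
    ⟨Fintype.card fr.F - 1, (Nat.sub_add_cancel Fintype.card_pos).symm⟩
  have hodd : ¬ 2 ∣ md + 1 := by
    rw [← hmd, hQ]
    intro hd
    have := (Nat.prime_dvd_prime_iff_eq Nat.prime_two hpp).1 (Nat.prime_two.dvd_of_dvd_pow hd)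
    omega
  have hmd2 : 2 ≤ md := by
    have : p ≤ md + 1 := by rw [← hmd, hQ]; exact Nat.le_self_pow f.pos.ne' p
    omega
  obtain ⟨hθ0, hθ⟩ := fr.θ_pow_eq hmd hmd2
  have hp_of : ∀ r, r.Prime → md + 1 = r ∨ md + 1 = r * r → p = r := fun r hr h => by
    have h1 : p ∣ md + 1 := by rw [← hmd, hQ]; exact dvd_pow_self p f.pos.ne'
    rcases h with h | h <;> rw [h] at h1
    · exact (Nat.prime_dvd_prime_iff_eq hpp hr).1 h1
    · rcases hpp.dvd_mul.1 h1 with h' | h' <;> exact (Nat.prime_dvd_prime_iff_eq hpp hr).1 h'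
  have hdist : ∀ a b : ℕ, (fr.θ ^ a) ^ 4 = (fr.θ ^ b) ^ 4 → a * 4 % md = b * 4 % md := fun a b h => by
    rwa [← pow_mul, ← pow_mul, hθ] at h
  by_cases hbig : 6 ≤ md ∧ md ≠ 8
  · -- three classes of fourth powers
    have hinj : ∀ a b, a < 3 → b < 3 → (fr.θ ^ a) ^ 4 = (fr.θ ^ b) ^ 4 → a = b := by
      intro a b ha hb h
      have h1 := hdist a b h
      rcases (show md = 6 ∨ md = 7 ∨ 8 < md by omega) with rfl | rfl | h8
      · interval_cases a <;> interval_cases b <;> omega
      · interval_cases a <;> interval_cases b <;> omega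
      · rw [Nat.mod_eq_of_lt (by omega), Nat.mod_eq_of_lt (by omega)] at h1
        omega
    have key : ∀ col : List ℕ, (∀ c, c < 2 ^ n → 0 < c → col.getD c 0 ≤ 3) →
        ∀ c c', 0 < c → c < 2 ^ n → 0 < c' → c' < 2 ^ n → col.getD c 0 ≠ 3 → col.getD c' 0 ≠ 3 →
        fr.θ ^ col.getD c 0 ≠ 0 ∧
          ((fr.θ ^ col.getD c 0) ^ 4 = (fr.θ ^ col.getD c' 0) ^ 4 → col.getD c 0 = col.getD c' 0) :=
      fun col hle c c' hc hc2 hc' hc2' h3 h3' => ⟨pow_ne_zero _ hθ0,
        hinj _ _ (by have := hle c hc2 hc; omega) (by have := hle c' hc2' hc'; omega)⟩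
    rcases hn with rfl | rfl | rfl
    · exact fr.hasPair_classes C hV h2 Models.classes2 _ Models.classes2_rigid rfl
        (fun c h1 h2 => by revert h1; revert c; decide) (by decide) (key _ (by decide))
    · exact fr.hasPair_classes C hV h2 Models.classes3 _ Models.classes3_rigid rfl
        (fun c h1 h2 => by revert h1; revert c; decide) (by decide) (key _ (by decide))
    · exact fr.hasPair_classes C hV h2 Models.classes4 _ Models.classes4_rigid rfl
        (fun c h1 h2 => by revert h1; revert c; decide) (by decide) (key _ (by decide))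
  rcases (show md = 2 ∨ md = 4 ∨ md = 8 by omega) with rfl | rfl | rfl
  · -- three elements
    obtain rfl := hp_of 3 Nat.prime_three (Or.inl rfl)
    let S := codePrime 3 hmd ar3 rfl (fun _ _ => rfl) (fun _ _ => rfl) rfl
    rcases fr.hcase with ⟨hDL, -⟩ | ⟨hyL, hyU, z', -, -, -, -, hns, -, -⟩
    · rcases hn with rfl | rfl | rfl
      · let P := fr.plusSys C hDL hne ar3 S plus2Gens plus2Els (by decide +kernel) (by decide +kernel)
        exact fr.hasPair_of_prime hV hmd (P.pair_family hne hcop
          [(plus2aV, plus2aW, plus2aLevels, plus2aEx, plus2aAllowed),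
            (plus2bV, plus2bW, plus2bLevels, plus2bEx, plus2bAllowed),
            (plus2cV, plus2cW, plus2cLevels, plus2cEx, plus2cAllowed)]
          (List.forall_mem_cons.2 ⟨⟨plus2a_ok, plus2a_cert, (by decide +kernel :
              levelsOK ar3 (2 ^ 2) 2 plus2Gens plus2Els plus2aLevels = true),
              by decide, by decide, rfl⟩,
            List.forall_mem_cons.2 ⟨⟨plus2b_ok, plus2b_cert, (by decide +kernel :
              levelsOK ar3 (2 ^ 2) 2 plus2Gens plus2Els plus2bLevels = true),
              by decide, by decide, rfl⟩,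
            List.forall_mem_singleton.2 ⟨plus2c_ok, plus2c_cert, (by decide +kernel :
              levelsOK ar3 (2 ^ 2) 2 plus2Gens plus2Els plus2cLevels = true),
              by decide, by decide, rfl⟩⟩⟩) plus2_family)
      · let P := fr.plusSys C hDL hne ar3 S plus3Gens plus3Els (by decide +kernel) (by decide +kernel)
        exact fr.hasPair_of_prime hV hmd (P.pair_family hne hcop
          [(plus3aV, plus3aW, plus3aLevels, plus3aEx, plus3aAllowed),
            (plus3bV, plus3bW, plus3bLevels, plus3bEx, plus3bAllowed),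
            (plus3cV, plus3cW, plus3cLevels, plus3cEx, plus3cAllowed)]
          (List.forall_mem_cons.2 ⟨⟨plus3a_ok, plus3a_cert, (by decide +kernel :
              levelsOK ar3 (2 ^ 3) 3 plus3Gens plus3Els plus3aLevels = true),
              by decide, by decide, rfl⟩,
            List.forall_mem_cons.2 ⟨⟨plus3b_ok, plus3b_cert, (by decide +kernel :
              levelsOK ar3 (2 ^ 3) 3 plus3Gens plus3Els plus3bLevels = true),
              by decide, by decide, rfl⟩,
            List.forall_mem_singleton.2 ⟨plus3c_ok, plus3c_cert, (by decide +kernel :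
              levelsOK ar3 (2 ^ 3) 3 plus3Gens plus3Els plus3cLevels = true),
              by decide, by decide, rfl⟩⟩⟩) plus3_family)
      · let P := fr.plusSys C hDL hne ar3 S plus4Gens plus4Els (by decide +kernel) (by decide +kernel)
        exact fr.hasPair_of_prime hV hmd (P.pair_single hne plus4_ok plus4_cert
          (by decide +kernel : levelsOK ar3 (2 ^ 4) 4 plus4Gens plus4Els plus4Levels = true)
          (by decide) (by decide) rfl)
    · rcases hn with rfl | rfl | rfl
      · -- the minus type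
        have hS : ∀ c : fr.F, c = 0 ∨ c * c = 1 ∧ (c = 1 ∨ c = -1) := fun c => by
          obtain ⟨a, ha, rfl⟩ := S.hsurj c
          have ha' : a < 3 := ha
          have hm2 : S.ι 2 = -1 := S.hneg.2
          interval_cases a
          · exact Or.inl S.h0
          · exact Or.inr ⟨by rw [S.h1, one_mul], Or.inl S.h1⟩
          · exact Or.inr ⟨by rw [hm2, neg_mul_neg, one_mul], Or.inr hm2⟩
        have hy2 : fr.ψ (fr.y0 ^ 2) = -1 := by
          rcases hS (fr.ψ (fr.y0 ^ 2)) with h | ⟨-, h | h⟩
          · exact absurd h (fr.ψ_ne hyU)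
          · exact absurd (h ▸ IsSquare.one) hns
          · exact h
        obtain ⟨hzD, -, hzy, -⟩ := C.hz hyL
        have hyM := fr.hDM fr.hy0
        have hzβ : fr.β C.z fr.y0 = -1 :=
          fr.β_eq (fr.hDM hzD) hyM fr.hv (by rw [hzy, neg_one_smul])
        obtain ⟨a, b, hab⟩ := fr.hspan C.z hzD
        have hb : b ≠ 0 := by
          rintro rfl
          rw [zero_smul, add_zero] at hab
          exact hne (hzβ.symm.trans (fr.β_LD ((fr.hL _).2 ⟨fr.hDM hzD, a, hab⟩) fr.hy0))
        have ha : a ≠ 0 := by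
          rintro rfl
          rw [zero_smul, zero_add] at hab
          have hL : fr.y0⁻¹ * C.z ∈ fr.L := (fr.hL _).2 ⟨fr.M.mul_mem (fr.M.inv_mem hyM)
            (fr.hDM hzD), b, by rw [mul_smul, hab, fr.hMlin _ (fr.M.inv_mem hyM), inv_smul_smul]⟩
          have h1 := fr.β_LD hL fr.hy0
          rw [fr.β_left (fr.M.inv_mem hyM) (fr.hDM hzD) hyM, hzβ,
            fr.β_comm (fr.M.inv_mem hyM) hyM (by simp), one_mul] at h1
          exact hne h1
        have ha1 := ((hS a).resolve_left ha).1
        have hb1 := ((hS b).resolve_left hb).1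
        have hzv : C.z • fr.v = a • fr.v + (a * (a * b)) • fr.y0 • fr.v := by
          rw [hab, ← mul_assoc, ha1, one_mul]
        let P := fr.minusSys C hyL hne hy2 hyU (σ := a * b)
          (by rw [mul_mul_mul_comm, ha1, hb1, one_mul]) ha1 hzv ar3 S minus2Gens minus2Els
          (by decide +kernel) (by decide +kernel)
        exact fr.hasPair_of_prime hV hmd (P.pair_family hne hcop
          [(minus2aV, minus2aW, minus2aLevels, minus2aEx, minus2aAllowed),
            (minus2bV, minus2bW, minus2bLevels, minus2bEx, minus2bAllowed)]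
          (List.forall_mem_cons.2 ⟨⟨minus2a_ok, minus2a_cert, (by decide +kernel :
              levelsOK ar3 (2 ^ 2 * 2) (2 + 1) minus2Gens minus2Els minus2aLevels = true),
              by decide, by decide, rfl⟩,
            List.forall_mem_singleton.2 ⟨minus2b_ok, minus2b_cert, (by decide +kernel :
              levelsOK ar3 (2 ^ 2 * 2) (2 + 1) minus2Gens minus2Els minus2bLevels = true),
              by decide, by decide, rfl⟩⟩) minus2_family)
      · exact fr.hasPair_line C hV h2 hyL Models.line3 Models.line3_rigid rfl (by decide) (by decide)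
      · exact fr.hasPair_line C hV h2 hyL Models.line4 Models.line4_rigid rfl (by decide) (by decide)
  · -- five elements
    obtain rfl := hp_of 5 Nat.prime_five (Or.inl rfl)
    have hDL := fr.DL_of_isSquare hne ⟨2, by
      linear_combination -(CharP.cast_eq_zero fr.F 5 : ((5 : ℕ) : fr.F) = 0)⟩
    let S := codePrime 5 hmd ar5 rfl (fun _ _ => rfl) (fun _ _ => rfl) rfl
    rcases hn with rfl | rfl | rfl
    · let P := fr.plusSys C hDL hne ar5 S five2Gens five2Els (by decide +kernel) (by decide +kernel)
      exact fr.hasPair_of_prime hV hmd (P.pair_single hne five2_ok five2_cert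
        (by decide +kernel : levelsOK ar5 (2 ^ 2) 2 five2Gens five2Els five2Levels = true)
        (by decide) (by decide) rfl)
    · let P := fr.plusSys C hDL hne ar5 S five3Gens five3Els (by decide +kernel) (by decide +kernel)
      exact fr.hasPair_of_prime hV hmd (P.pair_single hne five3_ok five3_cert
        (by decide +kernel : levelsOK ar5 (2 ^ 3) 3 five3Gens five3Els five3Levels = true)
        (by decide) (by decide) rfl)
    · exact fr.hasPair_phase C hV h2 hDL Models.phaseFive4 hmd (by norm_num) (by norm_num)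
        Models.phaseFive4_rigid rfl (by decide) (by decide)
  · -- nine elements
    obtain rfl := hp_of 3 Nat.prime_three (Or.inr rfl)
    have hsq : IsSquare (-1 : fr.F) := by
      rw [FiniteField.isSquare_neg_one_iff, hmd]; norm_num
    have hDL := fr.DL_of_isSquare hne hsq
    obtain ⟨i, hi⟩ := hsq
    rcases hn with rfl | rfl | rfl
    · let P := fr.plusSys C hDL hne ar9 (codeNine hmd i hi.symm) nine2Gens nine2Els
        (by decide +kernel) (by decide +kernel)
      exact fr.hasPair_of_nine hV hmd i hi.symm hcop (P.pair_single hne nine2_ok nine2_cert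
        (by decide +kernel : levelsOK ar9 (2 ^ 2) 2 nine2Gens nine2Els nine2Levels = true)
        (by decide) (by decide) rfl)
    · exact fr.hasPair_phase C hV h2 hDL Models.phaseNine3 hmd (by norm_num) (by norm_num)
        Models.phaseNine3_rigid rfl (by decide) (by decide)
    · have hval : ∀ c, c < 2 ^ 4 → 0 < c → Models.classesNine4.getD c 0 ≠ 3 →
          Models.classesNine4.getD c 0 < 2 := by decide
      refine fr.hasPair_classes C hV h2 Models.classesNine4 (fun k => fr.θ ^ k)
        Models.classesNine4_rigid rfl (fun c h1 h2 => by revert h1; revert c; decide) (by decide)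
        fun c c' hc hc2 hc' hc2' h3 h3' => ⟨pow_ne_zero _ hθ0, fun h => ?_⟩
      have h1 := hdist _ _ h
      have := hval c hc2 hc h3
      have := hval c' hc2' hc' h3'
      omega

end Frame

end CfsgLib.Perm.CoprimeBase
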