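import Cfsg.Agent.Lib.Perm.OddBase.Idem
import Cfsg.Agent.Lib.Perm.OddBase.Pairing
import Mathlib

/-!
# The frame of an irreducible linear group all whose abelian normal subgroups span fields

A maximal abelian normal subgroup `U` spanning the field `F`, a maximal normal subgroup `M` of its
centralizer with commutators in `U`, a vector `v` whose line stabilizer `L` in `M` is maximal, and
`D`, the centralizer of `L` in `M`.
-/

namespace CfsgLib.Perm.CoprimeBase

universe u

open Finset CfsgLib.Perm.OddBase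
open scoped commutatorElement

/-- The data attached to the field case. -/
structure Frame (G V : Type u) [Group G] [AddCommGroup V] [DistribMulAction G V] where
  F : Type u
  [fld : Field F]
  [fin : Fintype F]
  [mod : Module F V]
  cj : G → F → F
  hcj : ∀ (g : G) (k : F) (x : V), g • k • x = cj g k • g • x
  θ : F
  hθ : ∀ k : F, k ≠ 0 → ∃ n : ℕ, k = θ ^ n
  hθlin : ∀ g : G, cj g θ = θ → ∀ (k : F) (x : V), g • k • x = k • g • x
  U : Subgroup G
  M : Subgroup G
  hUn : U.Normal
  hMn : M.Normal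
  hUM : U ≤ M
  hUmax : ∀ N : Subgroup G, N.Normal → (∀ a ∈ N, ∀ b ∈ N, a * b = b * a) → U ≤ N → N = U
  ψ : G → F
  hψ : ∀ u ∈ U, ∀ x : V, u • x = ψ u • x
  hfree : ∀ u ∈ U, ∀ x : V, x ≠ 0 → u • x = x → u = 1
  hMlin : ∀ m ∈ M, ∀ (k : F) (x : V), m • k • x = k • m • x
  hMcomm : ∀ a ∈ M, ∀ b ∈ M, ⁅a, b⁆ ∈ U
  hlinCM : ∀ g : G, (∀ (k : F) (x : V), g • k • x = k • g • x) → (∀ m ∈ M, g * m = m * g) → g ∈ U
  hsqf : ∀ r : ℕ, r.Prime → ∀ m ∈ M, (m ^ r) ^ r ∈ U → m ^ r ∈ U
  v : V
  hv : v ≠ 0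
  L : Subgroup G
  D : Subgroup G
  hL : ∀ m : G, m ∈ L ↔ m ∈ M ∧ ∃ k : F, m • v = k • v
  χ : G → F
  hχ : ∀ l ∈ L, l • v = χ l • v
  hD : ∀ d : G, d ∈ D ↔ d ∈ M ∧ ∀ l ∈ L, l * d = d * l
  hLD : L ≤ D
  y0 : G
  hy0 : y0 ∈ D
  hspan : ∀ d ∈ D, ∃ a b : F, d • v = a • v + b • (y0 • v)
  hmax : ∀ w : V, w ≠ 0 → (∀ l ∈ L, l • w = χ l • w) → ∀ m ∈ M, ∀ k : F, m • w = k • w → m ∈ L
  hcase : D ≤ L ∧ y0 = 1 ∨ y0 ∉ L ∧ y0 ^ 2 ∈ U ∧ ∃ z ∈ D, z ^ 2 ∈ U ∧
    (∀ x : V, z • y0 • x = -(y0 • z • x)) ∧ (-1 : F) ≠ 1 ∧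
    ¬ IsSquare (ψ (y0 ^ 2)) ∧ ¬ IsSquare (ψ (z ^ 2)) ∧
    ∀ d ∈ D, ∃ i j : Bool, ∃ l ∈ L, d = (if i then y0 else 1) * (if j then z else 1) * l

attribute [instance] Frame.fld Frame.fin Frame.mod

variable {G V : Type u} [Group G] [Finite G] [AddCommGroup V] [Finite V] [DistribMulAction G V]

/-- The frame exists. -/
theorem exists_frame [FaithfulSMul G V] [Nontrivial V] [Group.IsSolvable G]
    (hfield : ∀ N : Subgroup G, N.Normal → (∀ a ∈ N, ∀ b ∈ N, a * b = b * a) →
      ∀ r : AddMonoid.End V, r ∈ spanRing N → r ≠ 0 → Function.Injective r) :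
    Nonempty (Frame G V) := by
  classical
  haveI : Fintype G := Fintype.ofFinite G
  haveI : Finite (AddMonoid.End V) :=
    Finite.of_injective (β := V → V) _ DFunLike.coe_injective
  obtain ⟨U, ⟨hUn, hUab⟩, hUmax⟩ := Set.exists_max_image
    {N : Subgroup G | N.Normal ∧ ∀ a ∈ N, ∀ b ∈ N, a * b = b * a}
    (fun N => Nat.card N) (Set.toFinite _) ⟨⊥, inferInstance, fun a ha b hb => by
      rw [Subgroup.mem_bot.1 ha, Subgroup.mem_bot.1 hb]⟩
  haveI := hUn
  have hUtop : ∀ N : Subgroup G, N.Normal → (∀ a ∈ N, ∀ b ∈ N, a * b = b * a) → U ≤ N → N = U :=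
    fun N h1 h2 h3 => (Subgroup.eq_of_le_of_card_ge h3 (hUmax N ⟨h1, h2⟩)).symm
  -- the field
  set R := spanRing (V := V) U with hR
  letI : CommRing R :=
    { (inferInstance : Ring R) with
      mul_comm := fun a b => Subtype.ext (spanRing_comm hUab a.2 b.2) }
  haveI : Nontrivial R := ⟨⟨0, 1, fun e => by
    obtain ⟨x, hx⟩ := exists_ne (0 : V)
    exact hx (DFunLike.congr_fun (congrArg Subtype.val e) x).symm⟩⟩
  haveI : NoZeroDivisors R := ⟨fun {a b} hab => by
    by_contra hne
    push Not at hne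
    refine hne.2 (Subtype.ext (AddMonoidHom.ext fun x => ?_))
    have hinj := hfield U hUn hUab a.1 a.2 (fun e => hne.1 (Subtype.ext e))
    refine hinj ?_
    have h2 := DFunLike.congr_fun (congrArg Subtype.val hab) x
    change a.1 (b.1 x) = 0 at h2
    exact h2.trans (map_zero a.1).symm⟩
  haveI : IsDomain R := NoZeroDivisors.to_isDomain _
  letI : Field R := (Finite.isField_of_domain R).toField
  haveI : Fintype R := Fintype.ofFinite R
  letI : Module R V := Module.compHom V R.subtype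
  have hsmul : ∀ (k : R) (x : V), k • x = k.1 x := fun _ _ => rfl
  let ψ : ∀ g, g ∈ U → R := fun g hg => ⟨op g, op_mem_spanRing hg⟩
  have hψ : ∀ g (hg : g ∈ U) (x : V), ψ g hg • x = g • x := fun _ _ _ => rfl
  have hψinj : ∀ g (hg : g ∈ U), ψ g hg = 1 → g = 1 := fun g hg e =>
    FaithfulSMul.eq_of_smul_eq_smul (α := V) fun x => by
      rw [← hψ g hg, e, one_smul, one_smul]
  have hsmul0 : ∀ (k : R) (x : V), k • x = 0 → k = 0 ∨ x = 0 := fun k x h => smul_eq_zero.1 h
  -- conjugation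
  let cj : G → R → R := fun g k => ⟨op g * k.1 * op g⁻¹, spanRing_conj g k.2⟩
  have hcj : ∀ g k (x : V), g • (k • x) = cj g k • (g • x) := fun g k x => by
    show g • k.1 x = g • k.1 (g⁻¹ • g • x)
    rw [inv_smul_smul]
  set C := Subgroup.centralizer (U : Set G) with hCdef
  have hUC : U ≤ C := fun u hu => Subgroup.mem_centralizer_iff.2 fun v hv => hUab v hv u hu
  haveI hCn : C.Normal := ⟨fun c hc g => Subgroup.mem_centralizer_iff.2 fun u hu => by
    have h2 := Subgroup.mem_centralizer_iff.1 hc (g⁻¹ * u * g)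
      (by simpa using Subgroup.Normal.conj_mem hUn u hu g⁻¹)
    calc u * (g * c * g⁻¹) = g * ((g⁻¹ * u * g) * c) * g⁻¹ := by group
      _ = g * (c * (g⁻¹ * u * g)) * g⁻¹ := by rw [h2]
      _ = g * c * g⁻¹ * u := by group⟩
  have hCu : ∀ c ∈ C, ∀ u ∈ U, c * u = u * c := fun c hc u hu =>
    (Subgroup.mem_centralizer_iff.1 hc u hu).symm
  have hClin : ∀ c ∈ C, ∀ (k : R) (x : V), c • (k • x) = k • (c • x) := by
    rintro c hc ⟨k, hk⟩ x
    show c • k x = k (c • x)
    induction hk using Subring.closure_induction generalizing x with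
    | mem y hy =>
      obtain ⟨u, hu, rfl⟩ := hy
      show c • u • x = u • c • x
      rw [smul_smul, smul_smul, hCu c hc u hu]
    | zero => simp
    | one => simp
    | add a b _ _ ha hb =>
      show c • (a x + b x) = a (c • x) + b (c • x)
      rw [smul_add, ha, hb]
    | neg a _ ha =>
      show c • (-(a x)) = -(a (c • x))
      rw [smul_neg, ha]
    | mul a b _ _ ha hb =>
      show c • a (b x) = a (b (c • x))
      rw [ha, hb]
  -- a generator
  obtain ⟨θu, hθu⟩ := IsCyclic.exists_generator (α := Rˣ)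
  set θ : R := (θu : R) with hθ
  have hθC : ∀ g : G, cj g θ = θ → g ∈ C := by
    intro g hg
    have hpow : ∀ n : ℕ, ∀ x : V, g • (θ ^ n • x) = θ ^ n • (g • x) := by
      intro n
      induction n with
      | zero => intro x; rw [pow_zero, one_smul, one_smul]
      | succ n ih => intro x; rw [pow_succ, mul_smul, ih, hcj, hg, mul_smul]
    refine Subgroup.mem_centralizer_iff.2 fun u hu => ?_
    have hψ0 : ψ u hu ≠ 0 := fun e => by
      obtain ⟨x, hx⟩ := exists_ne (0 : V)
      refine hx ((smul_eq_zero_iff_eq u).1 ?_)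
      rw [← hψ u hu, e]
      exact zero_smul R x
    obtain ⟨n, hn⟩ : ∃ n : ℕ, ψ u hu = θ ^ n := by
      obtain ⟨n, hn⟩ := (mem_powers_iff_mem_zpowers (x := θu)).2 (hθu (Units.mk0 _ hψ0))
      refine ⟨n, ?_⟩
      have := congrArg Units.val hn
      simpa [hθ] using this.symm
    refine FaithfulSMul.eq_of_smul_eq_smul (α := V) fun x => ?_
    rw [mul_smul, mul_smul, ← hψ u hu, ← hψ u hu, hn, hpow]
  -- the subgroup `M`
  obtain ⟨M, ⟨hMn, hUM, hMC, hMcomm⟩, hMmax⟩ := Set.exists_max_image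
    {M : Subgroup G | M.Normal ∧ U ≤ M ∧ M ≤ C ∧ ∀ a ∈ M, ∀ b ∈ M, ⁅a, b⁆ ∈ U}
    (fun M => Nat.card M) (Set.toFinite _) ⟨U, hUn, le_rfl, hUC, fun a ha b hb => by
      rw [commutatorElement_eq_one_iff_mul_comm.2 (hUab a ha b hb)]; exact U.one_mem⟩
  haveI := hMn
  have hD : C ⊓ Subgroup.centralizer (M : Set G) ≤ U := by
    set D := C ⊓ Subgroup.centralizer (M : Set G) with hDdef
    haveI : (Subgroup.centralizer (M : Set G)).Normal := ⟨fun c hc g =>
      Subgroup.mem_centralizer_iff.2 fun u hu => by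
        have h2 := Subgroup.mem_centralizer_iff.1 hc (g⁻¹ * u * g)
          (by simpa using Subgroup.Normal.conj_mem hMn u hu g⁻¹)
        calc u * (g * c * g⁻¹) = g * ((g⁻¹ * u * g) * c) * g⁻¹ := by group
          _ = g * (c * (g⁻¹ * u * g)) * g⁻¹ := by rw [h2]
          _ = g * c * g⁻¹ * u := by group⟩
    haveI hDn : D.Normal := Subgroup.normal_inf_normal _ _
    by_contra hne
    obtain ⟨S, hS0, hSsucc⟩ : ∃ S : ℕ → Subgroup G, S 0 = D ∧ ∀ n, S (n + 1) = ⁅S n, S n⁆ :=
      ⟨fun n => Nat.rec D (fun _ A => ⁅A, A⁆) n, rfl, fun _ => rfl⟩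
    have hSn : ∀ n, (S n).Normal ∧ S n ≤ D ∧ S n ≤ derivedSeries G n := by
      intro n
      induction n with
      | zero => rw [hS0]; exact ⟨hDn, le_rfl, le_top⟩
      | succ n ih =>
        haveI := ih.1
        rw [hSsucc]
        refine ⟨Subgroup.commutator_normal _ _, ?_, ?_⟩
        · have h1 : ⁅S n, S n⁆ ≤ S n := Subgroup.commutator_le_left (H₁ := S n) (H₂ := S n)
          exact le_trans h1 ih.2.1
        · exact Subgroup.commutator_mono ih.2.2 ih.2.2
    obtain ⟨N0, hN0⟩ := Group.IsSolvable.solvable (G := G)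
    have hbot : S N0 ≤ U := ((hSn N0).2.2.trans hN0.le).trans bot_le
    obtain ⟨i, hi, hi'⟩ : ∃ i, ¬ S i ≤ U ∧ S (i + 1) ≤ U := by
      by_contra hall
      push Not at hall
      have : ∀ i, ¬ S i ≤ U := fun i => by
        induction i with
        | zero => rw [hS0]; exact hne
        | succ i ih => exact hall i ih
      exact this N0 hbot
    haveI := (hSn i).1
    set N := U ⊔ S i with hNdef
    haveI hNn : N.Normal := Subgroup.sup_normal _ _
    have hND : ∀ x ∈ N, ∀ m ∈ M, x * m = m * x := by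
      intro x hx m hm
      obtain ⟨u, hu, d, hd, rfl⟩ := Subgroup.mem_sup_of_normal_right.1 hx
      have e1 : d * m = m * d :=
        (Subgroup.mem_centralizer_iff.1 ((hSn i).2.1 hd).2 m hm).symm
      have e2 : u * m = m * u := (hCu m (hMC hm) u hu).symm
      rw [mul_assoc, e1, ← mul_assoc, e2, mul_assoc]
    have hNC : N ≤ C := sup_le hUC ((hSn i).2.1.trans inf_le_left)
    have hcN : ∀ a ∈ N, ∀ b ∈ N, ⁅a, b⁆ ∈ U := by
      intro a ha b hb
      obtain ⟨u, hu, d, hd, rfl⟩ := Subgroup.mem_sup_of_normal_right.1 ha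
      obtain ⟨v, hv, f, hf, rfl⟩ := Subgroup.mem_sup_of_normal_right.1 hb
      have hdC := ((hSn i).2.1 hd).1
      have hfC := ((hSn i).2.1 hf).1
      have : ⁅u * d, v * f⁆ = ⁅d, f⁆ := by
        have e1 : u * d * (v * f) = (u * v) * (d * f) := by
          rw [mul_assoc u d, ← mul_assoc d v f, hCu d hdC v hv]; group
        have e2 : v * f * (u * d) = (u * v) * (f * d) := by
          rw [mul_assoc v f, ← mul_assoc f u d, hCu f hfC u hu, hUab u hu v hv]; group
        calc ⁅u * d, v * f⁆ = (u * d * (v * f)) * (v * f * (u * d))⁻¹ := by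
              rw [commutatorElement_def]; group
          _ = ((u * v) * (d * f)) * ((u * v) * (f * d))⁻¹ := by rw [e1, e2]
          _ = (u * v) * (⁅d, f⁆ * (u * v)⁻¹) := by rw [commutatorElement_def]; group
          _ = ⁅d, f⁆ * (u * v)⁻¹ * (u * v) := by
              have hdf : ⁅d, f⁆ ∈ U := hi' (hSsucc i ▸ Subgroup.commutator_mem_commutator hd hf)
              exact hUab _ (U.mul_mem hu hv) _
                (U.mul_mem hdf (U.inv_mem (U.mul_mem hu hv)))
          _ = ⁅d, f⁆ := by group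
      rw [this]
      exact hi' (hSsucc i ▸ Subgroup.commutator_mem_commutator hd hf)
    haveI : (M ⊔ N).Normal := Subgroup.sup_normal _ _
    have hMN : M ⊔ N = M := (Subgroup.eq_of_le_of_card_ge le_sup_left (hMmax _ ⟨inferInstance,
      hUM.trans le_sup_left, sup_le hMC hNC, by
        intro a ha b hb
        obtain ⟨m, hm, n, hn, rfl⟩ := Subgroup.mem_sup_of_normal_right.1 ha
        obtain ⟨m', hm', n', hn', rfl⟩ := Subgroup.mem_sup_of_normal_right.1 hb
        have e : ⁅m * n, m' * n'⁆ = ⁅m, m'⁆ * ⁅n, n'⁆ := by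
          have a1 : m * n * (m' * n') = m * m' * (n * n') := by
            rw [mul_assoc m n, ← mul_assoc n m' n', hND n hn m' hm']; group
          have a2 : m' * n' * (m * n) = m' * m * (n' * n) := by
            rw [mul_assoc m' n', ← mul_assoc n' m n, hND n' hn' m hm]; group
          have a3 : ⁅n, n'⁆ * (m' * m)⁻¹ = (m' * m)⁻¹ * ⁅n, n'⁆ :=
            (hCu _ (C.inv_mem (C.mul_mem (hMC hm') (hMC hm))) _ (hcN n hn n' hn')).symm
          calc ⁅m * n, m' * n'⁆ = (m * n * (m' * n')) * (m' * n' * (m * n))⁻¹ := by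
                rw [commutatorElement_def]; group
            _ = (m * m' * (n * n')) * (m' * m * (n' * n))⁻¹ := by rw [a1, a2]
            _ = m * m' * (⁅n, n'⁆ * (m' * m)⁻¹) := by rw [commutatorElement_def]; group
            _ = m * m' * ((m' * m)⁻¹ * ⁅n, n'⁆) := by rw [a3]
            _ = ⁅m, m'⁆ * ⁅n, n'⁆ := by rw [commutatorElement_def m m']; group
        rw [e]
        exact U.mul_mem (hMcomm m hm m' hm') (hcN n hn n' hn')⟩)).symm
    have hNM : N ≤ M := hMN ▸ le_sup_right
    exact hi ((le_sup_right : S i ≤ N).trans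
      (hUtop N hNn (fun a ha b hb => hND a ha b (hNM hb)) le_sup_left).le)
  -- the quotient `W = M / U`
  haveI : (U.subgroupOf M).Normal := Subgroup.Normal.subgroupOf hUn M
  letI : CommGroup (M ⧸ U.subgroupOf M) :=
    { (inferInstance : Group (M ⧸ U.subgroupOf M)) with
      mul_comm := fun a b => by
        induction a using QuotientGroup.induction_on with
        | _ a =>
        induction b using QuotientGroup.induction_on with
        | _ b =>
        rw [← QuotientGroup.mk_mul, ← QuotientGroup.mk_mul, QuotientGroup.eq,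
          Subgroup.mem_subgroupOf]
        have := hMcomm _ (inv_mem b.2) _ (inv_mem a.2)
        have e : (((a * b)⁻¹ * (b * a) : M) : G) = ⁅(b : G)⁻¹, (a : G)⁻¹⁆ := by
          push_cast
          rw [commutatorElement_def]; group
        rw [e]; exact this }
  let W := Additive (M ⧸ U.subgroupOf M)
  let mk : M → W := fun m => Additive.ofMul (QuotientGroup.mk m)
  have mk_surj : ∀ w : W, ∃ m, mk m = w := fun w =>
    QuotientGroup.mk_surjective (Additive.toMul w)
  have mk_eq_zero : ∀ m : M, mk m = 0 ↔ (m : G) ∈ U := fun m => by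
    show QuotientGroup.mk m = (1 : M ⧸ U.subgroupOf M) ↔ _
    rw [QuotientGroup.eq_one_iff, Subgroup.mem_subgroupOf]
  let cq : G → (M ⧸ U.subgroupOf M →* M ⧸ U.subgroupOf M) := fun g =>
    QuotientGroup.map _ _ (MulAut.conjNormal g : MulAut M).toMonoidHom (by
      intro m hm
      rw [Subgroup.mem_subgroupOf] at hm
      show ((MulAut.conjNormal g m : M) : G) ∈ U
      rw [MulAut.conjNormal_apply]
      exact Subgroup.Normal.conj_mem hUn _ hm g)
  have hcq : ∀ g (m : M), cq g (QuotientGroup.mk m) =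
      QuotientGroup.mk (MulAut.conjNormal g m : M) := fun _ _ => rfl
  letI actW : DistribMulAction G W :=
    { smul := fun g w => Additive.ofMul (cq g (Additive.toMul w))
      one_smul := fun w => by
        obtain ⟨m, rfl⟩ := mk_surj w
        show Additive.ofMul (QuotientGroup.mk (MulAut.conjNormal (1 : G) m : M)) = _
        rw [map_one]; rfl
      mul_smul := fun g k w => by
        obtain ⟨m, rfl⟩ := mk_surj w
        show Additive.ofMul (QuotientGroup.mk (MulAut.conjNormal (g * k) m : M)) = _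
        rw [map_mul]; rfl
      smul_zero := fun g => congrArg Additive.ofMul (map_one (cq g))
      smul_add := fun g v w => congrArg Additive.ofMul (map_mul (cq g) _ _) }
  have hactW : ∀ g (m : M), g • mk m = mk (MulAut.conjNormal g m) := fun _ _ => rfl
  let bK : M → M → R := fun a b => ψ ⁅(a : G), (b : G)⁆ (hMcomm _ a.2 _ b.2)
  have hψmul : ∀ a ha b hb, ψ (a * b) (U.mul_mem ha hb) = ψ a ha * ψ b hb := fun a ha b hb =>
    Subtype.ext (AddMonoidHom.ext fun x => mul_smul a b x)
  have hψone : ∀ a (ha : a ∈ U), a = 1 → ψ a ha = 1 := fun a ha e => by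
    subst e
    exact Subtype.ext (AddMonoidHom.ext fun x => one_smul G x)
  have hψcongr : ∀ a ha b hb, a = b → ψ a ha = ψ b hb := fun a ha b hb e => by subst e; rfl
  have hleft : ∀ a b c : M, bK (a * b) c = bK a c * bK b c := by
    intro a b c
    show ψ _ (hMcomm _ (a * b).2 _ c.2) =
      ψ _ (hMcomm _ a.2 _ c.2) * ψ _ (hMcomm _ b.2 _ c.2)
    rw [← hψmul _ (hMcomm _ a.2 _ c.2) _ (hMcomm _ b.2 _ c.2)]
    refine Subtype.ext (congrArg (fun g : G => (op g : AddMonoid.End V)) ?_)
    have e := hCu (a : G) (hMC a.2) _ (hMcomm _ b.2 _ c.2)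
    calc ⁅((a * b : M) : G), (c : G)⁆ = ((a : G) * ⁅(b : G), (c : G)⁆) * (a : G)⁻¹ *
          ⁅(a : G), (c : G)⁆ := by
            push_cast
            rw [commutatorElement_def, commutatorElement_def, commutatorElement_def]; group
      _ = ⁅(b : G), (c : G)⁆ * ⁅(a : G), (c : G)⁆ := by rw [e]; group
      _ = _ := hUab _ (hMcomm _ b.2 _ c.2) _ (hMcomm _ a.2 _ c.2)
  have hswap : ∀ a b : M, bK a b * bK b a = 1 := fun a b => by
    show ψ _ (hMcomm _ a.2 _ b.2) * ψ _ (hMcomm _ b.2 _ a.2) = 1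
    rw [← hψmul _ (hMcomm _ a.2 _ b.2) _ (hMcomm _ b.2 _ a.2)]
    exact hψone (⁅(a : G), (b : G)⁆ * ⁅(b : G), (a : G)⁆)
      (U.mul_mem (hMcomm _ a.2 _ b.2) (hMcomm _ b.2 _ a.2))
      (by rw [← commutatorElement_inv (b : G) (a : G), inv_mul_cancel])
  have hnull : ∀ u b : M, (u : G) ∈ U → bK u b = 1 := fun u b hu =>
    hψone _ (hMcomm _ u.2 _ b.2)
      (commutatorElement_eq_one_iff_mul_comm.2 ((hCu _ (hMC b.2) _ hu).symm))
  have hnull' : ∀ u b : M, (u : G) ∈ U → bK b u = 1 := fun u b hu => by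
    have := hswap b u
    rwa [hnull u b hu, mul_one] at this
  have hright : ∀ a b c : M, bK a (b * c) = bK a b * bK a c := fun a b c => by
    have h1 := hswap a (b * c)
    rw [hleft] at h1
    calc bK a (b * c) = bK a (b * c) * ((bK a b * bK b a) * (bK a c * bK c a)) := by
          rw [hswap, hswap, mul_one, mul_one]
      _ = bK a (b * c) * (bK b a * bK c a) * (bK a b * bK a c) := by ring
      _ = bK a b * bK a c := by rw [h1, one_mul]
  let β : W → W → R := fun v w => Quotient.liftOn₂ (Additive.toMul v) (Additive.toMul w) bK (by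
    intro a b a' b' ha hb
    replace ha := QuotientGroup.leftRel_apply.1 ha
    replace hb := QuotientGroup.leftRel_apply.1 hb
    rw [Subgroup.mem_subgroupOf] at ha hb
    obtain ⟨u, rfl⟩ : ∃ u, a' = a * u := ⟨a⁻¹ * a', by group⟩
    obtain ⟨v, rfl⟩ : ∃ v, b' = b * v := ⟨b⁻¹ * b', by group⟩
    rw [inv_mul_cancel_left] at ha hb
    rw [hleft, hright, hright, hnull u _ ha, hnull u _ ha, hnull' v _ hb]
    simp only [mul_one])
  have hβmk : ∀ a b, β (mk a) (mk b) = bK a b := fun _ _ => rfl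
  have hbK1 : ∀ a b : M, bK a b = 1 ↔ ⁅(a : G), (b : G)⁆ = 1 := fun a b =>
    ⟨fun h => hψinj _ (hMcomm _ a.2 _ b.2) h, fun h => hψone _ (hMcomm _ a.2 _ b.2) h⟩
  have hconjcomm : ∀ (g : G) (a b : M),
      ⁅((MulAut.conjNormal g a : M) : G), ((MulAut.conjNormal g b : M) : G)⁆ =
        g * ⁅(a : G), (b : G)⁆ * g⁻¹ := fun g a b => by
    rw [MulAut.conjNormal_apply, MulAut.conjNormal_apply, commutatorElement_def,
      commutatorElement_def]
    group
  have hpair : IsPairing G β :=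
    { add_left := fun x y z => by
        obtain ⟨a, rfl⟩ := mk_surj x
        obtain ⟨b, rfl⟩ := mk_surj y
        obtain ⟨c, rfl⟩ := mk_surj z
        show β (mk (a * b)) (mk c) = _
        rw [hβmk, hβmk, hβmk, hleft]
      add_right := fun x y z => by
        obtain ⟨a, rfl⟩ := mk_surj x
        obtain ⟨b, rfl⟩ := mk_surj y
        obtain ⟨c, rfl⟩ := mk_surj z
        show β (mk a) (mk (b * c)) = _
        rw [hβmk, hβmk, hβmk, hright]
      self := fun x => by
        obtain ⟨a, rfl⟩ := mk_surj x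
        exact (hbK1 a a).2 (commutatorElement_self _)
      nondeg := fun x hx => by
        obtain ⟨a, rfl⟩ := mk_surj x
        refine (mk_eq_zero a).2 (hD ⟨hMC a.2, Subgroup.mem_centralizer_iff.2 fun m hm => ?_⟩)
        exact (commutatorElement_eq_one_iff_mul_comm.1 ((hbK1 a ⟨m, hm⟩).1 (hx (mk ⟨m, hm⟩)))).symm
      invariant := fun g x y h => by
        obtain ⟨a, rfl⟩ := mk_surj x
        obtain ⟨b, rfl⟩ := mk_surj y
        rw [hactW, hactW, hβmk, hbK1, hconjcomm]
        rw [hβmk, hbK1] at h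
        rw [h, mul_one, mul_inv_cancel]
      no_isotropic := fun Y hY hiso => by
        set N : Subgroup G :=
          { carrier := {g | ∃ h : g ∈ M, mk ⟨g, h⟩ ∈ Y}
            one_mem' := ⟨M.one_mem, Y.zero_mem⟩
            mul_mem' := fun {a b} ⟨ha, ha'⟩ ⟨hb, hb'⟩ => ⟨M.mul_mem ha hb, Y.add_mem ha' hb'⟩
            inv_mem' := fun {a} ⟨ha, ha'⟩ => ⟨M.inv_mem ha, Y.neg_mem ha'⟩ } with hN
        have hNeq : N = U := by
          refine hUtop N ⟨fun n ⟨hn, hn'⟩ g => ⟨Subgroup.Normal.conj_mem hMn n hn g, ?_⟩⟩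
            (fun a ⟨ha, ha'⟩ b ⟨hb, hb'⟩ => ?_)
            (fun u hu => ⟨hUM hu, by rw [(mk_eq_zero ⟨u, hUM hu⟩).2 hu]; exact Y.zero_mem⟩)
          · have e : (MulAut.conjNormal g ⟨n, hn⟩ : M) =
                ⟨g * n * g⁻¹, Subgroup.Normal.conj_mem hMn n hn g⟩ :=
              Subtype.ext (MulAut.conjNormal_apply g ⟨n, hn⟩)
            exact e ▸ hY g _ hn'
          · exact commutatorElement_eq_one_iff_mul_comm.1
              ((hbK1 ⟨a, ha⟩ ⟨b, hb⟩).1 (hiso _ ha' _ hb'))
        refine (AddSubgroup.eq_bot_iff_forall _).2 fun x hx => ?_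
        obtain ⟨a, rfl⟩ := mk_surj x
        exact (mk_eq_zero a).2 (hNeq ▸ (⟨a.2, hx⟩ : (a : G) ∈ N)) }
  -- a vector with maximal line stabilizer in `M`
  have hne0 : ∀ g (hg : g ∈ U), ψ g hg ≠ 0 := fun g hg e => by
    obtain ⟨x, hx⟩ := exists_ne (0 : V)
    refine hx ((smul_eq_zero_iff_eq g).1 ?_)
    rw [← hψ g hg, e]
    exact zero_smul R x
  have hscal : ∀ (a b : R) (x : V), x ≠ 0 → a • x = b • x → a = b := fun a b x hx h =>
    sub_eq_zero.1 ((hsmul0 (a - b) x (by rw [sub_smul, h, sub_self])).resolve_right hx)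
  let Mline : {v : V // v ≠ 0} → Subgroup G := fun v =>
    { carrier := {m | m ∈ M ∧ ∃ k : R, m • v.1 = k • v.1}
      one_mem' := ⟨M.one_mem, 1, by rw [one_smul, one_smul]⟩
      mul_mem' := fun {a b} ⟨ha, k, hk⟩ ⟨hb, l, hl⟩ => ⟨M.mul_mem ha hb, l * k, by
        rw [mul_smul a b, hl, hClin a (hMC ha), hk, smul_smul]⟩
      inv_mem' := fun {a} ⟨ha, k, hk⟩ => ⟨M.inv_mem ha, k⁻¹, by
        have hk0 : k ≠ 0 := fun e => v.2 ((smul_eq_zero_iff_eq a).1 (by
          rw [hk, e]; exact zero_smul R v.1))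
        rw [inv_smul_eq_iff, hClin a (hMC ha), hk, smul_smul, inv_mul_cancel₀ hk0, one_smul]⟩ }
  obtain ⟨⟨vmax, hvmax⟩, -, hmax⟩ := Set.exists_max_image (Set.univ : Set {v : V // v ≠ 0})
    (fun v => Nat.card (Mline v)) (Set.toFinite _)
    (by obtain ⟨x, hx⟩ := exists_ne (0 : V); exact ⟨⟨x, hx⟩, trivial⟩)
  set L := Mline ⟨vmax, hvmax⟩ with hLdef
  have hLM : L ≤ M := fun l hl => hl.1
  have hχex : ∀ l : G, ∃ k : R, l ∈ L → l • vmax = k • vmax := fun l => by
    by_cases hl : l ∈ L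
    · obtain ⟨k, hk⟩ := hl.2
      exact ⟨k, fun _ => hk⟩
    · exact ⟨0, fun h => absurd h hl⟩
  choose χ hχ using hχex
  have hχne : ∀ l ∈ L, χ l ≠ 0 := fun l hl e => hvmax ((smul_eq_zero_iff_eq l).1 (by
    rw [hχ l hl, e]; exact zero_smul R vmax))
  have hUL : U ≤ L := fun u hu => ⟨hUM hu, ψ u hu, (hψ u hu vmax).symm⟩
  have hLab : ∀ a ∈ L, ∀ b ∈ L, ⁅a, b⁆ = 1 := by
    intro a ha b hb
    have e1 : (a * b) • vmax = (b * a) • vmax := by
      rw [mul_smul, mul_smul, hχ b hb, hClin a (hMC ha.1), hχ a ha, hClin b (hMC hb.1), hχ b hb,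
        smul_smul, smul_smul, mul_comm]
    have e2 : ⁅a, b⁆ • vmax = vmax := by
      rw [show ⁅a, b⁆ = (a * b) * (b * a)⁻¹ by rw [commutatorElement_def]; group]
      have e3 : (b * a) • ((b * a)⁻¹ • vmax) = vmax := smul_inv_smul _ _
      have e4 : (a * b) • ((b * a)⁻¹ • vmax) = (b * a) • ((b * a)⁻¹ • vmax) := by
        have hc : ⁅a, b⁆ ∈ U := hMcomm a ha.1 b hb.1
        have hcv : ⁅a, b⁆ • vmax = vmax := by
          have e5 : ⁅a, b⁆ • ((b * a) • vmax) = (b * a) • vmax := by
            rw [smul_smul, show ⁅a, b⁆ * (b * a) = a * b by rw [commutatorElement_def]; group, e1]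
          have hba : b * a ∈ C := C.mul_mem (hMC hb.1) (hMC ha.1)
          rw [← hψ _ hc, ← hClin (b * a) hba, hψ _ hc] at e5
          exact MulAction.injective (b * a) e5
        rw [show a * b = ⁅a, b⁆ * (b * a) by rw [commutatorElement_def]; group, mul_smul, e3, hcv]
      rw [mul_smul, e4, e3]
    exact hψinj _ (hMcomm a ha.1 b hb.1) (hscal _ _ vmax hvmax (by
      rw [hψ _ (hMcomm a ha.1 b hb.1), e2, one_smul]))
  set D : Subgroup G := M ⊓ Subgroup.centralizer (L : Set G) with hDdef'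
  have hDmem : ∀ d, d ∈ D ↔ d ∈ M ∧ ∀ l ∈ L, l * d = d * l := fun d =>
    ⟨fun h => ⟨h.1, Subgroup.mem_centralizer_iff.1 h.2⟩,
      fun h => ⟨h.1, Subgroup.mem_centralizer_iff.2 h.2⟩⟩
  have hLD : L ≤ D := fun l hl => (hDmem l).2 ⟨hLM hl,
    fun k hk => commutatorElement_eq_one_iff_mul_comm.1 (hLab k hk l hl)⟩
  have hDM : D ≤ M := inf_le_left
  -- maximality
  have hmaxmem : ∀ w : V, w ≠ 0 → (∀ l ∈ L, l • w = χ l • w) →
      ∀ m ∈ M, ∀ k : R, m • w = k • w → m ∈ L := by
    intro w hw hwL m hm k hk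
    have hle : L ≤ Mline ⟨w, hw⟩ := fun l hl => ⟨hLM hl, χ l, hwL l hl⟩
    have heq := Subgroup.eq_of_le_of_card_ge hle (hmax ⟨w, hw⟩ trivial)
    rw [heq]
    exact ⟨hm, k, hk⟩
  -- units and powers of the generator
  have hθpow : ∀ k : R, k ≠ 0 → ∃ n : ℕ, k = θ ^ n := fun k hk => by
    obtain ⟨n, hn⟩ := (mem_powers_iff_mem_zpowers (x := θu)).2 (hθu (Units.mk0 _ hk))
    refine ⟨n, ?_⟩
    have := congrArg Units.val hn
    simpa [hθ] using this.symm
  -- no `r`-th roots outside `L`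
  have hroot : ∀ y ∈ D, ∀ r : ℕ, r.Prime → ∀ hy : y ^ r ∈ U, ∀ k : R, ψ (y ^ r) hy = k ^ r →
      y ∈ L := by
    intro y hyD r hr hy k hk
    by_contra hyL
    have hyU : y ∉ U := fun h => hyL (hUL h)
    have hk0 : k ≠ 0 := fun e => hne0 _ hy (by rw [hk, e, zero_pow hr.ne_zero])
    -- a root of unity of order `r`
    obtain ⟨m, hm⟩ : ∃ m : M, ⁅y, (m : G)⁆ ≠ 1 := by
      by_contra hall
      push Not at hall
      exact hyU (hD ⟨hMC (hDM hyD), Subgroup.mem_centralizer_iff.2 fun m hm =>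
        (commutatorElement_eq_one_iff_mul_comm.1 (hall ⟨m, hm⟩)).symm⟩)
    set ζ := bK ⟨y, hDM hyD⟩ m with hζ
    have hζ1 : ζ ≠ 1 := fun e => hm ((hbK1 _ _).1 e)
    have hζr : ζ ^ r = 1 := by
      have h1 : bK (⟨y, hDM hyD⟩ ^ r) m = ζ ^ r := by
        have hp : ∀ n : ℕ, bK (⟨y, hDM hyD⟩ ^ n) m = ζ ^ n := by
          intro n
          induction n with
          | zero =>
            rw [pow_zero, pow_zero]
            exact hnull 1 m U.one_mem
          | succ n ih => rw [pow_succ, pow_succ, hleft, ih]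
        exact hp r
      rw [← h1]
      exact hnull _ m (by rw [SubmonoidClass.coe_pow]; exact hy)
    have hrR : (r : R) ≠ 0 := by
      intro h0
      haveI := Fact.mk hr
      haveI : CharP R r := by
        obtain ⟨p, hp⟩ := CharP.exists R
        haveI := hp
        have hdvd := (CharP.cast_eq_zero_iff R p r).1 h0
        rcases (Nat.dvd_prime hr).1 hdvd with h | h
        · exact absurd h (CharP.char_ne_one R p)
        · rwa [← h]
      refine hζ1 (sub_eq_zero.1 (eq_zero_of_pow_eq_zero (n := r) ?_))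
      rw [sub_pow_char, hζr, one_pow, sub_self]
    have hprim : IsPrimitiveRoot ζ r := by
      haveI := Fact.mk hr
      exact IsPrimitiveRoot.iff_orderOf.2 (orderOf_eq_prime hζr hζ1)
    -- eigenvectors of the twisted operator
    let T : ℕ → V := fun i => k⁻¹ ^ i • (y ^ i • vmax)
    have hTr : T r = vmax := by
      show k⁻¹ ^ r • (y ^ r • vmax) = vmax
      rw [← hψ (y ^ r) hy, hk, smul_smul, ← mul_pow, inv_mul_cancel₀ hk0, one_pow, one_smul]
    have hTy : ∀ i, y • T i = k • T (i + 1) := fun i => by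
      show y • (k⁻¹ ^ i • (y ^ i • vmax)) = k • (k⁻¹ ^ (i + 1) • (y ^ (i + 1) • vmax))
      rw [hClin y (hMC (hDM hyD)), smul_smul y, ← pow_succ' y, smul_smul k, pow_succ' k⁻¹,
        ← mul_assoc, mul_inv_cancel₀ hk0, one_mul]
    let w : ℕ → V := fun j => ∑ i ∈ range r, (ζ⁻¹ ^ j) ^ i • T i
    have hTL : ∀ i, ∀ l ∈ L, l • T i = χ l • T i := by
      intro i l hl
      show l • (k⁻¹ ^ i • (y ^ i • vmax)) = χ l • (k⁻¹ ^ i • (y ^ i • vmax))
      have hcomm : l * y ^ i = y ^ i * l :=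
        (Commute.pow_right (((hDmem y).1 hyD).2 l hl) i)
      rw [hClin l (hMC (hLM hl)), smul_smul l, hcomm, mul_smul, hχ l hl,
        hClin _ (C.pow_mem (hMC (hDM hyD)) i), smul_smul, smul_smul, mul_comm]
    have hT0 : T 0 = vmax := by
      show k⁻¹ ^ 0 • (y ^ 0 • vmax) = vmax
      rw [pow_zero, pow_zero, one_smul G, one_smul R]
    clear_value T
    have hwL : ∀ j, ∀ l ∈ L, l • w j = χ l • w j := by
      intro j l hl
      simp only [w, Finset.smul_sum]
      refine Finset.sum_congr rfl fun i _ => ?_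
      rw [hClin l (hMC (hLM hl)), hTL i l hl, smul_smul, smul_smul, mul_comm]
    have hsum : ∑ j ∈ range r, w j = (r : R) • vmax := by
      simp only [w]
      rw [Finset.sum_comm, Finset.sum_eq_single 0]
      · simp only [pow_zero, one_smul, Finset.sum_const, Finset.card_range]
        rw [hT0]
        exact (Nat.cast_smul_eq_nsmul R r vmax).symm
      · intro i hi hi0
        rw [← Finset.sum_smul]
        have hi' := Finset.mem_range.1 hi
        have h1 : (ζ⁻¹ ^ i) ≠ 1 := hprim.inv.pow_ne_one_of_pos_of_lt hi0 hi'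
        have h2 : ∑ j ∈ range r, (ζ⁻¹ ^ j) ^ i = 0 := by
          simp only [← pow_mul, mul_comm _ i]
          simp only [pow_mul]
          rw [geom_sum_eq h1, ← pow_mul, mul_comm, pow_mul, inv_pow, hζr, inv_one, one_pow,
            sub_self, zero_div]
        rw [h2]
        exact zero_smul R _
      · intro h
        exact absurd (Finset.mem_range.2 hr.pos) h
    obtain ⟨j, hj⟩ : ∃ j, w j ≠ 0 := by
      by_contra hall
      push Not at hall
      rw [Finset.sum_eq_zero fun j _ => hall j] at hsum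
      exact ((hsmul0 _ _ hsum.symm).resolve_right hvmax |> hrR)
    refine hyL (hmaxmem (w j) hj (hwL j) y (hDM hyD) (k * ζ ^ j) ?_)
    have hζ0 : ζ ≠ 0 := hprim.ne_zero hr.ne_zero
    show y • (∑ i ∈ range r, (ζ⁻¹ ^ j) ^ i • T i) = (k * ζ ^ j) • ∑ i ∈ range r, (ζ⁻¹ ^ j) ^ i • T i
    have e1 : ∀ i, y • ((ζ⁻¹ ^ j) ^ i • T i) = (k * ζ ^ j) • ((ζ⁻¹ ^ j) ^ (i + 1) • T (i + 1)) := by
      intro i
      rw [hClin y (hMC (hDM hyD)), hTy, smul_smul, smul_smul]
      congr 1
      rw [pow_succ (ζ⁻¹ ^ j), inv_pow ζ j]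
      field_simp
    rw [Finset.smul_sum, Finset.sum_congr rfl (fun i _ => e1 i), ← Finset.smul_sum]
    congr 1
    have h1 := Finset.sum_range_succ' (fun i => (ζ⁻¹ ^ j) ^ i • T i) r
    rw [Finset.sum_range_succ] at h1
    have h2 : (ζ⁻¹ ^ j) ^ r • T r = (ζ⁻¹ ^ j) ^ 0 • T 0 := by
      rw [hTr, ← pow_mul, mul_comm, pow_mul, inv_pow, hζr, inv_one, one_pow, pow_zero]
      rw [hT0]
    rw [h2] at h1
    exact (add_right_cancel h1).symm
  -- replacing an element by a power of prime order modulo `U`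
  haveI : Finite W := Finite.of_surjective mk mk_surj
  have hnsmul : ∀ (m : M) (n : ℕ), n • mk m = mk (m ^ n) := fun _ _ => rfl
  have hord : ∀ (r : ℕ), r.Prime → ∀ m : M, r ∣ addOrderOf (mk m) →
      ∃ s : ℕ, Nat.Coprime s r ∧ ((m : G) ^ s) ^ r ∈ U := by
    intro r hr m hd
    obtain ⟨s, hs⟩ := hd
    refine ⟨s, ?_, ?_⟩
    · rw [Nat.coprime_comm, hr.coprime_iff_not_dvd]
      rintro ⟨t, rfl⟩
      have h1 : r • (r • (t • mk m)) = 0 := by
        rw [smul_smul, smul_smul, mul_assoc, ← hs]; exact addOrderOf_nsmul_eq_zero _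
      have h2 := hpair.squarefree_exponent h1
      rw [smul_smul] at h2
      have h3 := addOrderOf_dvd_of_nsmul_eq_zero h2
      have hpos : 0 < addOrderOf (mk m) := addOrderOf_pos _
      have h4 := Nat.le_of_dvd (Nat.pos_of_ne_zero fun h => by rw [hs, ← mul_assoc, mul_assoc, h, mul_zero] at hpos; omega) h3
      rw [hs] at h4
      have := hr.two_le
      have ht : 0 < t := Nat.pos_of_ne_zero fun h => by
        rw [hs, h] at hpos
        simp at hpos
      nlinarith [Nat.mul_le_mul_right t (Nat.mul_le_mul_left r this)]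
    · rw [← pow_mul, mul_comm]
      have h1 := addOrderOf_nsmul_eq_zero (mk m)
      rw [hs, hnsmul, mk_eq_zero, SubmonoidClass.coe_pow] at h1
      exact h1
  -- commutator bookkeeping inside `D`
  have hcpow : ∀ (a b : M) (n : ℕ), bK (a ^ n) b = bK a b ^ n := fun a b n => by
    induction n with
    | zero => rw [pow_zero, pow_zero]; exact hnull 1 b U.one_mem
    | succ n ih => rw [pow_succ, pow_succ, hleft, ih]
  have hcpow' : ∀ (a b : M) (n : ℕ), bK a (b ^ n) = bK a b ^ n := fun a b n => by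
    induction n with
    | zero => rw [pow_zero, pow_zero]; exact hnull' 1 a U.one_mem
    | succ n ih => rw [pow_succ, pow_succ, hright, ih]
  let LW : AddSubgroup W :=
    { carrier := {x | ∃ m : M, (m : G) ∈ L ∧ mk m = x}
      zero_mem' := ⟨1, L.one_mem, rfl⟩
      add_mem' := fun {a b} ⟨m, hm, ha⟩ ⟨n, hn, hb⟩ =>
        ⟨m * n, L.mul_mem hm hn, by rw [← ha, ← hb]; rfl⟩
      neg_mem' := fun {a} ⟨m, hm, ha⟩ => ⟨m⁻¹, L.inv_mem hm, by rw [← ha]; rfl⟩ }
  have hperp : ∀ m : M, mk m ∈ hpair.perp LW ↔ (m : G) ∈ D := by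
    intro m
    constructor
    · intro h
      refine (hDmem _).2 ⟨m.2, fun l hl => ?_⟩
      have h1 := h (mk ⟨l, hLM hl⟩) ⟨⟨l, hLM hl⟩, hl, rfl⟩
      rw [hβmk, hbK1] at h1
      exact commutatorElement_eq_one_iff_mul_comm.1 h1
    · rintro h _ ⟨l, hl, rfl⟩
      rw [hβmk, hbK1]
      exact commutatorElement_eq_one_iff_mul_comm.2 (((hDmem _).1 h).2 l hl)
  have hcentre : ∀ d : M, (d : G) ∈ D → (∀ e : M, (e : G) ∈ D → bK d e = 1) → (d : G) ∈ L := by
    intro d hd hall
    have h1 : mk d ∈ hpair.perp (hpair.perp LW) := by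
      intro x hx
      obtain ⟨e, rfl⟩ := mk_surj x
      rw [hβmk]
      have := hswap d e
      rwa [hall e ((hperp e).1 hx), one_mul] at this
    rw [hpair.perp_perp] at h1
    obtain ⟨l, hl, he⟩ := h1
    have h2 : (l⁻¹ * d : M).1 ∈ U := (mk_eq_zero _).1 (by
      show -mk l + mk d = 0
      rw [he, neg_add_cancel])
    have := L.mul_mem hl (hUL h2)
    rwa [Subgroup.coe_mul, InvMemClass.coe_inv, mul_inv_cancel_left] at this
  -- an element outside `L` of prime order modulo `U` forces the prime two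
  have hanis : ∀ r : ℕ, r.Prime → ∀ y : M, (y : G) ∈ D → (y : G) ∉ L → ∀ hy : (y : G) ^ r ∈ U,
      r = 2 ∧ ∃ n, Odd n ∧ ψ ((y : G) ^ r) hy = θ ^ n := by
    intro r hr y hyD hyL hy
    obtain ⟨z1, hz1D, hc⟩ : ∃ z : M, (z : G) ∈ D ∧ bK y z ≠ 1 := by
      by_contra hall
      push Not at hall
      exact hyL (hcentre y hyD hall)
    have hcr : ∀ z, bK y z ^ r = 1 := fun z => by
      rw [← hcpow]
      exact hnull _ _ (by rw [SubmonoidClass.coe_pow]; exact hy)
    have hrz : r ∣ addOrderOf (mk z1) := by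
      by_contra hnd
      have h1 : bK y z1 ^ addOrderOf (mk z1) = 1 := by
        rw [← hcpow']
        refine hnull' _ _ ?_
        rw [← mk_eq_zero, ← hnsmul]
        exact addOrderOf_nsmul_eq_zero _
      have := pow_gcd_eq_one.2 ⟨h1, hcr z1⟩
      rw [Nat.gcd_comm, (hr.coprime_iff_not_dvd.2 hnd)] at this
      exact hc (by rwa [pow_one] at this)
    obtain ⟨s, hs, hzU⟩ := hord r hr z1 hrz
    set z : M := z1 ^ s with hzdef
    have hzD : (z : G) ∈ D := by rw [SubmonoidClass.coe_pow]; exact D.pow_mem hz1D s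
    have hyz : bK y z ≠ 1 := by
      rw [hzdef, hcpow']
      intro h1
      have := pow_gcd_eq_one.2 ⟨h1, hcr z1⟩
      rw [hs] at this
      exact hc (by rwa [pow_one] at this)
    have hzL : (z : G) ∉ L := fun h => hyz ((hbK1 y z).2
      (commutatorElement_eq_one_iff_mul_comm.2 (((hDmem _).1 hyD).2 _ h).symm))
    have hzU' : (z : G) ^ r ∈ U := by rw [SubmonoidClass.coe_pow]; exact hzU
    obtain ⟨a, ha⟩ := hθpow _ (hne0 _ hy)
    obtain ⟨b, hb⟩ := hθpow _ (hne0 _ hzU')
    have hra : ¬ r ∣ a := fun ⟨t, ht⟩ =>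
      hyL (hroot _ hyD r hr hy (θ ^ t) (by rw [ha, ht, ← pow_mul, mul_comm]))
    by_cases hr2 : r = 2
    · subst hr2
      exact ⟨rfl, a, Nat.odd_iff.2 (by omega), ha⟩
    exfalso
    haveI := Fact.mk hr
    obtain ⟨i, hi⟩ : ∃ i : ℕ, r ∣ i * a + b := by
      have ha0 : (a : ZMod r) ≠ 0 := by rwa [Ne, ZMod.natCast_eq_zero_iff]
      refine ⟨(-(b : ZMod r) / (a : ZMod r)).val, ?_⟩
      rw [← ZMod.natCast_eq_zero_iff]
      push_cast
      rw [ZMod.natCast_zmod_val, div_mul_cancel₀ _ ha0, neg_add_cancel]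
    obtain ⟨t, ht⟩ := hi
    -- the product of a power with `z`
    set c := ⁅(z : G), (y : G) ^ i⁆ with hcdef
    have hcU : c ∈ U := hMcomm _ z.2 _ (M.pow_mem y.2 i)
    have hprod : ∀ n : ℕ, ((y : G) ^ i * z) ^ n = ((y : G) ^ i) ^ n * (z : G) ^ n * c ^ n.choose 2 := by
      intro n
      induction n with
      | zero => simp
      | succ n ih =>
        have hcomm : ∀ x ∈ M, c * x = x * c := fun x hx => (hCu x (hMC hx) c hcU).symm
        have hyi : (y : G) ^ i ∈ M := M.pow_mem y.2 i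
        have hzn : ∀ n : ℕ, (z : G) ^ n * (y : G) ^ i = (y : G) ^ i * (z : G) ^ n * c ^ n := by
          intro n
          induction n with
          | zero => simp
          | succ n ih =>
            have e1 : (z : G) * (y : G) ^ i = c * ((y : G) ^ i * z) := by
              rw [hcdef, commutatorElement_def]; group
            calc (z : G) ^ (n + 1) * (y : G) ^ i = (z : G) ^ n * ((z : G) * (y : G) ^ i) := by
                  rw [pow_succ, mul_assoc]
              _ = (z : G) ^ n * (y : G) ^ i * z * c := by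
                  rw [e1, hcomm _ (M.mul_mem hyi z.2)]; group
              _ = (y : G) ^ i * (z : G) ^ n * c ^ n * z * c := by rw [ih]
              _ = (y : G) ^ i * (z : G) ^ (n + 1) * c ^ (n + 1) := by
                  rw [mul_assoc ((y : G) ^ i * (z : G) ^ n) (c ^ n) (z : G),
                    Commute.pow_left (hcomm _ z.2) n, pow_succ, pow_succ]
                  group
        have hcn : ∀ (k : ℕ) (x : G), x ∈ M → c ^ k * x = x * c ^ k := fun k x hx =>
          Commute.pow_left (hcomm x hx) k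
        calc ((y : G) ^ i * z) ^ (n + 1)
            = ((y : G) ^ i) ^ n * (z : G) ^ n * c ^ n.choose 2 * ((y : G) ^ i * z) := by
              rw [pow_succ, ih]
          _ = ((y : G) ^ i) ^ n * ((z : G) ^ n * (y : G) ^ i) * z * c ^ n.choose 2 := by
              rw [mul_assoc _ (c ^ n.choose 2), hcn _ _ (M.mul_mem hyi z.2)]; group
          _ = ((y : G) ^ i) ^ n * ((y : G) ^ i * (z : G) ^ n * c ^ n) * z * c ^ n.choose 2 := by
              rw [hzn]
          _ = ((y : G) ^ i) ^ n * (y : G) ^ i * ((z : G) ^ n * z) * (c ^ n * c ^ n.choose 2) := by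
              rw [mul_assoc _ ((y : G) ^ i * (z : G) ^ n * c ^ n) (z : G),
                mul_assoc ((y : G) ^ i * (z : G) ^ n) (c ^ n) (z : G), hcn _ _ z.2]
              group
          _ = _ := by
              rw [← pow_succ, ← pow_succ, ← pow_add, Nat.choose_succ_succ', Nat.choose_one_right]
    have hc1 : c ^ r.choose 2 = 1 := by
      obtain ⟨t', ht'⟩ := hr.dvd_choose_self (k := 2) (by norm_num)
        (lt_of_le_of_ne hr.two_le (Ne.symm hr2))
      have hcr1 : c ^ r = 1 := by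
        refine FaithfulSMul.eq_of_smul_eq_smul (α := V) fun x => ?_
        have e1 : ∀ n : ℕ, c ^ n • x = (bK z (y ^ i)) ^ n • x := by
          intro n
          induction n with
          | zero => rw [pow_zero, pow_zero, one_smul, one_smul]
          | succ n ih =>
            rw [pow_succ' c, mul_smul, ih, pow_succ' (bK z (y ^ i)), mul_smul,
              ← hψ c hcU]
            rfl
        rw [e1, hcpow', ← pow_mul, mul_comm, pow_mul]
        have := hswap y z
        rw [show bK z y ^ r = 1 from by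
          have h2 : bK z y ^ r * bK y z ^ r = 1 := by rw [← mul_pow, mul_comm, this, one_pow]
          rwa [hcr, mul_one] at h2, one_pow, one_smul, one_smul]
      rw [ht', pow_mul, hcr1, one_pow]
    have hpowU : ((y : G) ^ i * z) ^ r ∈ U := by
      rw [hprod r, hc1, mul_one, ← pow_mul, mul_comm, pow_mul]
      exact U.mul_mem (U.pow_mem hy i) hzU'
    have hval : ψ (((y : G) ^ i * z) ^ r) hpowU = (θ ^ t) ^ r := by
      obtain ⟨x, hx⟩ := exists_ne (0 : V)
      refine hscal _ _ x hx ?_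
      rw [hψ _ hpowU, hprod r, hc1, mul_one, ← pow_mul, mul_comm i, pow_mul, mul_smul,
        ← hψ _ hzU', hb]
      have e1 : ∀ n : ℕ, ∀ x : V, ((y : G) ^ r) ^ n • x = (θ ^ a) ^ n • x := by
        intro n
        induction n with
        | zero => intro x; rw [pow_zero, pow_zero, one_smul, one_smul]
        | succ n ih => intro x; rw [pow_succ, mul_smul, ← hψ _ hy, ha, ih, pow_succ, mul_smul]
      rw [e1, smul_smul, ← pow_mul, ← pow_add, ← pow_mul, mul_comm a i, ht, mul_comm t r]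
    have hyzD : (y : G) ^ i * z ∈ D := D.mul_mem (D.pow_mem hyD i) hzD
    have hinL := hroot _ hyzD r hr hpowU _ hval
    refine hyz ?_
    have e1 : bK y (y ^ i * z) = 1 := (hbK1 _ _).2 (commutatorElement_eq_one_iff_mul_comm.2 (by
      have := (((hDmem _).1 hyD).2 _ hinL)
      rw [Subgroup.coe_mul, SubmonoidClass.coe_pow]; exact this.symm))
    rw [hright, hcpow', (hbK1 y y).2 (commutatorElement_self _), one_pow, one_mul] at e1
    exact e1
  -- the vector and its `D`-span
  have hnsq : ∀ n : ℕ, Odd n → (-1 : R) ≠ 1 → ¬ IsSquare (θ ^ n) := by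
    rintro n ⟨j, rfl⟩ hone ⟨q, hq⟩
    have hq0 : q ≠ 0 := fun e => pow_ne_zero (2 * j + 1) θu.ne_zero (by rw [hq, e, mul_zero])
    obtain ⟨i, rfl⟩ := hθpow q hq0
    have heven : 2 ∣ Nat.card Rˣ := by
      haveI : Fact (Nat.Prime 2) := ⟨Nat.prime_two⟩
      have h1 : orderOf (-1 : Rˣ) = 2 := orderOf_eq_prime (by simp) fun h =>
        hone (congrArg Units.val h)
      rw [← h1]; exact orderOf_dvd_natCard _
    have hq' : θu ^ (2 * j + 1) = θu ^ (i + i) := Units.ext (by
      rw [Units.val_pow_eq_pow_val, Units.val_pow_eq_pow_val, pow_add θ i i]; exact hq)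
    have hd : (2 * j + 1) % Nat.card Rˣ = (i + i) % Nat.card Rˣ := by
      have := pow_inj_mod.1 hq'
      rwa [orderOf_eq_card_of_forall_mem_zpowers hθu] at this
    have h1 := congrArg (· % 2) hd
    simp only [Nat.mod_mod_of_dvd _ heven] at h1
    omega
  obtain ⟨v, hv, hvL, y0, hy0D, hspan, hcase⟩ : ∃ v : V, v ≠ 0 ∧ (∀ l ∈ L, l • v = χ l • v) ∧
      ∃ y0 ∈ D, (∀ d ∈ D, ∃ a b : R, d • v = a • v + b • (y0 • v)) ∧
      (D ≤ L ∧ y0 = 1 ∨ y0 ∉ L ∧ y0 ^ 2 ∈ U ∧ ∃ z ∈ D, ∃ hz : z ^ 2 ∈ U, ∃ hy : y0 ^ 2 ∈ U,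
        (∀ x : V, z • y0 • x = -(y0 • z • x)) ∧ (-1 : R) ≠ 1 ∧
        ¬ IsSquare (ψ (y0 ^ 2) hy) ∧ ¬ IsSquare (ψ (z ^ 2) hz) ∧
        ∀ d ∈ D, ∃ i j : Bool, ∃ l ∈ L,
          d = (if i then y0 else 1) * (if j then z else 1) * l) := by
    by_cases hDL : D ≤ L
    · exact ⟨vmax, hvmax, hχ, 1, D.one_mem, fun d hd => ⟨χ d, 0, by
        rw [hχ d (hDL hd)]
        exact ((congrArg (χ d • vmax + ·) (zero_smul R _)).trans (add_zero _)).symm⟩,
        Or.inl ⟨hDL, rfl⟩⟩
    -- a pair of anticommuting elements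
    have hprime : ∀ d : M, (d : G) ∈ D → (d : G) ∉ L → ∃ r s : ℕ, r.Prime ∧
        ((d : G) ^ s) ^ r ∈ U ∧ (d : G) ^ s ∉ L := by
      intro d hd hdL
      let P : Set ℕ := {n | 0 < n ∧ (d : G) ^ n ∈ L}
      have hPne : P.Nonempty := ⟨orderOf (d : G), orderOf_pos _,
        by rw [pow_orderOf_eq_one]; exact L.one_mem⟩
      obtain ⟨hN0, hNL⟩ := Nat.sInf_mem hPne
      have hN1 : sInf P ≠ 1 := fun h => hdL (by rw [h, pow_one] at hNL; exact hNL)
      obtain ⟨r, hr, hrN⟩ := Nat.exists_prime_and_dvd hN1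
      have hdiv : ∀ n, (d : G) ^ n ∈ L → sInf P ∣ n := fun n hn => by
        rw [Nat.dvd_iff_mod_eq_zero]
        by_contra hne
        have hlt := Nat.mod_lt n hN0
        have hmem : n % sInf P ∈ P := ⟨Nat.pos_of_ne_zero hne, by
          have e : (d : G) ^ (n % sInf P) = ((d : G) ^ (sInf P * (n / sInf P)))⁻¹ * (d : G) ^ n := by
            rw [eq_inv_mul_iff_mul_eq, ← pow_add, Nat.div_add_mod]
          rw [e]
          exact L.mul_mem (L.inv_mem (by rw [pow_mul]; exact L.pow_mem hNL _)) hn⟩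
        have := Nat.sInf_le hmem
        omega
      have hrd : r ∣ addOrderOf (mk d) := by
        refine hrN.trans (hdiv _ (hUL ?_))
        rw [← SubmonoidClass.coe_pow, ← mk_eq_zero, ← hnsmul]
        exact addOrderOf_nsmul_eq_zero _
      obtain ⟨s, hs, hsU⟩ := hord r hr d hrd
      refine ⟨r, s, hr, hsU, fun hmem => ?_⟩
      have := hrN.trans (hdiv s hmem)
      exact (hr.coprime_iff_not_dvd.1 hs.symm) this
    obtain ⟨d0, hd0, hd0L⟩ : ∃ d, d ∈ D ∧ d ∉ L := Set.not_subset.1 hDL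
    obtain ⟨r, s, hr, hyU', hyL'⟩ := hprime ⟨d0, hDM hd0⟩ hd0 hd0L
    set y : M := ⟨d0, hDM hd0⟩ ^ s with hydef
    have hyD : (y : G) ∈ D := by rw [SubmonoidClass.coe_pow]; exact D.pow_mem hd0 s
    have hyL : (y : G) ∉ L := by rw [SubmonoidClass.coe_pow]; exact hyL'
    have hyU : (y : G) ^ r ∈ U := by rw [SubmonoidClass.coe_pow]; exact hyU'
    obtain ⟨rfl, a, haodd, ha⟩ := hanis r hr y hyD hyL hyU
    -- the partner
    obtain ⟨z1, hz1D, hc⟩ : ∃ z : M, (z : G) ∈ D ∧ bK y z ≠ 1 := by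
      by_contra hall
      push Not at hall
      exact hyL (hcentre y hyD hall)
    have hc2 : ∀ z, bK y z * bK y z = 1 := fun z => by
      rw [← sq, ← hcpow]
      exact hnull _ _ (by rw [SubmonoidClass.coe_pow]; exact hyU)
    have hneg : ∀ z, bK y z ≠ 1 → bK y z = -1 := fun z hz =>
      (mul_self_eq_one_iff.1 (hc2 z)).resolve_left hz
    have hrz : 2 ∣ addOrderOf (mk z1) := by
      by_contra hnd
      have h1 : bK y z1 ^ addOrderOf (mk z1) = 1 := by
        rw [← hcpow']
        refine hnull' _ _ ?_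
        rw [← mk_eq_zero, ← hnsmul]
        exact addOrderOf_nsmul_eq_zero _
      have h2 : bK y z1 ^ 2 = 1 := by rw [sq]; exact hc2 z1
      have := pow_gcd_eq_one.2 ⟨h1, h2⟩
      rw [Nat.gcd_comm, (Nat.prime_two.coprime_iff_not_dvd.2 hnd)] at this
      exact hc (by rwa [pow_one] at this)
    obtain ⟨s', hs', hzU⟩ := hord 2 Nat.prime_two z1 hrz
    set z : M := z1 ^ s' with hzdef
    have hzD : (z : G) ∈ D := by rw [SubmonoidClass.coe_pow]; exact D.pow_mem hz1D s'
    have hyz : bK y z ≠ 1 := by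
      rw [hzdef, hcpow']
      intro h1
      have h2 : bK y z1 ^ 2 = 1 := by rw [sq]; exact hc2 z1
      have := pow_gcd_eq_one.2 ⟨h1, h2⟩
      rw [hs'] at this
      exact hc (by rwa [pow_one] at this)
    have hzL : (z : G) ∉ L := fun h => hyz ((hbK1 y z).2
      (commutatorElement_eq_one_iff_mul_comm.2 (((hDmem _).1 hyD).2 _ h).symm))
    have hzU' : (z : G) ^ 2 ∈ U := by rw [SubmonoidClass.coe_pow]; exact hzU
    obtain ⟨-, b, hbodd, hb⟩ := hanis 2 Nat.prime_two z hzD hzL hzU'
    have hm1 : bK y z = -1 := hneg z hyz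
    have hone : (-1 : R) ≠ 1 := fun h => hyz (hm1.trans h)
    -- `D` is generated by `L`, `y` and `z`
    have hgen : ∀ d : M, (d : G) ∈ D → ∃ i j : Bool, ∃ l ∈ L,
        (d : G) = (if i then (y : G) else 1) * (if j then (z : G) else 1) * l := by
      intro d hd
      let i : Bool := decide (bK z d ≠ 1)
      let j : Bool := decide (bK y d ≠ 1)
      let p : M := (if i then y else 1) * (if j then z else 1)
      have hpD : (p : G) ∈ D := by
        cases hi : i <;> cases hj : j <;> simp only [p, hi, hj] <;>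
          simp [D.mul_mem, D.one_mem, hyD, hzD]
      set t : M := p⁻¹ * d with ht
      have htD : (t : G) ∈ D := by
        rw [Subgroup.coe_mul, InvMemClass.coe_inv]; exact D.mul_mem (D.inv_mem hpD) hd
      have hzy : bK z y = -1 := by
        have := hswap y z
        rw [hm1, neg_one_mul, neg_eq_iff_eq_neg] at this
        exact this
      have hyy : bK y y = 1 := (hbK1 y y).2 (commutatorElement_self _)
      have hzz : bK z z = 1 := (hbK1 z z).2 (commutatorElement_self _)
      have hz2 : ∀ x, bK z x * bK z x = 1 := fun x => by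
        rw [← sq, ← hcpow]
        exact hnull _ _ (by rw [SubmonoidClass.coe_pow]; exact hzU')
      have hy1 : ∀ x, bK x (1 : M) = 1 := fun x => hnull' 1 x U.one_mem
      have ht0 : bK y t = 1 ∧ bK z t = 1 := by
        have key : ∀ x : M, bK y x = bK y p → bK z x = bK z p → bK y (p⁻¹ * x) = 1 ∧
            bK z (p⁻¹ * x) = 1 := fun x h1 h2 => by
          constructor <;> rw [hright]
          · rw [h1, ← hright, inv_mul_cancel]; exact hy1 _
          · rw [h2, ← hright, inv_mul_cancel]; exact hy1 _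
        refine key d ?_ ?_
        · show _ = bK y ((if i then y else 1) * (if j then z else 1))
          rw [hright]
          by_cases h : bK y d = 1 <;> by_cases h' : bK z d = 1 <;>
            simp [i, j, h, h', hy1, hyy, hm1] <;> exact hneg d h
        · show _ = bK z ((if i then y else 1) * (if j then z else 1))
          rw [hright]
          by_cases h : bK y d = 1 <;> by_cases h' : bK z d = 1 <;>
            simp [i, j, h, h', hy1, hzz, hzy] <;>
              exact (mul_self_eq_one_iff.1 (hz2 d)).resolve_left h'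
      have htL : (t : G) ∈ L := by
        by_contra htL
        obtain ⟨r', s'', hr', htU, htL'⟩ := hprime t htD htL
        set t' : M := t ^ s'' with ht'
        have ht'D : (t' : G) ∈ D := by rw [SubmonoidClass.coe_pow]; exact D.pow_mem htD _
        have ht'U : (t' : G) ^ r' ∈ U := by rw [SubmonoidClass.coe_pow]; exact htU
        have ht'L : (t' : G) ∉ L := by rw [SubmonoidClass.coe_pow]; exact htL'
        obtain ⟨rfl, c, hcodd, hc'⟩ := hanis r' hr' t' ht'D ht'L ht'U
        have hty : (t' : G) * y = y * t' := by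
          have h1 : bK y t' = 1 := by rw [ht', hcpow', ht0.1, one_pow]
          exact (commutatorElement_eq_one_iff_mul_comm.1 ((hbK1 _ _).1 h1)).symm
        have hU2 : ((t' : G) * y) ^ 2 ∈ U := by
          rw [Commute.mul_pow hty]; exact U.mul_mem ht'U hyU
        obtain ⟨q, hq⟩ := Nat.even_add.2 (iff_of_false (Nat.not_even_iff_odd.2 hcodd)
          (Nat.not_even_iff_odd.2 haodd))
        have hin := hroot _ (D.mul_mem ht'D hyD) 2 Nat.prime_two hU2 (θ ^ q) (by
          obtain ⟨x, hx⟩ := exists_ne (0 : V)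
          refine hscal _ _ x hx ?_
          rw [hψ _ hU2, Commute.mul_pow hty, mul_smul, ← hψ _ hyU, ← hψ _ ht'U, hc', ha,
            smul_smul, ← pow_add, hq, ← two_mul, mul_comm, pow_mul])
        have h1 : bK z (t' * y) = 1 := (hbK1 _ _).2 (commutatorElement_eq_one_iff_mul_comm.2 (by
          rw [Subgroup.coe_mul]
          exact (((hDmem _).1 hzD).2 _ hin).symm))
        rw [hright, ht', hcpow', ht0.2, one_pow, one_mul, hzy] at h1
        exact hone h1
      refine ⟨i, j, t, htL, ?_⟩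
      have hpv : (p : G) = (if i then (y : G) else 1) * (if j then (z : G) else 1) := by
        cases hi : i <;> cases hj : j <;> simp [p, hi, hj]
      rw [← hpv, show (t : G) = (p : G)⁻¹ * d from rfl, mul_inv_cancel_left]
    -- a combination squaring to one
    have hyv : ∀ x : V, (y : G) • (y : G) • x = θ ^ a • x := fun x => by
      rw [← ha, hψ _ hyU, sq, mul_smul]
    have hzv : ∀ x : V, (z : G) • (z : G) • x = θ ^ b • x := fun x => by
      rw [← hb, hψ _ hzU', sq, mul_smul]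
    have hzyv : ∀ x : V, (z : G) • (y : G) • x = -((y : G) • (z : G) • x) := fun x => by
      have hc : ⁅(y : G), (z : G)⁆ ∈ U := hMcomm _ y.2 _ z.2
      have e2 : (y : G) • (z : G) • x = (-1 : R) • ((z : G) • (y : G) • x) := by
        rw [← hm1]
        show _ = ψ ⁅(y : G), (z : G)⁆ hc • _
        rw [hψ _ hc, smul_smul, smul_smul, smul_smul]
        congr 1
        rw [commutatorElement_def]; group
      rw [e2, neg_one_smul, neg_neg]
    obtain ⟨α, β', hαβ⟩ : ∃ α β' : R, α ^ 2 * θ ^ a + β' ^ 2 * θ ^ b = 1 := by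
      open Polynomial in
      have hdeg1 : (Polynomial.C (θ ^ a) * X ^ 2 : R[X]).degree = 2 :=
        degree_C_mul_X_pow 2 (pow_ne_zero _ θu.ne_zero)
      open Polynomial in
      have hdeg2 : (Polynomial.C (θ ^ b) * X ^ 2 - 1 : R[X]).degree = 2 := by
        rw [degree_sub_eq_left_of_degree_lt] <;>
          rw [degree_C_mul_X_pow 2 (pow_ne_zero _ θu.ne_zero)]
        · rfl
        · rw [degree_one]; decide
      have hodd : Fintype.card R % 2 = 1 := by
        refine FiniteField.odd_card_of_char_ne_two (F := R) fun h2 => ?_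
        haveI : CharP R 2 := h2 ▸ ringChar.charP R
        exact hone (CharTwo.neg_eq 1)
      obtain ⟨α, β', h⟩ := FiniteField.exists_root_sum_quadratic hdeg1 hdeg2 hodd
      refine ⟨α, β', ?_⟩
      simp only [Polynomial.eval_mul, Polynomial.eval_sub, Polynomial.eval_pow, Polynomial.eval_C,
        Polynomial.eval_X, Polynomial.eval_one] at h
      linear_combination h
    have hβ0 : β' ≠ 0 := by
      intro h0
      subst h0
      rw [zero_pow two_ne_zero, zero_mul, add_zero] at hαβ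
      have hα0 : α ≠ 0 := fun e => by rw [e] at hαβ; simp at hαβ
      obtain ⟨n, rfl⟩ := hθpow α hα0
      have hu : θu ^ (n * 2 + a) = 1 := Units.ext (by
        rw [Units.val_pow_eq_pow_val, pow_add, pow_mul]; exact hαβ)
      have hd := orderOf_dvd_of_pow_eq_one hu
      rw [orderOf_eq_card_of_forall_mem_zpowers hθu] at hd
      have heven : 2 ∣ Nat.card Rˣ := by
        haveI : Fact (Nat.Prime 2) := ⟨Nat.prime_two⟩
        have h1 : orderOf (-1 : Rˣ) = 2 := orderOf_eq_prime (by simp) fun h =>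
          hone (congrArg Units.val h)
        rw [← h1]; exact orderOf_dvd_natCard _
      obtain ⟨t, rfl⟩ := haodd
      have := heven.trans hd
      omega
    let E : V → V := fun x => α • ((y : G) • x) + β' • ((z : G) • x)
    have hlin : ∀ (g : M) (k : R) (x : V), (g : G) • (k • x) = k • ((g : G) • x) :=
      fun g k x => hClin _ (hMC g.2) k x
    have hEE : ∀ x, E (E x) = x := fun x => by
      simp only [E, smul_add, hlin, hyv, hzv, hzyv, smul_neg, smul_smul]
      calc _ = (α * α * θ ^ a + β' * β' * θ ^ b) • x := by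
            rw [add_smul, mul_comm β' α]; abel
        _ = x := by rw [← sq, ← sq, hαβ, one_smul]
    have hV0 : ∀ (g : M), (g : G) ∈ D → ∀ x : V, (∀ l ∈ L, l • x = χ l • x) →
        ∀ l ∈ L, l • ((g : G) • x) = χ l • ((g : G) • x) := fun g hg x hx l hl => by
      rw [smul_smul, ((hDmem _).1 hg).2 l hl, mul_smul, hx l hl, hlin]
    have hEL : ∀ l ∈ L, l • E vmax = χ l • E vmax := fun l hl => by
      simp only [E, smul_add]
      rw [hClin l (hMC (hLM hl)), hClin l (hMC (hLM hl)), hV0 y hyD vmax hχ l hl,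
        hV0 z hzD vmax hχ l hl, smul_smul, smul_smul, smul_smul, smul_smul, mul_comm α,
        mul_comm β']
    obtain ⟨v, hv, hvL, ε, hεv⟩ : ∃ v : V, v ≠ 0 ∧ (∀ l ∈ L, l • v = χ l • v) ∧
        ∃ ε : R, E v = ε • v := by
      by_cases h0 : vmax + E vmax = 0
      · exact ⟨vmax, hvmax, hχ, -1, by rw [neg_one_smul]; exact eq_neg_of_add_eq_zero_right h0⟩
      · refine ⟨vmax + E vmax, h0, fun l hl => ?_, 1, ?_⟩
        · rw [smul_add l, hχ l hl, hEL l hl, ← smul_add]
        · rw [one_smul]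
          have : ∀ p q, E (p + q) = E p + E q := fun p q => by
            simp only [E, smul_add]; abel
          rw [this, hEE, add_comm]
    have hzspan : (z : G) • v = (β'⁻¹ * ε) • v + (-(β'⁻¹ * α)) • ((y : G) • v) := by
      have h1 : β' • ((z : G) • v) = ε • v - α • ((y : G) • v) := by
        rw [← hεv]; simp only [E]; abel
      calc (z : G) • v = β'⁻¹ • (β' • ((z : G) • v)) := by
            rw [smul_smul, inv_mul_cancel₀ hβ0, one_smul]
        _ = _ := by rw [h1, smul_sub, smul_smul, smul_smul, neg_smul, sub_eq_add_neg]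
    refine ⟨v, hv, hvL, (y : G), hyD, fun d hd => ?_, Or.inr ⟨hyL, hyU, (z : G), hzD, hzU', hyU,
      hzyv, hone, by rw [ha]; exact hnsq a haodd hone, by rw [hb]; exact hnsq b hbodd hone,
      fun d hd => hgen ⟨d, hDM hd⟩ hd⟩⟩
    obtain ⟨i, j, l, hl, hdeq⟩ := hgen ⟨d, hDM hd⟩ hd
    simp only at hdeq
    rw [hdeq, mul_smul, mul_smul, hvL l hl]
    have hjspan : ∃ a' b' : R, (if j then (z : G) else 1) • (χ l • v) =
        a' • v + b' • ((y : G) • v) := by
      cases j
      · exact ⟨χ l, 0, by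
        rw [if_neg (by simp), one_smul]
        exact ((congrArg (χ l • v + ·) (zero_smul R _)).trans (add_zero _)).symm⟩
      · exact ⟨_, _, by rw [if_pos rfl, hlin, hzspan, smul_add, smul_smul, smul_smul]⟩
    obtain ⟨a', b', hab⟩ := hjspan
    rw [hab]
    cases i
    · exact ⟨a', b', by rw [if_neg (by simp), one_smul]⟩
    · refine ⟨b' * θ ^ a, a', ?_⟩
      rw [if_pos rfl, smul_add, hlin, hlin, hyv, smul_smul, add_comm]
  have hle : L ≤ Mline ⟨v, hv⟩ := fun l hl => ⟨hLM hl, χ l, hvL l hl⟩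
  have hvmaxL : Mline ⟨v, hv⟩ = L :=
    (Subgroup.eq_of_le_of_card_ge hle (hmax ⟨v, hv⟩ trivial)).symm
  let ψ' : G → R := fun g => if hg : g ∈ U then ψ g hg else 0
  have hψ' : ∀ g (hg : g ∈ U), ψ' g = ψ g hg := fun g hg => dif_pos hg
  refine ⟨{
    F := R
    fld := inferInstance
    fin := inferInstance
    mod := inferInstance
    cj := cj
    hcj := hcj
    θ := θ
    hθ := hθpow
    hθlin := fun g hg => hClin g (hθC g hg)
    U := U
    M := M
    hUn := hUn
    hMn := hMn
    hUM := hUM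
    hUmax := hUtop
    ψ := ψ'
    hψ := fun u hu x => by rw [hψ' u hu]; exact (hψ u hu x).symm
    hfree := fun u hu x hx h => hψinj u hu (hscal _ _ x hx (by rw [hψ u hu, h, one_smul]))
    hMlin := fun m hm => hClin m (hMC hm)
    hMcomm := hMcomm
    hlinCM := fun g hg hgM => hD ⟨Subgroup.mem_centralizer_iff.2 fun u hu =>
        FaithfulSMul.eq_of_smul_eq_smul (α := V) fun x => by
          rw [mul_smul, mul_smul, ← hψ u hu, ← hψ u hu, hg],
      Subgroup.mem_centralizer_iff.2 fun m hm => (hgM m hm).symm⟩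
    hsqf := fun r hr m hm h => by
      have h2 : r • (r • mk ⟨m, hm⟩) = 0 := by
        rw [hnsmul, hnsmul, mk_eq_zero, SubmonoidClass.coe_pow, SubmonoidClass.coe_pow]; exact h
      have h3 := hpair.squarefree_exponent h2
      rw [hnsmul, mk_eq_zero, SubmonoidClass.coe_pow] at h3
      exact h3
    v := v
    hv := hv
    L := L
    D := D
    hL := fun m => by rw [← hvmaxL]; exact Iff.rfl
    χ := χ
    hχ := hvL
    hD := hDmem
    hLD := hLD
    y0 := y0
    hy0 := hy0D
    hspan := hspan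
    hmax := hmaxmem
    hcase := ?_ }⟩
  rcases hcase with h | ⟨h1, h2, z, hzD, hz, hy, h3, h4, h5, h6, h7⟩
  · exact Or.inl h
  · exact Or.inr ⟨h1, h2, z, hzD, hz, h3, h4, by rwa [hψ' _ hy], by rwa [hψ' _ hz], h7⟩

end CfsgLib.Perm.CoprimeBase
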