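import Cfsg.Agent.Lib.Perm.CoprimeBase.Analysis

/-!
# Pairs from sparse rigid subsets of the index set
-/

namespace CfsgLib.Perm.CoprimeBase

universe u

open CfsgLib.Perm.OddBase

namespace Frame

variable {G V : Type u} [Group G] [Finite G] [AddCommGroup V] [DistribMulAction G V] (fr : Frame G V)

/-- A power prime to `r` has `r`-th power in `U`. -/
theorem exists_pow {r : ℕ} (hr : r.Prime) {m : G} (hm : m ∈ fr.M) :
    ∃ s : ℕ, ¬ r ∣ s ∧ (m ^ s) ^ r ∈ fr.U := by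
  classical
  have hex : ∃ n, 0 < n ∧ m ^ n ∈ fr.U :=
    ⟨orderOf m, orderOf_pos m, by rw [pow_orderOf_eq_one]; exact fr.U.one_mem⟩
  obtain ⟨hn0, hn⟩ := Nat.find_spec hex
  by_cases hrn : r ∣ Nat.find hex
  · obtain ⟨s, hs⟩ := hrn
    refine ⟨s, fun ⟨t, ht⟩ => ?_, by rw [← pow_mul, mul_comm, ← hs]; exact hn⟩
    subst ht
    have h1 : ((m ^ t) ^ r) ^ r ∈ fr.U := by
      rw [← pow_mul, ← pow_mul, show t * (r * r) = r * (r * t) by ring, ← hs]; exact hn
    have h2 := fr.hsqf r hr _ (fr.M.pow_mem hm t) h1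
    have hpos : 0 < t * r := Nat.pos_of_ne_zero fun h0 => by
      rw [mul_comm] at h0
      rw [hs, h0, mul_zero] at hn0
      exact lt_irrefl 0 hn0
    refine Nat.find_min hex ?_ ⟨hpos, by rw [pow_mul]; exact h2⟩
    rw [hs]
    calc t * r = 1 * (r * t) := by ring
      _ < r * (r * t) := Nat.mul_lt_mul_of_pos_right hr.one_lt (by rw [mul_comm]; exact hpos)
  · exact ⟨_, hrn, by rw [← pow_mul, pow_mul]; exact fr.U.pow_mem hn r⟩

theorem sqFree : SqFree fr.X := by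
  intro r hr x hx
  obtain ⟨⟨m, hm⟩, rfl⟩ := fr.cl_surj x
  obtain ⟨s, hs, hsU⟩ := fr.exists_pow hr hm
  have h1 : s • (r • fr.cl ⟨m, hm⟩) = 0 := by
    rw [← fr.cl_pow, ← fr.cl_pow, fr.cl_eq_zero, SubmonoidClass.coe_pow, SubmonoidClass.coe_pow,
      ← pow_mul, mul_comm, pow_mul]
    exact fr.hUD hsU
  exact AddMonoid.addOrderOf_eq_one_iff.1 (Nat.dvd_one.1 ((hr.coprime_iff_not_dvd.2 hs) ▸
    Nat.dvd_gcd (addOrderOf_dvd_of_nsmul_eq_zero hx) (addOrderOf_dvd_of_nsmul_eq_zero h1)))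

/-- Representatives with `r`-th power in `U`. -/
theorem exists_sec {r : ℕ} (hr : r.Prime) {x : fr.X} (hx : r • x = 0) :
    ∃ m : fr.M, fr.cl m = x ∧ (m : G) ^ r ∈ fr.U := by
  obtain ⟨⟨m, hm⟩, rfl⟩ := fr.cl_surj x
  obtain ⟨s, hs, hsU⟩ := fr.exists_pow hr hm
  haveI := Fact.mk hr
  have hs0 : (s : ZMod r) ≠ 0 := by rwa [Ne, ZMod.natCast_eq_zero_iff]
  set t := ((s : ZMod r)⁻¹).val
  refine ⟨⟨m, hm⟩ ^ (s * t), ?_, ?_⟩
  · rw [fr.cl_pow]
    have h1 : ((s * t : ℕ) : ZMod r) = ((1 : ℕ) : ZMod r) := by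
      rw [Nat.cast_mul, ZMod.natCast_zmod_val, mul_inv_cancel₀ hs0, Nat.cast_one]
    have h2 : s * t % r = 1 := by
      rw [(ZMod.natCast_eq_natCast_iff' _ _ _).1 h1, Nat.one_mod_eq_one.2 hr.one_lt.ne']
    rw [← Nat.mod_add_div (s * t) r, h2, add_smul, one_smul, mul_comm, ← smul_smul, hx, smul_zero,
      add_zero]
  · rw [SubmonoidClass.coe_pow, ← pow_mul, show s * t * r = s * r * t by ring, pow_mul, pow_mul]
    exact fr.U.pow_mem hsU t

section Fix

variable {g : G} (hlin : fr.IsLin g) (hg : g • fr.v = fr.v)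
  (hy : g • fr.y0 • fr.v = fr.y0 • fr.v)

include hlin hg hy

omit [Finite G] in
theorem fix_class {m : fr.M} (h : g • (fr.sec (fr.cl m) : G) • fr.v = (fr.sec (fr.cl m) : G) • fr.v) :
    g • (m : G) • fr.v = (m : G) • fr.v := by
  have h1 := fr.fix_mul_D hlin hg hy (fr.sec (fr.cl m)).2
    ((fr.cl_eq _ m).1 (fr.cl_sec (fr.cl m))) h
  rwa [mul_inv_cancel_left] at h1

omit [Finite G] in
/-- A component returned to itself is fixed. -/
theorem fixed_of_comp (m : fr.M) (x : fr.X) (hm : fr.cl m = x) {c : fr.F} (hc : c ≠ 0)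
    (h : ((m : G)⁻¹ * (g * (m : G) * g⁻¹)) • g • c • fr.v = c • fr.v) :
    g • (fr.sec x : G) • fr.v = (fr.sec x : G) • fr.v := by
  rw [← mul_smul, show (m : G)⁻¹ * (g * (m : G) * g⁻¹) * g = (m : G)⁻¹ * (g * (m : G)) by group,
    mul_smul, inv_smul_eq_iff, mul_smul, fr.hMlin _ m.2, hlin] at h
  have hmv : g • (m : G) • fr.v = (m : G) • fr.v := smul_right_injective V hc h
  have h1 := fr.fix_mul_D hlin hg hy m.2
    ((fr.cl_eq m (fr.sec x)).1 (hm.trans (fr.cl_sec x).symm)) hmv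
  rwa [mul_inv_cancel_left] at h1

theorem kill_admissible (T : Finset fr.X) (hT : Admissible T)
    (hfix : ∀ x, x ∉ T → g • (fr.sec x : G) • fr.v = (fr.sec x : G) • fr.v) : g = 1 := by
  rcases hT with hT | hT
  · exact fr.kill hlin hg hy T hT hfix
  refine fr.kill hlin hg hy ∅ (by rw [Finset.card_empty, mul_zero]; exact Nat.card_pos) fun x _ => ?_
  refine hT {x | g • (fr.sec x : G) • fr.v = (fr.sec x : G) • fr.v} hfix
    (fun x p q r h1 h2 h3 h4 h5 h6 h7 => ?_) x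
  have hm : ∀ m : fr.M, ∀ z, fr.cl m = z →
      g • (fr.sec z : G) • fr.v = (fr.sec z : G) • fr.v → g • (m : G) • fr.v = (m : G) • fr.v := by
    rintro m _ rfl h
    exact fr.fix_class hlin hg hy h
  refine fr.cube hlin hg hy (p := fr.sec p) (q := fr.sec q) (r := fr.sec r) fun m h => ?_
  simp only [Set.mem_insert_iff, Set.mem_singleton_iff] at h
  rcases h with rfl | rfl | rfl | rfl | rfl | rfl | rfl
  exacts [hm _ _ (by simp [fr.cl_mul, fr.cl_sec]) h1, hm _ _ (by simp [fr.cl_mul, fr.cl_sec]) h2,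
    hm _ _ (by simp [fr.cl_mul, fr.cl_sec]) h3, hm _ _ (by simp [fr.cl_mul, fr.cl_sec]) h4,
    hm _ _ (by simp [fr.cl_mul, fr.cl_sec]) h5, hm _ _ (by simp [fr.cl_mul, fr.cl_sec]) h6,
    hm _ _ (by simp [fr.cl_mul, fr.cl_sec]) h7]

end Fix

/-- A section through `1`. -/
noncomputable def sec' (x : fr.X) : fr.M := open Classical in if x = 0 then 1 else fr.sec x

omit [Finite G] in
theorem cl_sec' (x : fr.X) : fr.cl (fr.sec' x) = x := by
  classical
  unfold sec'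
  split_ifs with h
  · rw [h]; exact fr.cl_one
  · exact fr.cl_sec x

/-- The key step for vectors with prescribed components. -/
theorem stab_components [Fintype fr.X] (s : fr.X → fr.M) (hs : ∀ x, fr.cl (s x) = x) (hs0 : s 0 = 1)
    (u : fr.X → V) (hu : ∀ x, fr.Ev (u x))
    (hw0 : ∀ g : G, g • fr.v = fr.v → g • u 0 = u 0 →
      fr.IsLin g ∧ g • fr.y0 • fr.v = fr.y0 • fr.v)
    {g : G} (hg : g • fr.v = fr.v)
    (hw : g • ∑ x, (s x : G) • u x = ∑ x, (s x : G) • u x) :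
    fr.IsLin g ∧ g • fr.y0 • fr.v = fr.y0 • fr.v ∧
      ∀ x, (s (fr.A hg x) : G)⁻¹ * (g * (s x : G) * g⁻¹) ∈ fr.D ∧
        ((s (fr.A hg x) : G)⁻¹ * (g * (s x : G) * g⁻¹)) • g • u x = u (fr.A hg x) := by
  have h := fun x => fr.compare hg s hs u hu hw x
  have h0 := (h 0).2
  rw [map_zero, hs0, Subgroup.coe_one, inv_one, one_mul, mul_one, mul_inv_cancel, one_smul] at h0
  exact ⟨(hw0 g hg h0).1, (hw0 g hg h0).2, h⟩

/-- Pairs from a rigid admissible subset. -/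
theorem hasPair_of_rigid [Nontrivial V] {p : ℕ} [Fact p.Prime] (hV : ∀ x : V, p • x = 0) (h2 : p ≠ 2)
    (T : Finset fr.X) (hT : IsRigid T) (hadm : Admissible T) : HasPair G V := by
  classical
  haveI : Fintype fr.X := Fintype.ofFinite _
  obtain ⟨w0, hev0, hw0⟩ := fr.exists_w0 hV h2
  let u : fr.X → V := fun x => if x = 0 then w0 else if x ∈ T then 0 else fr.v
  have hu : ∀ x, fr.Ev (u x) := fun x => by
    simp only [u]
    split_ifs
    exacts [hev0, fr.ev_zero, fr.ev_v]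
  refine ⟨fr.v, ∑ x, (fr.sec' x : G) • u x, fun g hg hw z => ?_⟩
  obtain ⟨hlin, hy, hcomp⟩ := fr.stab_components fr.sec' fr.cl_sec' (if_pos rfl) u hu
    (fun k hk h => hw0 k hk (by simpa [u] using h)) hg hw
  have hne : ∀ x, x ≠ 0 → fr.A hg x ≠ 0 := fun x hx h =>
    hx (fr.A_inj hg (h.trans (map_zero _).symm))
  have hA : ∀ x, fr.A hg x = x := hT.2 _ (fr.A_inj hg) fun x hx => by
    by_contra hn
    have hx0 : x ≠ 0 := fun e => hT.1 (e ▸ hx)
    have h := (hcomp x).2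
    simp only [u, if_neg hx0, if_pos hx, if_neg (hne x hx0), if_neg hn, smul_zero] at h
    exact fr.hv h.symm
  suffices g = 1 by rw [this, one_smul]
  refine fr.kill_admissible hlin hg hy T hadm fun x hx => ?_
  by_cases hx0 : x = 0
  · refine fr.fix_D hlin hg hy ?_
    rw [← fr.cl_eq_zero, fr.cl_sec, hx0]
  have h := (hcomp x).2
  simp only [hA x, u, if_neg hx0, if_neg hx, hg, sec'] at h
  rw [mul_smul, mul_smul, mul_smul, fr.g_inv hg] at h
  exact inv_smul_eq_iff.1 h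

end Frame

end CfsgLib.Perm.CoprimeBase
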