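import Cfsg.Agent.Lib.Perm.CoprimeBase.Exceptions
import Cfsg.Agent.Lib.Perm.CoprimeBase.Blocks
import Cfsg.Agent.Lib.Perm.OddBase.Main

/-!
# Coprime solvable linear groups have a base of size two
-/

namespace CfsgLib.Perm.CoprimeBase

universe u

open CfsgLib.Perm.OddBase

variable {G V : Type u} [Group G] [Finite G] [AddCommGroup V] [Finite V] [DistribMulAction G V]

/-- The case of a frame. -/
theorem Frame.hasPair [Nontrivial V] (fr : Frame G V) {p : ℕ} [Fact p.Prime]
    (hV : ∀ x : V, p • x = 0) (h2 : p ≠ 2) (hcop : (Nat.card G).Coprime p) : HasPair G V := by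
  by_cases h39 : Nat.card fr.X = 3 ∨ Nat.card fr.X = 9
  · exact fr.hasPair_three hV h2 h39
  by_cases h2X : ∃ n, (n = 2 ∨ n = 3 ∨ n = 4) ∧ Nat.card fr.X = 2 ^ n
  · obtain ⟨n, hn, hX⟩ := h2X
    have hsf := fr.sqFree
    have hdown : ∀ (m : ℕ) (x : fr.X), 2 ^ m • x = 0 → 2 • x = 0 := by
      intro m
      induction m with
      | zero => intro x hx; rw [pow_zero, one_smul] at hx; rw [hx, smul_zero]
      | succ m ih =>
        intro x hx
        rw [pow_succ, mul_smul] at hx
        exact hsf 2 Nat.prime_two x (ih _ hx)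
    have h2x : ∀ x : fr.X, 2 • x = 0 := fun x => hdown n x (by rw [← hX]; exact card_nsmul_eq_zero')
    letI : Module (ZMod 2) fr.X := AddCommGroup.zmodModule (n := 2) h2x
    have hr : Module.finrank (ZMod 2) fr.X = n := by
      have := Module.natCard_eq_pow_finrank (K := ZMod 2) (V := fr.X)
      rw [hX, Nat.card_zmod] at this
      exact (Nat.pow_right_injective le_rfl this).symm
    obtain ⟨C⟩ := fr.exists_coord hV h2 (Module.finBasisOfFinrankEq (ZMod 2) fr.X hr)
    exact fr.hasPair_small C hn hV h2 hcop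
  · push Not at h39 h2X
    obtain ⟨T, hT, hadm, -⟩ := exists_rigid fr.sqFree h39.1 (h2X 2 (Or.inl rfl))
      (h2X 3 (Or.inr (Or.inl rfl))) h39.2 (h2X 4 (Or.inr (Or.inr rfl)))
    exact fr.hasPair_of_rigid hV h2 T hT hadm

theorem hasPair_step [Group.IsSolvable G] {p : ℕ} [Fact p.Prime] (h2 : p ≠ 2)
    (hV : ∀ x : V, p • x = 0) (hcop : (Nat.card G).Coprime p)
    (IH : CoprimeBelow.{u} p (Nat.card V)) : HasPair G V := by
  classical
  have hcr : IsCR G V := isCR_of_coprime hV hcop
  by_cases hirr : IsIrred G V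
  swap
  · exact hasPair_reducible hV hcop IH hcr hirr
  rcases subsingleton_or_nontrivial V with h | h
  · exact ⟨0, 0, fun g _ _ x => Subsingleton.elim _ _⟩
  let φ : G →* (AddMonoid.End V)ˣ := (DistribMulAction.toAddMonoidEnd G V).toHomUnits
  letI : DistribMulAction φ.range V :=
    DistribMulAction.compHom V ((Units.coeHom (AddMonoid.End V)).comp φ.range.subtype)
  haveI : FaithfulSMul φ.range V := ⟨fun {a b} hab =>
    Subtype.ext (Units.ext (AddMonoidHom.ext hab))⟩
  haveI : Finite φ.range := Finite.of_surjective φ.rangeRestrict φ.rangeRestrict_surjective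
  haveI : Group.IsSolvable φ.range := solvable_of_surjective φ.rangeRestrict_surjective
  have hcop' : (Nat.card φ.range).Coprime p :=
    Nat.Coprime.coprime_dvd_left (Subgroup.card_range_dvd φ) hcop
  have hirr' : IsIrred φ.range V := fun U hU => hirr U fun g v hv => hU ⟨φ g, g, rfl⟩ v hv
  have key : HasPair φ.range V := by
    by_cases hfield : ∀ N : Subgroup φ.range, N.Normal → (∀ a ∈ N, ∀ b ∈ N, a * b = b * a) →
        ∀ r : AddMonoid.End V, r ∈ spanRing N → r ≠ 0 → Function.Injective r
    · obtain ⟨fr⟩ := exists_frame hfield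
      exact fr.hasPair hV h2 hcop'
    · simp only [not_forall] at hfield
      obtain ⟨N, hN, hab, r, hr, hr0, hri⟩ := hfield
      haveI := hN
      obtain ⟨ι, hι, hact, π, hπ, hidem, horth, hsum, hne, htwo⟩ :=
        exists_blocks_of_not_field hirr' N hab fun hall => hri (hall r hr hr0)
      letI := hι
      letI := hact
      exact hasPair_of_blocks h2 hV hcop' IH hirr' π hπ hidem horth hsum hne htwo
  obtain ⟨v, w, hk⟩ := key
  exact ⟨v, w, fun g hv hw x => hk ⟨φ g, g, rfl⟩ hv hw x⟩

theorem coprimeBelow {p : ℕ} [Fact p.Prime] (h2 : p ≠ 2) : ∀ n, CoprimeBelow.{u} p n := by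
  intro n
  induction n using Nat.strong_induction_on with
  | _ n ih =>
    intro G V _ _ _ _ _ _ hlt hV hcop
    exact hasPair_step h2 hV hcop (ih _ hlt)

/-- A coprime solvable group of automorphisms of an elementary abelian group has a base of size two. -/
theorem exists_pair (G V : Type u) [Group G] [Finite G] [Group.IsSolvable G] [AddCommGroup V] [Finite V]
    [DistribMulAction G V] {p : ℕ} [hp : Fact p.Prime] (hV : ∀ x : V, p • x = 0)
    (hcop : (Nat.card G).Coprime p) : HasPair G V := by
  rcases eq_or_ne p 2 with rfl | h2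
  · exact OddBase.exists_pair G V (Nat.coprime_two_right.1 hcop) (isCR_of_coprime hV hcop)
  · exact coprimeBelow h2 _ G V (Nat.lt_succ_self _) hV hcop

end CfsgLib.Perm.CoprimeBase
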