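import Cfsg.Agent.Lib.Perm.CoprimeBase.LinSearch

/-!
# Tests for automorphisms of small index sets

Three tests: preservation of classes, a quotient of coefficients which is quadratic, and a difference
of lines which is linear. A table of images on the codes below `2 ^ k` is tested at each stage.
-/

namespace CfsgLib.Perm.CoprimeBase

namespace Models

/-- The classes are preserved. -/
def okClass (col : List ℕ) (T : List ℕ) : Bool :=
  (List.range T.length).all fun x => col.getD (T.getD x 0) 0 == col.getD x 0

/-- The zero set is preserved; zero is coded by `md`. -/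
def okSupport (md : ℕ) (c : List ℕ) (T : List ℕ) : Bool :=
  (List.range T.length).all fun x =>
    (c.getD x 0 == md) == (c.getD (T.getD x 0) 0 == md)

/-- The exponent of the quotient of coefficients. -/
def lam (md : ℕ) (c : List ℕ) (T : List ℕ) (x : ℕ) : Option ℕ :=
  if c.getD x 0 == md || c.getD (T.getD x 0) 0 == md then none
  else some ((c.getD (T.getD x 0) 0 + md - c.getD x 0) % md)

/-- All values in a list agree and are allowed. -/
def constIn (allowed : ℕ → Bool) : List ℕ → Bool
  | [] => true
  | a :: l => allowed a && l.all fun b => b == a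

/-- The second difference at `x`. -/
def diff2 (md : ℕ) (c : List ℕ) (T : List ℕ) (q r x : ℕ) : Option ℕ :=
  match lam md c T (x ^^^ q ^^^ r), lam md c T x, lam md c T (x ^^^ q), lam md c T (x ^^^ r) with
  | some a, some b, some d, some e => some ((a + b + (md - d) + (md - e)) % md)
  | _, _, _, _ => none

/-- The quotient of coefficients has constant second differences. -/
def okPhase (md : ℕ) (c : List ℕ) (T : List ℕ) : Bool :=
  okSupport md c T &&
    ((List.range T.length).all fun x => match lam md c T x with
      | some a => 4 * a % md == 0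
      | none => true) &&
    (List.range T.length).all fun q => (List.range q).all fun r =>
      constIn (fun v => v == 0 || v == md / 2) ((List.range T.length).filterMap (diff2 md c T q r))

/-- The difference of lines at `x`; four means none. -/
def shift (φ : List ℕ) (T : List ℕ) (x : ℕ) : Option ℕ :=
  if φ.getD x 0 == 4 || φ.getD (T.getD x 0) 0 == 4 then none
  else some (φ.getD x 0 ^^^ φ.getD (T.getD x 0) 0)

/-- The difference of lines is linear. -/
def okLine (φ : List ℕ) (T : List ℕ) : Bool :=
  okSupport 4 φ T &&
    (List.range T.length).all fun q => constIn (fun _ => true)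
      ((List.range T.length).filterMap fun x => match shift φ T x, shift φ T (x ^^^ q) with
        | some a, some b => some (a ^^^ b)
        | _, _ => none)

/-- The final test. -/
def isRange (n : ℕ) (T : List ℕ) : Bool := T == List.range (2 ^ n)

def classes2 : List ℕ := [4, 0, 1, 2]
def classes3 : List ℕ := [4, 3, 1, 0, 2, 0, 0, 0]
def classes4 : List ℕ := [4, 3, 1, 2, 2, 0, 0, 0, 3, 0, 0, 0, 0, 0, 0, 0]
def classesNine4 : List ℕ := [4, 0, 0, 3, 1, 0, 0, 1, 1, 3, 0, 1, 1, 1, 3, 0]
def phaseNine3 : List ℕ := [0, 8, 2, 5, 7, 3, 3, 5]
def phaseFive4 : List ℕ := [0, 4, 3, 0, 1, 4, 1, 0, 3, 2, 2, 0, 0, 2, 3, 3]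
def line3 : List ℕ := [0, 4, 3, 0, 0, 2, 1, 1]
def line4 : List ℕ := [0, 4, 0, 4, 3, 1, 2, 3, 0, 1, 2, 1, 3, 3, 3, 0]

theorem classes2_rigid : LinSearch.search 2 (okClass classes2) (isRange 2) 2 [0] = true := by
  decide +kernel
theorem classes3_rigid : LinSearch.search 3 (okClass classes3) (isRange 3) 3 [0] = true := by
  decide +kernel
theorem classes4_rigid : LinSearch.search 4 (okClass classes4) (isRange 4) 4 [0] = true := by
  decide +kernel
theorem classesNine4_rigid : LinSearch.search 4 (okClass classesNine4) (isRange 4) 4 [0] = true := by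
  decide +kernel
theorem phaseNine3_rigid : LinSearch.search 3 (okPhase 8 phaseNine3) (isRange 3) 3 [0] = true := by
  decide +kernel
theorem line3_rigid : LinSearch.search 3 (okLine line3) (isRange 3) 3 [0] = true := by
  decide +kernel
theorem phaseFive4_rigid : LinSearch.search 4 (okPhase 4 phaseFive4) (isRange 4) 4 [0] = true := by
  decide +kernel
theorem line4_rigid : LinSearch.search 4 (okLine line4) (isRange 4) 4 [0] = true := by
  decide +kernel

end Models

end CfsgLib.Perm.CoprimeBase
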