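import Cfsg.Agent.Lib.Perm.CoprimeBase.Coord
import Cfsg.Agent.Lib.Perm.CoprimeBase.ModelSearch

/-!
# Pairs from colourings of small index sets of exponent two
-/

namespace CfsgLib.Perm.CoprimeBase

universe u

open CfsgLib.Perm.OddBase

theorem code_add {n : ℕ} {X : Type*} [AddCommGroup X] [Module (ZMod 2) X]
    (b : Module.Basis (Fin n) (ZMod 2) X) (x y : X) :
    Cert.code b (x + y) = Cert.code b x ^^^ Cert.code b y :=
  Cert.emb_inj b (Cert.code_lt b _) (Nat.xor_lt_two_pow (Cert.code_lt b _) (Cert.code_lt b _))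
    (by rw [Cert.emb_code, Cert.emb_xor, Cert.emb_code, Cert.emb_code])

/-- An endomorphism all whose tables pass is the identity. -/
theorem eq_id_of_search {n : ℕ} {X : Type*} [AddCommGroup X] [Module (ZMod 2) X]
    (b : Module.Basis (Fin n) (ZMod 2) X) (g : X →+ X) (hinj : Function.Injective g)
    {ok : List ℕ → Bool} (hok : ∀ k, k ≤ n → ok ((List.range (2 ^ k)).map (Cert.fn b g)) = true)
    (hs : LinSearch.search n ok (Models.isRange n) n [0] = true) (x : X) : g x = x :=
  Cert.eq_id_of_fn b g (by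
    have := LinSearch.sound ok (Models.isRange n) _ (Cert.fn_spec b g).1 (Cert.fn_spec b g).2.1
      ((Cert.fn_spec b g).2.2 hinj) (fun k _ hk => hok k hk) hs
    simpa [Models.isRange] using this) x

theorem table_getD (f : ℕ → ℕ) {N c : ℕ} (h : c < N) : ((List.range N).map f).getD c 0 = f c := by
  simp [List.getD_eq_getElem?_getD, h]

namespace Frame

variable {G V : Type u} [Group G] [Finite G] [AddCommGroup V] [Finite V] [DistribMulAction G V]
  [Nontrivial V] (fr : Frame G V) [Module (ZMod 2) fr.X] {n : ℕ} (C : fr.Coord n)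

omit [Finite G] [Finite V] [Nontrivial V] in
theorem card_X (C : fr.Coord n) : Nat.card fr.X = 2 ^ n := by
  haveI : Fintype fr.X := Module.fintypeOfFintype C.b
  rw [Nat.card_eq_fintype_card, Module.card_fintype C.b, ZMod.card, Fintype.card_fin]

omit [Finite G] [Finite V] [Nontrivial V] in
theorem ψ_m (x : fr.X) (h : (C.m x : G) ^ 2 ∈ fr.U) : C.k x ^ 2 * fr.ψ ((C.m x : G) ^ 2) = 1 := by
  refine fr.scal fr.hv ?_
  have := C.hadd x x fr.v
  rw [show x + x = 0 from Graph.self_add x, C.hk0, C.hm0, Subgroup.coe_one, one_smul, one_smul,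
    fr.hMlin _ (C.m x).2, ← mul_smul (C.m x : G), ← sq, fr.hψ _ h, smul_smul, smul_smul] at this
  rw [one_smul, sq]
  exact this

omit [Finite G] [Finite V] [Nontrivial V] in
/-- The action of a linear element on the multiples of the representatives. -/
theorem g_S {g : G} (hlin : fr.IsLin g) (hg : g • fr.v = fr.v) (x : fr.X) (w : V) :
    g • C.k x • (C.m x : G) • w = C.k x • (C.m (fr.A hg x) : G) •
      ((C.m (fr.A hg x) : G)⁻¹ * (g * (C.m x : G) * g⁻¹)) • g • w := by
  rw [hlin, smul_smul (C.m (fr.A hg x) : G), mul_inv_cancel_left, smul_smul (g * (C.m x : G) * g⁻¹),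
    smul_smul g (C.m x : G)]
  congr 2
  group

/-- The representatives square into `U`. -/
theorem m_sq (x : fr.X) (hne : (-1 : fr.F) ≠ 1) : (C.m x : G) ^ 2 ∈ fr.U := by
  have h2 : (C.m x : G) ^ 2 ∈ fr.M := fr.M.pow_mem (C.m x).2 2
  have hscal : ∀ w : V, (C.m x : G) ^ 2 • w = (C.k x * C.k x)⁻¹ • w := fun w => by
    have := C.hadd x x w
    rw [show x + x = 0 from Graph.self_add x, C.hk0, C.hm0, Subgroup.coe_one, one_smul, one_smul,
      fr.hMlin _ (C.m x).2, ← mul_smul (C.m x : G), ← sq, smul_smul] at this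
    conv_rhs => rw [← this]
    rw [inv_smul_smul₀ (mul_ne_zero (C.hk x) (C.hk x))]
  refine fr.hlinCM _ (fr.hMlin _ h2) fun a ha => fr.comm_of_β h2 ha ?_
  exact fr.β_eq h2 ha fr.hv (by rw [hscal, hscal, fr.hMlin a ha, one_smul])

include C in
/-- The scalar of a class is killed, the others are distinguished by fourth powers. -/
theorem hasPair_classes {p : ℕ} [Fact p.Prime] (hV : ∀ x : V, p • x = 0) (h2 : p ≠ 2)
    (col : List ℕ) (t : ℕ → fr.F) (hsearch : LinSearch.search n (Models.okClass col)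
      (Models.isRange n) n [0] = true)
    (h0 : col.getD 0 0 = 4) (hcol : ∀ c, 0 < c → c < 2 ^ n → col.getD c 0 ≤ 3)
    (hzero : 4 * ((Finset.range (2 ^ n)).filter fun c => col.getD c 0 = 3).card < 2 ^ n)
    (ht : ∀ c c', 0 < c → c < 2 ^ n → 0 < c' → c' < 2 ^ n → col.getD c 0 ≠ 3 → col.getD c' 0 ≠ 3 →
      t (col.getD c 0) ≠ 0 ∧ (t (col.getD c 0) ^ 4 = t (col.getD c' 0) ^ 4 → col.getD c 0 = col.getD c' 0)) :
    HasPair G V := by
  classical
  haveI : Fintype fr.X := Fintype.ofFinite _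
  have hne := fr.char_two_ne hV h2
  obtain ⟨w0, hev0, hw0⟩ := fr.exists_w0 hV h2
  let cx : fr.X → fr.F := fun x =>
    if col.getD (Cert.code C.b x) 0 = 3 then 0 else t (col.getD (Cert.code C.b x) 0)
  let u : fr.X → V := fun x => if x = 0 then w0 else (cx x * C.k x) • fr.v
  have hu : ∀ x, fr.Ev (u x) := fun x => by
    simp only [u]; split_ifs
    exacts [hev0, fr.ev_smul fr.ev_v]
  refine ⟨fr.v, ∑ x, (C.m x : G) • u x, fun g hg hw z => ?_⟩
  obtain ⟨hlin, hy, hcomp⟩ := fr.stab_components C.m C.hcl C.hm0 u hu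
    (fun k hk h => hw0 k hk (by simpa [u] using h)) hg hw
  have hpos : ∀ x : fr.X, x ≠ 0 → 0 < Cert.code C.b x := fun x hx => Nat.pos_of_ne_zero fun h => hx (by
    rw [← Cert.emb_code C.b x, h]; simp [Cert.emb])
  have hcx : ∀ x, x ≠ 0 → col.getD (Cert.code C.b x) 0 ≠ 3 → cx x * C.k x ≠ 0 := fun x hx h => by
    simp only [cx, if_neg h]
    exact mul_ne_zero (ht _ _ (hpos x hx) (Cert.code_lt _ _) (hpos x hx) (Cert.code_lt _ _) h h).1
      (C.hk x)
  have hcoleq : ∀ x, col.getD (Cert.code C.b (fr.A hg x)) 0 = col.getD (Cert.code C.b x) 0 := by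
    intro x
    by_cases hx : x = 0
    · rw [hx, map_zero]
    have hAx : fr.A hg x ≠ 0 := fun h => hx (fr.A_inj hg (h.trans (map_zero _).symm))
    obtain ⟨hδ, h⟩ := hcomp x
    simp only [u, if_neg hx, if_neg hAx] at h
    by_cases h3 : col.getD (Cert.code C.b x) 0 = 3
    · rw [show cx x = 0 from if_pos h3, zero_mul, zero_smul, smul_zero, smul_zero] at h
      by_contra hn
      exact hcx _ hAx (fun e => hn (e.trans h3.symm)) ((smul_eq_zero.1 h.symm).resolve_right fr.hv)
    set δ := ((C.m (fr.A hg x) : G))⁻¹ * (g * (C.m x : G) * g⁻¹)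
    have hδM := fr.hDM hδ
    rw [hlin, hg, fr.hMlin δ hδM] at h
    have h3' : col.getD (Cert.code C.b (fr.A hg x)) 0 ≠ 3 := fun h3' => by
      rw [show cx (fr.A hg x) = 0 from if_pos h3', zero_mul, zero_smul] at h
      exact smul_ne fr.hv ((smul_eq_zero.1 h).resolve_left (hcx x hx h3))
    set c := cx x * C.k x
    set c' := cx (fr.A hg x) * C.k (fr.A hg x)
    have hv1 : δ • fr.v = (c⁻¹ * c') • fr.v := by
      calc δ • fr.v = c⁻¹ • c • δ • fr.v := (inv_smul_smul₀ (hcx x hx h3) _).symm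
        _ = (c⁻¹ * c') • fr.v := by rw [h, smul_smul]
    have hδL : δ ∈ fr.L := (fr.hL δ).2 ⟨hδM, _, hv1⟩
    have hm := fr.m_sq C x hne
    have hm' := fr.m_sq C (fr.A hg x) hne
    have hχ : fr.χ δ = c⁻¹ * c' := fr.scal fr.hv (by rw [← fr.hχ δ hδL, hv1])
    have hδU : δ ^ 2 ∈ fr.U := by
      have hconj : (g * (C.m x : G) * g⁻¹) ^ 2 ∈ fr.U := by
        rw [show (g * (C.m x : G) * g⁻¹) ^ 2 = g * (C.m x : G) ^ 2 * g⁻¹ by rw [sq, sq]; group]
        exact fr.hUn.conj_mem _ hm g
      exact fr.mul_sq_mem (fr.M.inv_mem (C.m _).2) (fr.hMn.conj_mem _ (C.m x).2 g)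
        (by rw [inv_pow]; exact fr.U.inv_mem hm') hconj
    have hψ : fr.ψ ((C.m x : G) ^ 2) = fr.ψ (((C.m (fr.A hg x) : G) * δ) ^ 2) := by
      refine fr.scal fr.hv ?_
      rw [← fr.hψ _ hm, ← fr.hψ _ (fr.mul_sq_mem (C.m _).2 hδM hm' hδU), mul_inv_cancel_left,
        show (g * (C.m x : G) * g⁻¹) ^ 2 = g * (C.m x : G) ^ 2 * g⁻¹ by rw [sq, sq]; group,
        mul_smul, mul_smul, fr.g_inv hg, fr.hψ _ hm, hlin, hg]
    rw [fr.ψ_sq_mul (C.m _).2 hδM hm' hδU, fr.ψ_sq_L hδL hδU, hχ] at hψ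
    have e1 := fr.ψ_m C x hm
    have e2 := fr.ψ_m C (fr.A hg x) hm'
    have hb := fr.β_sq_left hδM (C.m (fr.A hg x)).2 hδU
    have hb2 : fr.β δ (C.m (fr.A hg x)) ^ 2 = 1 := by rcases hb with h | h <;> rw [h] <;> ring
    have key : cx (fr.A hg x) ^ 4 = cx x ^ 4 := by
      have hc0 : cx x ≠ 0 := left_ne_zero_of_mul (hcx x hx h3)
      have hk0 := C.hk x
      rw [hψ] at e1
      simp only [c, c'] at e1
      field_simp at e1
      have e3 : cx (fr.A hg x) ^ 2 * fr.β δ (C.m (fr.A hg x)) = cx x ^ 2 := by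
        linear_combination e1 - cx (fr.A hg x) ^ 2 * fr.β δ (C.m (fr.A hg x)) * e2
      calc cx (fr.A hg x) ^ 4 = (cx (fr.A hg x) ^ 2 * fr.β δ (C.m (fr.A hg x))) ^ 2 := by
            rw [mul_pow, hb2]; ring
        _ = cx x ^ 4 := by rw [e3]; ring
    simp only [cx, if_neg h3, if_neg h3'] at key
    exact (ht _ _ (hpos _ hAx) (Cert.code_lt _ _) (hpos x hx) (Cert.code_lt _ _) h3' h3).2 key
  have hA : ∀ x, fr.A hg x = x := eq_id_of_search C.b _ (fr.A_inj hg) (fun k hk => by
    simp only [Models.okClass, List.all_eq_true, List.mem_range, List.length_map, List.length_range,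
      beq_iff_eq]
    intro c hc
    rw [table_getD _ hc]
    have h := hcoleq (Cert.emb C.b c)
    rwa [Cert.code_emb C.b (lt_of_lt_of_le hc (Nat.pow_le_pow_right (by norm_num) hk))] at h) hsearch
  suffices g = 1 by rw [this, one_smul]
  let T : Finset fr.X := ((Finset.range (2 ^ n)).filter fun c => col.getD c 0 = 3).image (Cert.emb C.b)
  refine fr.kill hlin hg hy T ?_ fun x hx => ?_
  · rw [fr.card_X C]
    exact lt_of_le_of_lt (Nat.mul_le_mul_left 4 Finset.card_image_le) hzero
  by_cases hx0 : x = 0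
  · exact fr.fix_D hlin hg hy ((fr.cl_eq_zero _).1 (by rw [fr.cl_sec, hx0]))
  have h3 : col.getD (Cert.code C.b x) 0 ≠ 3 := fun h => hx (Finset.mem_image.2
    ⟨Cert.code C.b x, Finset.mem_filter.2 ⟨Finset.mem_range.2 (Cert.code_lt _ _), h⟩,
      Cert.emb_code C.b x⟩)
  have h := (hcomp x).2
  simp only [hA x, u, if_neg hx0] at h
  exact fr.fixed_of_comp hlin hg hy (C.m x) x (C.hcl x) (hcx x hx0 h3) h

omit [Module (ZMod 2) fr.X] [Nontrivial V] in
/-- The order of the generator. -/
theorem θ_pow_eq {md : ℕ} (hcard : Fintype.card fr.F = md + 1) (hmd : 2 ≤ md) :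
    fr.θ ≠ 0 ∧ ∀ a b : ℕ, fr.θ ^ a = fr.θ ^ b ↔ a % md = b % md := by
  classical
  have h0 : fr.θ ≠ 0 := fun e => by
    obtain ⟨x, hx1, hx0⟩ : ∃ x : fr.F, x ≠ 1 ∧ x ≠ 0 := by
      by_contra hall
      push Not at hall
      have : (Finset.univ : Finset fr.F) ⊆ {1, 0} := fun x _ => by
        by_cases h1 : x = 1
        · simp [h1]
        · simp [hall x h1]
      have := (Finset.card_le_card this).trans Finset.card_le_two
      rw [Finset.card_univ] at this
      omega
    obtain ⟨k, hk⟩ := fr.hθ x hx0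
    rw [e] at hk
    rcases Nat.eq_zero_or_pos k with rfl | hk'
    · exact hx1 (by simpa using hk)
    · exact hx0 (by rw [hk, zero_pow hk'.ne'])
  refine ⟨h0, fun a b => ?_⟩
  set u : fr.Fˣ := Units.mk0 fr.θ h0
  have hgen : ∀ x : fr.Fˣ, x ∈ Subgroup.zpowers u := fun x => by
    obtain ⟨k, hk⟩ := fr.hθ x x.ne_zero
    exact ⟨k, Units.ext (by simp [u, hk])⟩
  have ho : orderOf u = md := by
    rw [orderOf_eq_card_of_forall_mem_zpowers hgen, Nat.card_units, Nat.card_eq_fintype_card, hcard]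
    rfl
  rw [← ho, ← pow_inj_mod, ← Units.val_inj, Units.val_pow_eq_pow_val, Units.val_pow_eq_pow_val]
  rfl

include C in
/-- Coefficients whose quotient is not quadratic. -/
theorem hasPair_phase {p : ℕ} [Fact p.Prime] (hV : ∀ x : V, p • x = 0) (h2 : p ≠ 2)
    (hDL : fr.D ≤ fr.L) (c : List ℕ) {md : ℕ} (hcard : Fintype.card fr.F = md + 1) (hmd2 : 2 ≤ md)
    (hev : 2 ∣ md)
    (hsearch : LinSearch.search n (Models.okPhase md c) (Models.isRange n) n [0] = true)
    (h0 : c.getD 0 0 = 0) (hle : ∀ x, x < 2 ^ n → c.getD x 0 ≤ md)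
    (hzero : 4 * ((Finset.range (2 ^ n)).filter fun x => c.getD x 0 = md).card < 2 ^ n) :
    HasPair G V := by
  classical
  haveI : Fintype fr.X := Fintype.ofFinite _
  have hne := fr.char_two_ne hV h2
  obtain ⟨hθ0, hpow⟩ := fr.θ_pow_eq hcard hmd2
  have hθmd : fr.θ ^ md = 1 := by
    have := (hpow md 0).2 (by simp)
    rwa [pow_zero] at this
  have hhalf : fr.θ ^ (md / 2) = -1 := by
    have h1 : fr.θ ^ (md / 2) * fr.θ ^ (md / 2) = 1 := by
      rw [← pow_add, ← two_mul, Nat.mul_div_cancel' hev, hθmd]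
    refine (mul_self_eq_one_iff.1 h1).resolve_left fun h => ?_
    rw [← pow_zero fr.θ, hpow, Nat.zero_mod, Nat.mod_eq_of_lt (by omega)] at h
    omega
  obtain ⟨w0, hev0, hw0⟩ := fr.exists_w0 hV h2
  let e : fr.X → ℕ := fun x => c.getD (Cert.code C.b x) 0
  let cx : fr.X → fr.F := fun x => if e x = md then 0 else fr.θ ^ e x
  let u : fr.X → V := fun x => if x = 0 then w0 else (cx x * C.k x) • fr.v
  have hu : ∀ x, fr.Ev (u x) := fun x => by
    simp only [u]; split_ifs
    exacts [hev0, fr.ev_smul fr.ev_v]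
  refine ⟨fr.v, ∑ x, (C.m x : G) • u x, fun g hg hw z => ?_⟩
  obtain ⟨hlin, hy, hcomp⟩ := fr.stab_components C.m C.hcl C.hm0 u hu
    (fun k hk h => hw0 k hk (by simpa [u] using h)) hg hw
  let δ : fr.X → G := fun x => ((C.m (fr.A hg x) : G))⁻¹ * (g * (C.m x : G) * g⁻¹)
  have hδL : ∀ x, δ x ∈ fr.L := fun x => hDL (hcomp x).1
  let lx : fr.X → fr.F := fun x => C.k x * fr.χ (δ x) * (C.k (fr.A hg x))⁻¹
  let B : fr.X → fr.X → fr.F := fun x y => fr.β (δ x) (C.m (fr.A hg y))
  have hlx : ∀ x, g • C.k x • (C.m x : G) • fr.v =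
      lx x • C.k (fr.A hg x) • (C.m (fr.A hg x) : G) • fr.v := fun x => by
    rw [fr.g_S C hlin hg, hg, show ((C.m (fr.A hg x) : G))⁻¹ * (g * (C.m x : G) * g⁻¹) = δ x from rfl,
      fr.hχ _ (hδL x), fr.hMlin _ (C.m _).2, smul_smul, smul_smul]
    congr 1
    simp only [lx]
    rw [mul_assoc _ _ (C.k (fr.A hg x)), inv_mul_cancel₀ (C.hk _), mul_one]
  have hmul : ∀ x y, lx (x + y) = lx x * lx y * B x y := fun x y => by
    have hδM := fr.hLM (hδL x)
    have h1 := hlx (x + y)
    rw [← C.hadd x y, fr.g_S C hlin hg x, show ((C.m (fr.A hg x) : G))⁻¹ * (g * (C.m x : G) * g⁻¹) = δ x from rfl,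
      hlx y, fr.hMlin _ hδM, fr.hMlin _ hδM, fr.smul_comm' hδM (C.m _).2, fr.hχ _ (hδL x),
      fr.hMlin _ (C.m (fr.A hg y)).2, map_add, ← C.hadd] at h1
    simp only [fr.hMlin _ (C.m (fr.A hg x)).2, smul_smul] at h1
    have h2' := fr.scal (smul_ne fr.hv) h1
    have hk1 := C.hk (fr.A hg x)
    have hk2 := C.hk (fr.A hg y)
    refine mul_left_cancel₀ (mul_ne_zero hk1 hk2) ?_
    simp only [B, lx] at h2' ⊢
    field_simp at h2' ⊢
    linear_combination -h2'
  have hBr : ∀ x y y', B x (y + y') = B x y * B x y' := fun x y y' => by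
    simp only [B]
    rw [map_add, ← fr.β_right (fr.hLM (hδL x)) (C.m _).2 (C.m _).2, ← Subgroup.coe_mul]
    exact fr.β_cl (hδL x) (by rw [fr.cl_mul, C.hcl, C.hcl, C.hcl])
  have hBsq : ∀ x y, B x y = 1 ∨ B x y = -1 := fun x y => by
    simp only [B]
    rw [fr.β_symm_sign (C.m _).2 (fr.hLM (hδL x)) (fr.m_sq C _ hne)]
    exact fr.β_sq_left (C.m _).2 (fr.hLM (hδL x)) (fr.m_sq C _ hne)
  have hl0 : ∀ x, lx x ≠ 0 := fun x =>
    mul_ne_zero (mul_ne_zero (C.hk x) (fr.χ_ne (hδL x))) (inv_ne_zero (C.hk _))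
  have hl00 : lx 0 = 1 := by
    have h := hlx 0
    rw [map_zero, C.hk0, C.hm0, Subgroup.coe_one, one_smul, one_smul, hg] at h
    exact fr.scal fr.hv (h.symm.trans (one_smul _ _).symm)
  have hl4 : ∀ x, lx x ^ 4 = 1 := fun x => by
    have h := hmul x x
    rw [show x + x = 0 from Graph.self_add x, hl00] at h
    rcases hBsq x x with hB | hB <;> rw [hB] at h
    · linear_combination -(lx x ^ 2 + 1) * h
    · linear_combination (lx x ^ 2 - 1) * h
  have he : ∀ x, e x ≤ md := fun x => hle _ (Cert.code_lt _ _)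
  have he0 : e 0 = 0 := by simp only [e]; rw [Cert.code_zero, h0]
  have hsupp : ∀ x, (e (fr.A hg x) = md ↔ e x = md) ∧
      (e x ≠ md → fr.θ ^ e (fr.A hg x) = lx x * fr.θ ^ e x) := by
    intro x
    by_cases hx : x = 0
    · subst hx
      rw [map_zero, he0, hl00, pow_zero, one_mul]
      exact ⟨Iff.rfl, fun _ => rfl⟩
    have hAx : fr.A hg x ≠ 0 := fun h => hx (fr.A_inj hg (h.trans (map_zero _).symm))
    have h := (hcomp x).2
    simp only [u, if_neg hx, if_neg hAx] at h
    rw [hlin, hg, show ((C.m (fr.A hg x) : G))⁻¹ * (g * (C.m x : G) * g⁻¹) = δ x from rfl,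
      fr.hMlin _ (fr.hLM (hδL x)), fr.hχ _ (hδL x), smul_smul] at h
    have h1 : cx (fr.A hg x) = lx x * cx x := by
      have := fr.scal fr.hv h
      simp only [lx]
      field_simp [C.hk (fr.A hg x)]
      linear_combination -this
    constructor
    · simp only [cx] at h1
      constructor
      · intro hA
        rw [if_pos hA] at h1
        by_contra hn
        rw [if_neg hn] at h1
        exact mul_ne_zero (hl0 x) (pow_ne_zero _ hθ0) h1.symm
      · intro hA
        rw [if_pos hA, mul_zero] at h1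
        by_contra hn
        rw [if_neg hn] at h1
        exact pow_ne_zero _ hθ0 h1
    · intro hn
      have hn' : e (fr.A hg x) ≠ md := fun hA => by
        simp only [cx, if_pos hA, if_neg hn] at h1
        exact mul_ne_zero (hl0 x) (pow_ne_zero _ hθ0) h1.symm
      simpa only [cx, if_neg hn, if_neg hn'] using h1
  have hA : ∀ x, fr.A hg x = x := eq_id_of_search C.b _ (fr.A_inj hg) (fun k hk => by
    set f := Cert.fn C.b (fr.A hg)
    have hlt : ∀ x, x < 2 ^ k → x < 2 ^ n := fun x hx =>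
      lt_of_lt_of_le hx (Nat.pow_le_pow_right (by norm_num) hk)
    have hce : ∀ x, x < 2 ^ n → c.getD x 0 = e (Cert.emb C.b x) ∧
        c.getD (f x) 0 = e (fr.A hg (Cert.emb C.b x)) := fun x hx => by
      exact ⟨by simp only [e]; rw [Cert.code_emb C.b hx], rfl⟩
    have hlam : ∀ x, x < 2 ^ k → ∀ a, Models.lam md c ((List.range (2 ^ k)).map f) x = some a →
        fr.θ ^ a = lx (Cert.emb C.b x) := fun x hx a ha => by
      simp only [Models.lam, table_getD f hx, (hce x (hlt x hx)).1, (hce x (hlt x hx)).2] at ha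
      split_ifs at ha with hc
      simp only [Bool.or_eq_true, beq_iff_eq, not_or] at hc
      obtain rfl := Option.some.inj ha
      set z := Cert.emb C.b x
      have h1 := (hsupp z).2 hc.1
      have h2' : fr.θ ^ (e (fr.A hg z) + md - e z) * fr.θ ^ e z = fr.θ ^ e (fr.A hg z) := by
        rw [← pow_add, Nat.sub_add_cancel (by have := he z; omega), pow_add, hθmd, mul_one]
      rw [(hpow _ (e (fr.A hg z) + md - e z)).2 (Nat.mod_mod _ _)]
      exact mul_right_cancel₀ (pow_ne_zero _ hθ0) (h2'.trans h1)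
    simp only [Models.okPhase, Bool.and_eq_true, Models.okSupport, List.all_eq_true, List.mem_range,
      List.length_map, List.length_range]
    refine ⟨⟨fun x hx => ?_, fun x hx => ?_⟩, fun q hq r hr => ?_⟩
    · rw [table_getD f hx, (hce x (hlt x hx)).1, (hce x (hlt x hx)).2]
      have h := (hsupp (Cert.emb C.b x)).1
      simp only [beq_iff_eq, Bool.beq_eq_decide_eq]
      exact decide_eq_true (by rw [decide_eq_decide]; exact h.symm)
    · cases ha : Models.lam md c ((List.range (2 ^ k)).map f) x with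
      | none => rfl
      | some a =>
        show (4 * a % md == 0) = true
        rw [beq_iff_eq, ← Nat.zero_mod md, ← hpow, pow_zero, mul_comm, pow_mul, hlam x hx a ha, hl4]
    · have hd : ∀ v ∈ (List.range (2 ^ k)).filterMap
          (Models.diff2 md c ((List.range (2 ^ k)).map f) q r),
          v < md ∧ fr.θ ^ v = B (Cert.emb C.b q) (Cert.emb C.b r) := by
        intro v hv
        obtain ⟨x, hx, hv⟩ := List.mem_filterMap.1 hv
        rw [List.mem_range] at hx
        have hr' : r < 2 ^ k := lt_trans hr hq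
        have x1 : x ^^^ q < 2 ^ k := Nat.xor_lt_two_pow hx hq
        have x2 : x ^^^ r < 2 ^ k := Nat.xor_lt_two_pow hx hr'
        have x3 : x ^^^ q ^^^ r < 2 ^ k := Nat.xor_lt_two_pow x1 hr'
        simp only [Models.diff2] at hv
        split at hv
        · next a b d e' ha hb hd he' =>
          obtain rfl := Option.some.inj hv
          refine ⟨Nat.mod_lt _ (by omega), ?_⟩
          have ea := hlam _ x3 a ha
          have eb := hlam _ hx b hb
          have ed := hlam _ x1 d hd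
          have ee := hlam _ x2 e' he'
          have hd' : d ≤ md := by
            simp only [Models.lam] at hd
            split_ifs at hd
            obtain rfl := Option.some.inj hd
            exact (Nat.mod_lt _ (by omega)).le
          have he'' : e' ≤ md := by
            simp only [Models.lam] at he'
            split_ifs at he'
            obtain rfl := Option.some.inj he'
            exact (Nat.mod_lt _ (by omega)).le
          rw [(hpow _ (a + b + (md - d) + (md - e'))).2 (Nat.mod_mod _ _)]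
          refine mul_right_cancel₀ (pow_ne_zero (d + e') hθ0) ?_
          rw [← pow_add, show a + b + (md - d) + (md - e') + (d + e') = a + b + md + md by omega,
            pow_add, pow_add, pow_add, hθmd, mul_one, mul_one, ea, eb, pow_add, ed, ee]
          set X1 := Cert.emb C.b x
          set Q1 := Cert.emb C.b q
          set R1 := Cert.emb C.b r
          simp only [Cert.emb_xor]
          rw [add_assoc, hmul X1 (Q1 + R1), hmul Q1 R1, hBr X1 Q1 R1, hmul X1 Q1, hmul X1 R1]
          ring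
        · simp at hv
      cases hl : (List.range (2 ^ k)).filterMap (Models.diff2 md c ((List.range (2 ^ k)).map f) q r) with
      | nil => rfl
      | cons a l =>
        rw [hl] at hd
        obtain ⟨hav, hae⟩ := hd a List.mem_cons_self
        simp only [Models.constIn, Bool.and_eq_true, Bool.or_eq_true, beq_iff_eq, List.all_eq_true]
        refine ⟨?_, fun b hb => ?_⟩
        · rcases hBsq (Cert.emb C.b q) (Cert.emb C.b r) with hB | hB <;> rw [hB] at hae
          · left
            rw [← pow_zero fr.θ, hpow, Nat.mod_eq_of_lt hav, Nat.zero_mod] at hae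
            exact hae
          · right
            rw [← hhalf, hpow, Nat.mod_eq_of_lt hav, Nat.mod_eq_of_lt (by omega)] at hae
            exact hae
        · obtain ⟨hbv, hbe⟩ := hd b (List.mem_cons_of_mem _ hb)
          have := (hpow b a).1 (hbe.trans hae.symm)
          rwa [Nat.mod_eq_of_lt hbv, Nat.mod_eq_of_lt hav] at this) hsearch
  suffices g = 1 by rw [this, one_smul]
  let T : Finset fr.X := ((Finset.range (2 ^ n)).filter fun x => c.getD x 0 = md).image (Cert.emb C.b)
  refine fr.kill hlin hg hy T ?_ fun x hx => ?_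
  · rw [fr.card_X C]
    exact lt_of_le_of_lt (Nat.mul_le_mul_left 4 Finset.card_image_le) hzero
  by_cases hx0 : x = 0
  · exact fr.fix_D hlin hg hy ((fr.cl_eq_zero _).1 (by rw [fr.cl_sec, hx0]))
  have h3 : e x ≠ md := fun h => hx (Finset.mem_image.2
    ⟨Cert.code C.b x, Finset.mem_filter.2 ⟨Finset.mem_range.2 (Cert.code_lt _ _), h⟩,
      Cert.emb_code C.b x⟩)
  have h := (hcomp x).2
  simp only [hA x, u, if_neg hx0] at h
  refine fr.fixed_of_comp hlin hg hy (C.m x) x (C.hcl x) (mul_ne_zero ?_ (C.hk x)) h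
  simp only [cx, if_neg h3]
  exact pow_ne_zero _ hθ0

/-- The class of an element of `D` modulo `L`. -/
noncomputable def dbits (d : G) : ℕ := open Classical in
  (if fr.β d C.z = 1 then 0 else 1) ^^^ (if fr.β d fr.y0 = 1 then 0 else 2)

include C in
/-- Lines whose difference is not linear. -/
theorem hasPair_line {p : ℕ} [Fact p.Prime] (hV : ∀ x : V, p • x = 0) (h2 : p ≠ 2)
    (hyL : fr.y0 ∉ fr.L) (φ : List ℕ)
    (hsearch : LinSearch.search n (Models.okLine φ) (Models.isRange n) n [0] = true)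
    (h0 : φ.getD 0 0 = 0) (hle : ∀ x, x < 2 ^ n → φ.getD x 0 ≤ 4)
    (hzero : 4 * ((Finset.range (2 ^ n)).filter fun x => φ.getD x 0 = 4).card < 2 ^ n) :
    HasPair G V := by
  classical
  haveI : Fintype fr.X := Fintype.ofFinite _
  have hne := fr.char_two_ne hV h2
  obtain ⟨hzD, hzU, hzy, -⟩ := C.hz hyL
  have hyU : fr.y0 ^ 2 ∈ fr.U := by
    rcases fr.hcase with ⟨hDL, -⟩ | ⟨-, h, -⟩
    · exact absurd (hDL fr.hy0) hyL
    · exact h
  have hyM := fr.hDM fr.hy0
  have hzM := fr.hDM hzD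
  obtain ⟨w0, hev0, hw0⟩ := fr.exists_w0 hV h2
  -- the bits
  have hsign : ∀ {w : G}, w ∈ fr.M → w ^ 2 ∈ fr.U → ∀ {d : G}, d ∈ fr.M →
      fr.β d w = 1 ∨ fr.β d w = -1 := fun hw hw2 d hd => by
    rw [fr.β_symm_sign hw hd hw2]; exact fr.β_sq_left hw hd hw2
  have hbmul : ∀ {a b : G}, a ∈ fr.M → b ∈ fr.M →
      fr.dbits C (a * b) = fr.dbits C a ^^^ fr.dbits C b := fun {a b} ha hb => by
    simp only [dbits, fr.β_left ha hb hzM, fr.β_left ha hb hyM]
    rcases hsign hzM hzU ha with p1 | p1 <;> rcases hsign hzM hzU hb with p2 | p2 <;>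
      rcases hsign hyM hyU ha with p3 | p3 <;> rcases hsign hyM hyU hb with p4 | p4 <;>
      simp [p1, p2, p3, p4, hne]
  have hbL : ∀ {d : G}, d ∈ fr.L → fr.dbits C d = 0 := fun hd => by
    simp [dbits, fr.β_LD hd hzD, fr.β_LD hd fr.hy0]
  let dd : ℕ → G := fun i =>
    (if i.testBit 0 then fr.y0 else 1) * (if i.testBit 1 then C.z else 1)
  have hddD : ∀ i, dd i ∈ fr.D := fun i => fr.D.mul_mem
    (by split_ifs <;> first | exact fr.hy0 | exact fr.D.one_mem)
    (by split_ifs <;> first | exact hzD | exact fr.D.one_mem)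
  have hzyβ : fr.β C.z fr.y0 = -1 := fr.β_eq hzM hyM fr.hv (by rw [hzy, neg_one_smul])
  have hyzβ : fr.β fr.y0 C.z = -1 := by rw [fr.β_symm_sign hzM hyM hzU, hzyβ]
  have hbdd : ∀ i, i < 4 → fr.dbits C (dd i) = i := fun i hi => by
    have h1 : fr.dbits C 1 = 0 := hbL fr.L.one_mem
    have hY : fr.dbits C fr.y0 = 1 := by
      simp [dbits, hyzβ, fr.β_comm hyM hyM rfl, hne]
    have hZ : fr.dbits C C.z = 2 := by
      simp [dbits, hzyβ, fr.β_comm hzM hzM rfl, hne]
    simp only [dd]
    rw [hbmul (by split_ifs <;> first | exact hyM | exact fr.M.one_mem)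
      (by split_ifs <;> first | exact hzM | exact fr.M.one_mem)]
    interval_cases i <;> simp [Nat.testBit, h1, hY, hZ]
  let e : fr.X → ℕ := fun x => φ.getD (Cert.code C.b x) 0
  let u : fr.X → V := fun x =>
    if x = 0 then w0 else if e x = 4 then 0 else C.k x • dd (e x) • fr.v
  have hu : ∀ x, fr.Ev (u x) := fun x => by
    simp only [u]; split_ifs
    exacts [hev0, fr.ev_zero, fr.ev_smul (fr.ev_D (hddD _) fr.ev_v)]
  refine ⟨fr.v, ∑ x, (C.m x : G) • u x, fun g hg hw z => ?_⟩
  obtain ⟨hlin, hy, hcomp⟩ := fr.stab_components C.m C.hcl C.hm0 u hu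
    (fun k hk h => hw0 k hk (by simpa [u] using h)) hg hw
  let δ : fr.X → G := fun x => ((C.m (fr.A hg x) : G))⁻¹ * (g * (C.m x : G) * g⁻¹)
  have he : ∀ x, e x ≤ 4 := fun x => hle _ (Cert.code_lt _ _)
  have he0 : e 0 = 0 := by simp only [e]; rw [Cert.code_zero, h0]
  -- the shift is additive
  have hδb : ∀ x, fr.dbits C (δ x) = fr.dbits C (g * (C.m x : G) * g⁻¹) := fun x => by
    have h1 : fr.dbits C ((C.m (fr.A hg x) : G))⁻¹ = 0 := by
      have hb := C.hmy hyL (fr.A hg x)
      simp only [dbits]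
      have ez : fr.β ((C.m (fr.A hg x) : G))⁻¹ C.z = 1 := by
        have := fr.β_left (fr.M.inv_mem (C.m (fr.A hg x)).2) (C.m (fr.A hg x)).2 hzM
        rw [inv_mul_cancel, hb.2, mul_one, fr.β_U_left fr.U.one_mem hzM] at this
        exact this.symm
      have ey : fr.β ((C.m (fr.A hg x) : G))⁻¹ fr.y0 = 1 := by
        have := fr.β_left (fr.M.inv_mem (C.m (fr.A hg x)).2) (C.m (fr.A hg x)).2 hyM
        rw [inv_mul_cancel, hb.1, mul_one, fr.β_U_left fr.U.one_mem hyM] at this
        exact this.symm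
      simp [ez, ey]
    rw [hbmul (fr.M.inv_mem (C.m _).2) (fr.hMn.conj_mem _ (C.m x).2 g), h1, Nat.zero_xor]
  have hadd : ∀ x y, fr.dbits C (δ (x + y)) = fr.dbits C (δ x) ^^^ fr.dbits C (δ y) := fun x y => by
    set a := g * (C.m x : G) * g⁻¹
    set b := g * (C.m y : G) * g⁻¹
    set c := g * (C.m (x + y) : G) * g⁻¹
    have haM : a ∈ fr.M := fr.hMn.conj_mem _ (C.m x).2 g
    have hbM : b ∈ fr.M := fr.hMn.conj_mem _ (C.m y).2 g
    have hcM : c ∈ fr.M := fr.hMn.conj_mem _ (C.m (x + y)).2 g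
    have hsc : ∀ w : V, (C.k x * C.k y) • (a * b) • w = C.k (x + y) • c • w := fun w => by
      have := congrArg (g • ·) (C.hadd x y (g⁻¹ • w))
      simp only [show ∀ (k : fr.F) (x : V), g • k • x = k • g • x from hlin, fr.hMlin _ (C.m x).2,
        smul_smul] at this
      rw [show a * b = g * ((C.m x : G) * ((C.m y : G) * g⁻¹)) by simp only [a, b]; group]
      simp only [c, mul_assoc] at this ⊢
      exact this
    have hβ : ∀ w ∈ fr.M, fr.β c w = fr.β (a * b) w := fun w hw => by
      refine (fr.β_eq (fr.M.mul_mem haM hbM) hw fr.hv ?_).symm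
      refine smul_right_injective V (mul_ne_zero (C.hk x) (C.hk y)) ?_
      show (C.k x * C.k y) • (a * b) • w • fr.v = (C.k x * C.k y) • fr.β c w • w • (a * b) • fr.v
      calc (C.k x * C.k y) • (a * b) • w • fr.v = C.k (x + y) • c • w • fr.v := hsc _
        _ = fr.β c w • w • C.k (x + y) • c • fr.v := by
          rw [fr.smul_comm' hcM hw, fr.hMlin w hw, smul_comm]
        _ = fr.β c w • w • (C.k x * C.k y) • (a * b) • fr.v := by rw [hsc]
        _ = _ := by rw [fr.hMlin w hw, smul_comm]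
    rw [hδb, hδb, hδb, ← hbmul haM hbM]
    show fr.dbits C c = fr.dbits C (a * b)
    simp only [dbits, hβ _ hzM, hβ _ hyM]
  have hsupp : ∀ x, (e (fr.A hg x) = 4 ↔ e x = 4) ∧
      (e x ≠ 4 → e x ^^^ e (fr.A hg x) = fr.dbits C (δ x)) := by
    intro x
    by_cases hx : x = 0
    · subst hx
      rw [map_zero, he0, Nat.xor_self]
      refine ⟨Iff.rfl, fun _ => ?_⟩
      simp only [δ, map_zero, C.hm0, Subgroup.coe_one, mul_one, mul_inv_cancel, inv_one]
      exact (hbL fr.L.one_mem).symm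
    have hAx : fr.A hg x ≠ 0 := fun h => hx (fr.A_inj hg (h.trans (map_zero _).symm))
    obtain ⟨hδD, h⟩ := hcomp x
    simp only [u, if_neg hx, if_neg hAx] at h
    by_cases h4 : e x = 4
    · rw [if_pos h4, smul_zero, smul_zero] at h
      refine ⟨⟨fun _ => h4, fun _ => ?_⟩, fun hn => absurd h4 hn⟩
      by_contra hn
      rw [if_neg hn] at h
      exact smul_ne fr.hv ((smul_eq_zero.1 h.symm).resolve_left (C.hk _))
    rw [if_neg h4, hlin, fr.fix_D hlin hg hy (hddD _), fr.hMlin _ (fr.hDM hδD)] at h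
    have h4' : e (fr.A hg x) ≠ 4 := fun h4' => by
      rw [if_pos h4'] at h
      exact smul_ne (smul_ne fr.hv) ((smul_eq_zero.1 h).resolve_left (C.hk _))
    rw [if_neg h4'] at h
    refine ⟨iff_of_false h4' h4, fun _ => ?_⟩
    set d := dd (e x)
    set d' := dd (e (fr.A hg x))
    have hq : d'⁻¹ * (δ x * d) ∈ fr.L := by
      refine (fr.hL _).2 ⟨fr.M.mul_mem (fr.M.inv_mem (fr.hDM (hddD _)))
        (fr.M.mul_mem (fr.hDM hδD) (fr.hDM (hddD _))), (C.k x)⁻¹ * C.k (fr.A hg x), ?_⟩
      rw [mul_smul d'⁻¹, inv_smul_eq_iff, mul_smul (δ x), fr.hMlin _ (fr.hDM (hddD _)),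
        mul_smul (C.k x)⁻¹]
      exact (eq_inv_smul_iff₀ (C.hk x)).2 h
    have h1 := hbmul (fr.hDM (hddD (e (fr.A hg x)))) (fr.hLM hq)
    rw [mul_inv_cancel_left, hbmul (fr.hDM hδD) (fr.hDM (hddD _)), hbL hq, Nat.xor_zero,
      hbdd _ (by have := he x; omega), hbdd _ (by have := he (fr.A hg x); omega)] at h1
    rw [← h1, Nat.xor_comm (fr.dbits C _), ← Nat.xor_assoc, Nat.xor_self, Nat.zero_xor]
  have hA : ∀ x, fr.A hg x = x := eq_id_of_search C.b _ (fr.A_inj hg) (fun k hk => by
    set f := Cert.fn C.b (fr.A hg)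
    have hlt : ∀ x, x < 2 ^ k → x < 2 ^ n := fun x hx =>
      lt_of_lt_of_le hx (Nat.pow_le_pow_right (by norm_num) hk)
    have hce : ∀ x, x < 2 ^ n → φ.getD x 0 = e (Cert.emb C.b x) ∧
        φ.getD (f x) 0 = e (fr.A hg (Cert.emb C.b x)) := fun x hx => by
      exact ⟨by simp only [e]; rw [Cert.code_emb C.b hx], rfl⟩
    have hshift : ∀ x, x < 2 ^ k → ∀ a, Models.shift φ ((List.range (2 ^ k)).map f) x = some a →
        a = fr.dbits C (δ (Cert.emb C.b x)) := fun x hx a ha => by
      simp only [Models.shift, table_getD f hx, (hce x (hlt x hx)).1, (hce x (hlt x hx)).2] at ha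
      split_ifs at ha with hc
      simp only [Bool.or_eq_true, beq_iff_eq, not_or] at hc
      obtain rfl := Option.some.inj ha
      exact (hsupp _).2 hc.1
    simp only [Models.okLine, Bool.and_eq_true, Models.okSupport, List.all_eq_true, List.mem_range,
      List.length_map, List.length_range]
    refine ⟨fun x hx => ?_, fun q hq => ?_⟩
    · rw [table_getD f hx, (hce x (hlt x hx)).1, (hce x (hlt x hx)).2]
      have h := (hsupp (Cert.emb C.b x)).1
      simp only [beq_iff_eq, Bool.beq_eq_decide_eq]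
      exact decide_eq_true (by rw [decide_eq_decide]; exact h.symm)
    · have hd : ∀ v ∈ (List.range (2 ^ k)).filterMap
          (fun x => match Models.shift φ ((List.range (2 ^ k)).map f) x,
              Models.shift φ ((List.range (2 ^ k)).map f) (x ^^^ q) with
            | some a, some b => some (a ^^^ b)
            | _, _ => none),
          v = fr.dbits C (δ (Cert.emb C.b q)) := by
        intro v hv
        obtain ⟨x, hx, hv⟩ := List.mem_filterMap.1 hv
        rw [List.mem_range] at hx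
        split at hv
        · next a b ha hb =>
          obtain rfl := Option.some.inj hv
          rw [hshift x hx a ha, hshift _ (Nat.xor_lt_two_pow hx hq) b hb, Cert.emb_xor, hadd,
            ← Nat.xor_assoc, Nat.xor_self, Nat.zero_xor]
        · simp at hv
      generalize List.filterMap _ _ = l at hd ⊢
      cases l with
      | nil => rfl
      | cons a l =>
        simp only [Models.constIn, Bool.and_eq_true, List.all_eq_true, beq_iff_eq, true_and]
        exact fun b hb => (hd b (List.mem_cons_of_mem _ hb)).trans (hd a List.mem_cons_self).symm)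
    hsearch
  suffices g = 1 by rw [this, one_smul]
  let T : Finset fr.X := ((Finset.range (2 ^ n)).filter fun x => φ.getD x 0 = 4).image (Cert.emb C.b)
  refine fr.kill hlin hg hy T ?_ fun x hx => ?_
  · rw [fr.card_X C]
    exact lt_of_le_of_lt (Nat.mul_le_mul_left 4 Finset.card_image_le) hzero
  by_cases hx0 : x = 0
  · exact fr.fix_D hlin hg hy ((fr.cl_eq_zero _).1 (by rw [fr.cl_sec, hx0]))
  have h4 : e x ≠ 4 := fun h => hx (Finset.mem_image.2
    ⟨Cert.code C.b x, Finset.mem_filter.2 ⟨Finset.mem_range.2 (Cert.code_lt _ _), h⟩,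
      Cert.emb_code C.b x⟩)
  have h := (hcomp x).2
  simp only [hA x, u, if_neg hx0, if_neg h4] at h
  rw [hlin, fr.fix_D hlin hg hy (hddD _), fr.hMlin _ (fr.hDM (by have := (hcomp x).1; rwa [hA x] at this))] at h
  have h' := smul_right_injective V (C.hk x) h
  rw [mul_smul, mul_smul, mul_smul, inv_smul_eq_iff] at h'
  have hfix : g • ((C.m x * ⟨dd (e x), fr.hDM (hddD _)⟩ : fr.M) : G) • fr.v =
      ((C.m x * ⟨dd (e x), fr.hDM (hddD _)⟩ : fr.M) : G) • fr.v := by
    rw [Subgroup.coe_mul, mul_smul]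
    have hd := fr.fix_D hlin hg hy (hddD (e x))
    rw [inv_smul_eq_iff.2 hd.symm] at h'
    exact h'
  have := fr.fix_mul_D hlin hg hy (C.m x * ⟨dd (e x), fr.hDM (hddD _)⟩ : fr.M).2
    ((fr.cl_eq (C.m x * ⟨dd (e x), fr.hDM (hddD _)⟩) (fr.sec x)).1 (by
      rw [fr.cl_mul, C.hcl, (fr.cl_eq_zero ⟨dd (e x), fr.hDM (hddD _)⟩).2 (hddD _), add_zero,
        fr.cl_sec])) hfix
  rwa [mul_inv_cancel_left] at this

end Frame

end CfsgLib.Perm.CoprimeBase
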