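import Cfsg.Agent.Lib.Perm.CoprimeBase.Coord
import Cfsg.Agent.Lib.Perm.CoprimeBase.CheckArith

/-!
# Certificates inside a frame

Scalars are coded by numbers, vectors by lists of coordinates. A system of generators of `M` modulo
`U` with commutator signs of a hyperbolic form is represented by operators; conjugation by a linear
element sends each of them to a multiple of a product of them, with the signs preserved.
-/

namespace CfsgLib.Perm.CoprimeBase

universe u

open CfsgLib.Perm.OddBase
open scoped commutatorElement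

namespace Pauli

open Check

/-- A coding of the scalars. -/
structure Code (A : Ar) (F : Type*) [Field F] where
  ι : ℕ → F
  hq : 1 < A.q
  hadd : ∀ a b, a < A.q → b < A.q → A.add a b < A.q ∧ ι (A.add a b) = ι a + ι b
  hmul : ∀ a b, a < A.q → b < A.q → A.mul a b < A.q ∧ ι (A.mul a b) = ι a * ι b
  hneg : A.neg 1 < A.q ∧ ι (A.neg 1) = -1
  h0 : ι 0 = 0
  h1 : ι 1 = 1
  hinj : ∀ a b, a < A.q → b < A.q → ι a = ι b → a = b
  hsurj : ∀ c : F, ∃ a, a < A.q ∧ ι a = c

/-- Vectors of the right size. -/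
def Good (A : Ar) (D : ℕ) (x : Vec) : Prop := x.length = D ∧ ∀ a ∈ x, a < A.q

/-- Operators of the right size. -/
def opOK (A : Ar) (D : ℕ) (o : Op) : Bool :=
  o.length == D && o.all fun row => row.all fun e => decide (e.1 < D) && decide (e.2 < A.q)

/-- A scalar multiple of an operator. -/
def scaleOp (A : Ar) (u : ℕ) (o : Op) : Op := o.map fun row => row.map fun e => (e.1, A.mul u e.2)

section Linear

variable {A : Ar} {F : Type*} [Field F] (S : Code A F) {D : ℕ}

/-- The coordinates. -/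
def coef (D : ℕ) (x : Vec) : Fin D → F := fun i => S.ι (x.getD i 0)

theorem getD_lt {x : Vec} (hx : ∀ a ∈ x, a < A.q) (hq : 0 < A.q) (i : ℕ) : x.getD i 0 < A.q := by
  rcases Nat.lt_or_ge i x.length with h | h
  · rw [List.getD_eq_getElem _ _ h]; exact hx _ (List.getElem_mem h)
  · rw [List.getD_eq_default _ _ h]; exact hq

theorem coef_inj {x y : Vec} (hx : Good A D x) (hy : Good A D y) (h : coef S D x = coef S D y) :
    x = y := by
  refine List.ext_getElem (hx.1.trans hy.1.symm) fun i h1 h2 => ?_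
  have := congrFun h ⟨i, hx.1 ▸ h1⟩
  simp only [coef, List.getD_eq_getElem _ _ h1, List.getD_eq_getElem _ _ h2] at this
  exact S.hinj _ _ (hx.2 _ (List.getElem_mem h1)) (hy.2 _ (List.getElem_mem h2)) this

include S in
theorem good_zero : Good A D (List.replicate D 0) :=
  ⟨List.length_replicate, fun a ha => by rw [(List.mem_replicate.1 ha).2]; have := S.hq; omega⟩

theorem coef_zero : coef S D (List.replicate D 0) = 0 := by
  funext i
  show S.ι _ = (0 : F)
  rw [List.getD_eq_getElem _ _ (by simp), List.getElem_replicate, S.h0]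

include S in
theorem good_unit (j : ℕ) : Good A D (unitVec D j) := by
  refine ⟨by simp [unitVec], fun a ha => ?_⟩
  simp only [unitVec, List.mem_map] at ha
  obtain ⟨i, -, rfl⟩ := ha
  have := S.hq
  split_ifs <;> omega

theorem coef_unit (j : Fin D) : coef S D (unitVec D j) = Pi.single j 1 := by
  funext i
  show S.ι _ = _
  rw [List.getD_eq_getElem _ _ (by simp [unitVec])]
  simp only [unitVec, List.getElem_map, List.getElem_range, Pi.single_apply, Fin.ext_iff]
  split_ifs
  exacts [S.h1, S.h0]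

include S in
theorem good_vscale {c : ℕ} (hc : c < A.q) {x : Vec} (hx : Good A D x) : Good A D (vscale A c x) := by
  refine ⟨by simp [vscale, hx.1], fun a ha => ?_⟩
  simp only [vscale, List.mem_map] at ha
  obtain ⟨b, hb, rfl⟩ := ha
  exact (S.hmul c b hc (hx.2 b hb)).1

theorem coef_vscale {c : ℕ} (hc : c < A.q) {x : Vec} (hx : Good A D x) :
    coef S D (vscale A c x) = S.ι c • coef S D x := by
  funext i
  have hi : (i : ℕ) < x.length := by rw [hx.1]; exact i.2
  show S.ι _ = S.ι c * S.ι _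
  rw [List.getD_eq_getElem _ _ (by simpa [vscale] using hi), List.getD_eq_getElem _ _ hi]
  simp only [vscale, List.getElem_map]
  exact (S.hmul c _ hc (hx.2 _ (List.getElem_mem hi))).2

include S in
theorem good_vadd {x y : Vec} (hx : Good A D x) (hy : Good A D y) : Good A D (vadd A x y) := by
  refine ⟨by simp [vadd, hx.1, hy.1], fun a ha => ?_⟩
  obtain ⟨i, hi, rfl⟩ := List.getElem_of_mem ha
  simp only [vadd, List.getElem_zipWith]
  exact (S.hadd _ _ (hx.2 _ (List.getElem_mem _)) (hy.2 _ (List.getElem_mem _))).1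

theorem coef_vadd {x y : Vec} (hx : Good A D x) (hy : Good A D y) :
    coef S D (vadd A x y) = coef S D x + coef S D y := by
  funext i
  have hi : (i : ℕ) < x.length := by rw [hx.1]; exact i.2
  have hi' : (i : ℕ) < y.length := by rw [hy.1]; exact i.2
  show S.ι _ = S.ι _ + S.ι _
  rw [List.getD_eq_getElem _ _ (by simp [vadd, hi, hi']), List.getD_eq_getElem _ _ hi,
    List.getD_eq_getElem _ _ hi']
  simp only [vadd, List.getElem_zipWith]
  exact (S.hadd _ _ (hx.2 _ (List.getElem_mem _)) (hy.2 _ (List.getElem_mem _))).2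

/-- The functional of a row. -/
noncomputable def rowLin (D : ℕ) : List (ℕ × ℕ) → ((Fin D → F) →ₗ[F] F)
  | [] => 0
  | e :: r => (if h : e.1 < D then S.ι e.2 • LinearMap.proj (⟨e.1, h⟩ : Fin D) else 0) + rowLin D r

/-- The linear map of an operator. -/
noncomputable def opLin (D : ℕ) (o : Op) : (Fin D → F) →ₗ[F] (Fin D → F) :=
  LinearMap.pi fun i => rowLin S D (o.getD i [])

theorem row_spec {x : Vec} (hx : Good A D x) :
    ∀ r : List (ℕ × ℕ), (∀ e ∈ r, e.1 < D ∧ e.2 < A.q) →
      r.foldr (fun e t => A.add (A.mul e.2 (x.getD e.1 0)) t) 0 < A.q ∧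
        S.ι (r.foldr (fun e t => A.add (A.mul e.2 (x.getD e.1 0)) t) 0) =
          rowLin S D r (coef S D x) := by
  intro r
  induction r with
  | nil => intro _; exact ⟨lt_trans Nat.zero_lt_one S.hq, by simp [rowLin, S.h0]⟩
  | cons e r ih =>
    intro h
    obtain ⟨h1, h2⟩ := ih fun e' he' => h e' (List.mem_cons_of_mem _ he')
    obtain ⟨he1, he2⟩ := h e List.mem_cons_self
    obtain ⟨h3, h4⟩ := S.hmul e.2 _ he2 (getD_lt hx.2 (lt_trans Nat.zero_lt_one S.hq) e.1)
    obtain ⟨h5, h6⟩ := S.hadd _ _ h3 h1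
    refine ⟨h5, ?_⟩
    rw [List.foldr_cons, h6, h4, h2, rowLin, dif_pos he1]
    simp [coef]

theorem app_spec {o : Op} (ho : opOK A D o = true) {x : Vec} (hx : Good A D x) :
    Good A D (app A o x) ∧ coef S D (app A o x) = opLin S D o (coef S D x) := by
  simp only [opOK, Bool.and_eq_true, beq_iff_eq, List.all_eq_true, decide_eq_true_eq] at ho
  have hrow : ∀ i, i < o.length → ∀ e ∈ o.getD i [], e.1 < D ∧ e.2 < A.q := fun i hi e he => by
    rw [List.getD_eq_getElem _ _ hi] at he
    exact ho.2 _ (List.getElem_mem hi) e he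
  refine ⟨⟨by simp [app, ho.1], fun a ha => ?_⟩, ?_⟩
  · obtain ⟨i, hi, rfl⟩ := List.getElem_of_mem ha
    have hi' : i < o.length := by simpa [app] using hi
    have := (row_spec S hx _ (hrow i hi')).1
    simpa [app, List.getD_eq_getElem?_getD, List.getElem?_eq_getElem hi'] using this
  · funext i
    have hi' : (i : ℕ) < o.length := by rw [ho.1]; exact i.2
    have := (row_spec S hx _ (hrow i hi')).2
    show S.ι _ = rowLin S D (o.getD i []) (coef S D x)
    rw [← this, List.getD_eq_getElem _ _ (by simpa [app] using hi')]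
    simp [app, List.getD_eq_getElem?_getD, List.getElem?_eq_getElem hi']

theorem scale_spec {u : ℕ} (hu : u < A.q) {o : Op} (ho : opOK A D o = true) :
    opOK A D (scaleOp A u o) = true ∧ opLin S D (scaleOp A u o) = S.ι u • opLin S D o := by
  simp only [opOK, Bool.and_eq_true, beq_iff_eq, List.all_eq_true, decide_eq_true_eq] at ho ⊢
  have hr : ∀ r : List (ℕ × ℕ), (∀ e ∈ r, e.1 < D ∧ e.2 < A.q) →
      rowLin S D (r.map fun e => (e.1, A.mul u e.2)) = S.ι u • rowLin S D r := by
    intro r
    induction r with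
    | nil => intro _; simp [rowLin]
    | cons e r ih =>
      intro h
      obtain ⟨he1, he2⟩ := h e List.mem_cons_self
      rw [List.map_cons, rowLin, rowLin, ih fun e' he' => h e' (List.mem_cons_of_mem _ he'),
        dif_pos he1, dif_pos he1, (S.hmul u e.2 hu he2).2, mul_smul, smul_add]
  refine ⟨⟨by simp [scaleOp, ho.1], fun row hrow e he => ?_⟩, ?_⟩
  · simp only [scaleOp, List.mem_map] at hrow
    obtain ⟨row', hrow', rfl⟩ := hrow
    obtain ⟨e', he', rfl⟩ := List.mem_map.1 he
    exact ⟨(ho.2 row' hrow' e' he').1, (S.hmul u _ hu (ho.2 row' hrow' e' he').2).1⟩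
  · refine LinearMap.pi_ext' fun j => LinearMap.ext_ring ?_
    funext i
    have hi' : (i : ℕ) < o.length := by rw [ho.1]; exact i.2
    simp only [opLin, LinearMap.comp_apply, LinearMap.pi_apply, LinearMap.smul_apply, Pi.smul_apply]
    have e : (scaleOp A u o).getD i [] = (o.getD i []).map fun e => (e.1, A.mul u e.2) := by
      simp [scaleOp, List.getD_eq_getElem?_getD, hi']
    rw [e, hr _ (fun e' he' => ho.2 _ (by rw [List.getD_eq_getElem _ _ hi']; exact List.getElem_mem hi')
      e' he'), LinearMap.smul_apply]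

/-- An operator is determined by its values on the unit vectors. -/
theorem op_sem {W : Type*} [AddCommGroup W] [Module F W] {o : Op} (ho : opOK A D o = true)
    (lc : (Fin D → F) →ₗ[F] W) (T : W →ₗ[F] W)
    (h : ∀ j : Fin D, lc (coef S D (app A o (unitVec D j))) = T (lc (Pi.single j 1)))
    {x : Vec} (hx : Good A D x) : lc (coef S D (app A o x)) = T (lc (coef S D x)) := by
  have key : lc.comp (opLin S D o) = T.comp lc :=
    LinearMap.pi_ext' fun j => LinearMap.ext_ring (by
      have := h j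
      rw [(app_spec S ho (good_unit S j)).2, coef_unit] at this
      simpa using this)
  rw [(app_spec S ho hx).2]
  exact LinearMap.congr_fun key _

end Linear

/-- A sign. -/
def sgn (F : Type*) [Field F] (b : Bool) : F := if b then -1 else 1

theorem sgn_xor {F : Type*} [Field F] (a b : Bool) : sgn F (xor a b) = sgn F a * sgn F b := by
  cases a <;> cases b <;> simp [sgn]

/-- The paired index. -/
def mate (j : ℕ) : ℕ := if j % 2 = 0 then j + 1 else j - 1

/-- The indices in a code. -/
def bits (K m : ℕ) : List ℕ := (List.range K).filter m.testBit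

/-- The generators and the products are consistent. -/
def sysOK (A : Ar) (D N : ℕ) (gens els : List Op) : Bool :=
  gens.all (opOK A D) && gens.length == 2 * N && els.length == 4 ^ N && els.all (opOK A D) &&
    (List.range (4 ^ N)).all fun m => (List.range D).all fun j =>
      app A (els.getD m []) (unitVec D j) ==
        (bits (2 * N) m).foldr (fun i x => app A (gens.getD i []) x) (unitVec D j)

/-- A level uses a generator and the multiples of the products with the same square. -/
def levelsOK (A : Ar) (D N : ℕ) (gens els : List Op) (levels : List Level) : Bool :=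
  levels.all fun ℓ => (List.range (2 * N)).any fun i =>
    ℓ.tag == 2 ^ i && ℓ.gen == gens.getD i [] &&
      (List.range A.q).any fun σ =>
        ℓ.cands == candsOf A D els σ &&
          app A ℓ.gen (app A ℓ.gen (unitVec D 0)) == vscale A σ (unitVec D 0)

/-- A vector of the right size which is not zero. -/
def vecOK (A : Ar) (D : ℕ) (x : Vec) : Bool :=
  x.length == D && x.all (fun a => decide (a < A.q)) && x.any (fun a => a != 0)

/-- Two vectors whose stabilizer among the linear elements is trivial. -/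
def LinPair {G V : Type u} [Group G] [AddCommGroup V] [DistribMulAction G V] (fr : Frame G V) :
    Prop :=
  ∃ v w : V, v ≠ 0 ∧ ∀ g : G, fr.IsLin g → g • v = v → g • w = w → g = 1

variable {G V : Type u} [Group G] [AddCommGroup V] [DistribMulAction G V]

/-- The linear elements. -/
def linG (fr : Frame G V) : Subgroup G where
  carrier := {g | fr.IsLin g}
  one_mem' := fun k x => by rw [one_smul, one_smul]
  mul_mem' := fun {a b} ha hb k x => by rw [mul_smul, hb, ha, ← mul_smul a b]
  inv_mem' := fun {a} ha k x => by rw [inv_smul_eq_iff, ha, smul_inv_smul]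

/-- A represented system of generators. -/
structure Sys (fr : Frame G V) (A : Ar) (D N : ℕ) where
  S : Code A fr.F
  lc : (Fin D → fr.F) →ₗ[fr.F] V
  hlc : Function.Injective lc
  hD : 0 < D
  e : ℕ → G
  gens : List Op
  els : List Op
  heM : ∀ i, i < 2 * N → e i ∈ fr.M
  hsymp : ∀ i j, i < 2 * N → j < 2 * N → fr.β (e i) (e j) = sgn fr.F (decide (mate i = j))
  hcomplete : ∀ a ∈ fr.M, (∀ i, i < 2 * N → fr.β a (e i) = 1) → a ∈ fr.U
  hker : ∀ g : G, fr.IsLin g → (∀ j, g • lc (Pi.single j 1) = lc (Pi.single j 1)) → g = 1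
  hgen : ∀ i, i < 2 * N → ∃ c : fr.F, c ≠ 0 ∧ ∀ j : Fin D,
    lc (coef S D (app A (gens.getD i []) (unitVec D j))) = c • e i • lc (Pi.single j 1)
  hok : sysOK A D N gens els = true

namespace Sys

variable {fr : Frame G V} {A : Ar} {D N : ℕ} (P : Sys fr A D N)

/-- The vector of a list. -/
def Φ (x : Vec) : V := P.lc (coef P.S D x)

/-- The product belonging to a code. -/
def prod (m : ℕ) : G := ((bits (2 * N) m).map P.e).prod

/-- The relation `g x = y`. -/
def Rel (g : linG fr) (x y : Vec) : Prop := Good A D x ∧ Good A D y ∧ (g : G) • P.Φ x = P.Φ y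

/-- Multiplication by a multiple of an element of `M`. -/
def act (c : fr.F) (m : G) (hm : m ∈ fr.M) : V →ₗ[fr.F] V where
  toFun w := c • m • w
  map_add' w w' := by rw [smul_add, smul_add]
  map_smul' k w := by rw [RingHom.id_apply, fr.hMlin m hm, smul_comm]

theorem isRel : IsRel A D P.Rel where
  unique := fun g x y y' ⟨_, h2, h3⟩ ⟨_, h5, h6⟩ =>
    coef_inj P.S h2 h5 (P.hlc (h3.symm.trans h6))
  zero := fun g => ⟨good_zero P.S, good_zero P.S, by
    simp [Φ, coef_zero]⟩
  add := fun g x y x' y' ⟨h1, h2, h3⟩ ⟨h4, h5, h6⟩ => ⟨good_vadd P.S h1 h4, good_vadd P.S h2 h5, by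
    simp only [Φ] at h3 h6 ⊢
    rw [coef_vadd P.S h1 h4, coef_vadd P.S h2 h5, map_add, map_add, smul_add, h3, h6]⟩
  smul := fun g c x y hc ⟨h1, h2, h3⟩ => ⟨good_vscale P.S hc h1, good_vscale P.S hc h2, by
    simp only [Φ] at h3 ⊢
    rw [coef_vscale P.S hc h1, coef_vscale P.S hc h2, map_smul, map_smul, g.2, h3]⟩

theorem hok' : (∀ o ∈ P.gens, opOK A D o = true) ∧ P.gens.length = 2 * N ∧ P.els.length = 4 ^ N ∧
    (∀ o ∈ P.els, opOK A D o = true) ∧ ∀ m, m < 4 ^ N → ∀ j, j < D →
      app A (P.els.getD m []) (unitVec D j) =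
        (bits (2 * N) m).foldr (fun i x => app A (P.gens.getD i []) x) (unitVec D j) := by
  have h := P.hok
  simp only [sysOK, Bool.and_eq_true, beq_iff_eq, List.all_eq_true, List.mem_range] at h
  obtain ⟨⟨⟨⟨h1, h2⟩, h3⟩, h4⟩, h5⟩ := h
  exact ⟨h1, h2, h3, h4, h5⟩

theorem gens_ok {i : ℕ} (hi : i < 2 * N) : opOK A D (P.gens.getD i []) = true := by
  have h : i < P.gens.length := by rw [P.hok'.2.1]; exact hi
  rw [List.getD_eq_getElem _ _ h]
  exact P.hok'.1 _ (List.getElem_mem h)

theorem gen_sem {i : ℕ} (hi : i < 2 * N) : ∃ c : fr.F, c ≠ 0 ∧ ∀ x, Good A D x →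
    P.Φ (app A (P.gens.getD i []) x) = c • P.e i • P.Φ x := by
  obtain ⟨c, hc, h⟩ := P.hgen i hi
  exact ⟨c, hc, fun x hx => op_sem P.S (P.gens_ok hi) P.lc (act c _ (P.heM i hi)) h hx⟩

theorem prod_mem (m : ℕ) : P.prod m ∈ fr.M := fr.M.list_prod_mem fun x hx => by
  obtain ⟨i, hi, rfl⟩ := List.mem_map.1 hx
  exact P.heM i (List.mem_range.1 (List.mem_filter.1 hi).1)

theorem els_sem {m : ℕ} (hm : m < 4 ^ N) : ∃ c : fr.F, c ≠ 0 ∧ ∀ x, Good A D x →
    P.Φ (app A (P.els.getD m []) x) = c • P.prod m • P.Φ x := by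
  obtain ⟨-, -, hlen, hops, heval⟩ := P.hok'
  suffices key : ∀ l : List ℕ, (∀ i ∈ l, i < 2 * N) → ∃ c : fr.F, c ≠ 0 ∧ ∀ x, Good A D x →
      Good A D (l.foldr (fun i x => app A (P.gens.getD i []) x) x) ∧
        P.Φ (l.foldr (fun i x => app A (P.gens.getD i []) x) x) = c • (l.map P.e).prod • P.Φ x by
    obtain ⟨c, hc, h⟩ := key (bits (2 * N) m) fun i hi => List.mem_range.1 (List.mem_filter.1 hi).1
    have ho : opOK A D (P.els.getD m []) = true := by
      rw [List.getD_eq_getElem _ _ (by rw [hlen]; exact hm)]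
      exact hops _ (List.getElem_mem _)
    refine ⟨c, hc, fun x hx => op_sem P.S ho P.lc (act c _ (P.prod_mem m)) (fun j => ?_) hx⟩
    rw [heval m hm j j.2]
    have h' := (h _ (good_unit P.S j)).2
    simp only [Φ, coef_unit] at h'
    exact h'
  intro l
  induction l with
  | nil => intro _; exact ⟨1, one_ne_zero, fun x hx => ⟨hx, by simp⟩⟩
  | cons i l ih =>
    intro hl
    obtain ⟨c, hc, h⟩ := ih fun i' hi' => hl i' (List.mem_cons_of_mem _ hi')
    obtain ⟨d, hd, hd'⟩ := P.gen_sem (hl i List.mem_cons_self)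
    refine ⟨d * c, mul_ne_zero hd hc, fun x hx => ?_⟩
    obtain ⟨h1, h2⟩ := h x hx
    refine ⟨(app_spec P.S (P.gens_ok (hl i List.mem_cons_self)) h1).1, ?_⟩
    rw [List.foldr_cons, hd' _ h1, h2, fr.hMlin _ (P.heM i (hl i List.mem_cons_self)), smul_smul,
      ← mul_smul (P.e i), List.map_cons, List.prod_cons]

theorem β_list {l : List G} (hl : ∀ a ∈ l, a ∈ fr.M) {w : G} (hw : w ∈ fr.M) :
    fr.β l.prod w = (l.map fun a => fr.β a w).prod := by
  induction l with
  | nil => simpa using fr.β_U_left fr.U.one_mem hw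
  | cons a l ih =>
    have hl' : ∀ a ∈ l, a ∈ fr.M := fun b hb => hl b (List.mem_cons_of_mem _ hb)
    rw [List.prod_cons, fr.β_left (hl a List.mem_cons_self) (fr.M.list_prod_mem hl') hw, ih hl',
      List.map_cons, List.prod_cons]

omit [DistribMulAction G V] in
theorem prod_filter {F : Type*} [CommMonoid F] (f : ℕ → F) (p : ℕ → Bool) (K : ℕ) :
    (((List.range K).filter p).map f).prod = ∏ i ∈ Finset.range K, if p i then f i else 1 := by
  induction K with
  | zero => simp
  | succ K ih =>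
    rw [List.range_succ, List.filter_append, List.map_append, List.prod_append, ih,
      Finset.prod_range_succ]
    congr 1
    cases h : p K <;> simp [h]

theorem β_prod_e (m : ℕ) {j : ℕ} (hj : j < 2 * N) :
    fr.β (P.prod m) (P.e j) = sgn fr.F (m.testBit (mate j)) := by
  rw [prod, β_list (fun a ha => by
    obtain ⟨i, hi, rfl⟩ := List.mem_map.1 ha
    exact P.heM i (List.mem_range.1 (List.mem_filter.1 hi).1)) (P.heM j hj), List.map_map, bits,
    prod_filter]
  have hmate : mate j < 2 * N ∧ mate (mate j) = j := by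
    unfold mate
    split_ifs <;> omega
  rw [Finset.prod_eq_single (mate j)]
  · cases h : m.testBit (mate j)
    · simp [sgn]
    · simp only [if_true, Function.comp_apply]
      rw [P.hsymp _ _ hmate.1 hj, hmate.2]
      simp [sgn]
  · intro i hi hne
    split_ifs
    · simp only [Function.comp_apply]
      rw [P.hsymp _ _ (Finset.mem_range.1 hi) hj, decide_eq_false]
      · simp [sgn]
      · intro h
        apply hne
        rw [← h]
        unfold mate
        split_ifs <;> omega
    · rfl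
  · exact fun h => absurd (Finset.mem_range.2 hmate.1) h

theorem β_prod (a b : ℕ) : fr.β (P.prod a) (P.prod b) = sgn fr.F (symp N a b) := by
  have hswap : ∀ j, j < 2 * N → fr.β (P.prod a) (P.e j) = sgn fr.F (a.testBit (mate j)) :=
    fun j hj => P.β_prod_e a hj
  have hr : ∀ l : List G, (∀ x ∈ l, x ∈ fr.M) →
      fr.β (P.prod a) l.prod = (l.map fun x => fr.β (P.prod a) x).prod := by
    intro l
    induction l with
    | nil => intro _; simpa using fr.β_comm (P.prod_mem a) fr.M.one_mem (by simp)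
    | cons x l ih =>
      intro hl
      have hl' : ∀ x ∈ l, x ∈ fr.M := fun y hy => hl y (List.mem_cons_of_mem _ hy)
      rw [List.prod_cons, fr.β_right (P.prod_mem a) (hl x List.mem_cons_self)
        (fr.M.list_prod_mem hl'), ih hl', List.map_cons, List.prod_cons]
  show fr.β (P.prod a) ((bits (2 * N) b).map P.e).prod = _
  rw [hr _ (fun x hx => by
    obtain ⟨i, hi, rfl⟩ := List.mem_map.1 hx
    exact P.heM i (List.mem_range.1 (List.mem_filter.1 hi).1)), List.map_map, bits, prod_filter,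
    Finset.prod_congr rfl (g := fun j => sgn fr.F (b.testBit j && a.testBit (mate j))) (fun j hj => by
      cases h : b.testBit j
      · simp [sgn]
      · simp only [if_true, Function.comp_apply, Bool.true_and]
        exact hswap j (Finset.mem_range.1 hj))]
  have hf : ∀ (t : ℕ → Bool) (l : List ℕ) (init : Bool),
      l.foldr (fun i r => xor r (t i)) init = xor (l.foldr (fun i r => xor r (t i)) false) init := by
    intro t l init
    induction l with
    | nil => simp
    | cons i l ih =>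
      simp only [List.foldr_cons]
      rw [ih]
      cases (List.foldr (fun i r => xor r (t i)) false l) <;> cases init <;> cases t i <;> rfl
  have hk : ∀ k, ∏ j ∈ Finset.range (2 * k), sgn fr.F (b.testBit j && a.testBit (mate j)) =
      sgn fr.F (symp k a b) := by
    intro k
    induction k with
    | zero => simp [symp, sgn]
    | succ k ih =>
      rw [show 2 * (k + 1) = 2 * k + 1 + 1 by ring, Finset.prod_range_succ, Finset.prod_range_succ,
        ih, symp, symp, List.range_succ, List.foldr_append, List.foldr_cons, List.foldr_nil,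
        hf _ _ (xor false _), Bool.false_xor, sgn_xor, sgn_xor, mul_assoc,
        show mate (2 * k) = 2 * k + 1 by simp [mate],
        show mate (2 * k + 1) = 2 * k by simp [mate]]
      congr 1
      cases a.testBit (2 * k) <;> cases a.testBit (2 * k + 1) <;> cases b.testBit (2 * k) <;>
        cases b.testBit (2 * k + 1) <;> simp [sgn]
  exact hk N

theorem β_sign {a : G} (ha : a ∈ fr.M) {i : ℕ} (hi : i < 2 * N) :
    fr.β a (P.e i) = 1 ∨ fr.β a (P.e i) = -1 := by
  have hU : P.e i ^ 2 ∈ fr.U := by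
    refine P.hcomplete _ (fr.M.pow_mem (P.heM i hi) 2) fun j hj => ?_
    rw [sq, fr.β_left (P.heM i hi) (P.heM i hi) (P.heM j hj), P.hsymp i j hi hj]
    cases decide (mate i = j) <;> simp [sgn]
  have h1 := fr.β_sq_left (P.heM i hi) ha hU
  rwa [fr.β_symm_sign (P.heM i hi) ha hU]

open Classical in
/-- The code of an element of `M`. -/
noncomputable def code (a : G) : ℕ :=
  Nat.ofBits (n := 2 * N) fun j => decide (fr.β a (P.e (mate j)) ≠ 1)

theorem code_lt (a : G) : P.code a < 4 ^ N := by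
  rw [code, show (4 : ℕ) ^ N = 2 ^ (2 * N) by rw [pow_mul]; norm_num]
  exact Nat.ofBits_lt_two_pow _

theorem code_spec {a : G} (ha : a ∈ fr.M) (hne : (-1 : fr.F) ≠ 1) :
    (P.prod (P.code a))⁻¹ * a ∈ fr.U := by
  classical
  refine P.hcomplete _ (fr.M.mul_mem (fr.M.inv_mem (P.prod_mem _)) ha) fun i hi => ?_
  have hmate : mate i < 2 * N ∧ mate (mate i) = i := by
    unfold mate
    split_ifs <;> omega
  have hinv : fr.β (P.prod (P.code a))⁻¹ (P.e i) * fr.β (P.prod (P.code a)) (P.e i) = 1 := by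
    rw [← fr.β_left (fr.M.inv_mem (P.prod_mem _)) (P.prod_mem _) (P.heM i hi), inv_mul_cancel]
    exact fr.β_U_left fr.U.one_mem (P.heM i hi)
  rw [fr.β_left (fr.M.inv_mem (P.prod_mem _)) ha (P.heM i hi)]
  have hb : fr.β (P.prod (P.code a)) (P.e i) = fr.β a (P.e i) := by
    rw [P.β_prod_e _ hi, code, Nat.testBit_ofBits_lt _ _ hmate.1]
    simp only [hmate.2]
    rcases P.β_sign ha hi with h | h <;> simp [h, sgn, hne]
  rwa [hb] at hinv

theorem psi_conj {g : G} (hlin : fr.IsLin g) {u : G} (hu : u ∈ fr.U) :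
    fr.ψ (g * u * g⁻¹) = fr.ψ u := by
  refine fr.scal fr.hv ?_
  rw [← fr.hψ _ (fr.hUn.conj_mem u hu g), mul_smul, mul_smul, fr.hψ u hu, hlin, smul_inv_smul]

theorem β_conj {g : G} (hlin : fr.IsLin g) {a b : G} (ha : a ∈ fr.M) (hb : b ∈ fr.M) :
    fr.β (g * a * g⁻¹) (g * b * g⁻¹) = fr.β a b := by
  have e : ⁅g * a * g⁻¹, g * b * g⁻¹⁆ = g * ⁅a, b⁆ * g⁻¹ := by
    simp only [commutatorElement_def]; group
  show fr.ψ _ = fr.ψ _
  rw [e, psi_conj hlin (fr.hMcomm a ha b hb)]

theorem β_congr {a a' b b' : G} (ha : a ∈ fr.M) (hb : b ∈ fr.M) (ha' : a⁻¹ * a' ∈ fr.U)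
    (hb' : b⁻¹ * b' ∈ fr.U) : fr.β a' b' = fr.β a b := by
  conv_lhs => rw [← mul_inv_cancel_left a a', ← mul_inv_cancel_left b b']
  rw [fr.β_left ha (fr.hUM ha') (fr.M.mul_mem hb (fr.hUM hb')), fr.β_U_left ha'
    (fr.M.mul_mem hb (fr.hUM hb')), mul_one, fr.β_right ha hb (fr.hUM hb'),
    fr.β_swap (fr.hUM hb') ha, fr.β_U_left hb' ha, inv_one, mul_one]

/-- The code of the conjugate of a generator. -/
noncomputable def tag (g : G) (t : ℕ) : ℕ :=
  open Classical in if h : ∃ i, i < 2 * N ∧ t = 2 ^ i then P.code (g * P.e h.choose * g⁻¹) else t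

theorem tag_pow (g : G) {i : ℕ} (hi : i < 2 * N) :
    P.tag g (2 ^ i) = P.code (g * P.e i * g⁻¹) := by
  have h : ∃ j, j < 2 * N ∧ 2 ^ i = 2 ^ j := ⟨i, hi, rfl⟩
  rw [tag, dif_pos h]
  have := Nat.pow_right_injective le_rfl h.choose_spec.2
  rw [← this]

/-- The matrix of a linear element fixing two vectors is in the allowed list. -/
theorem stab (hne : (-1 : fr.F) ≠ 1) {v w : Vec} {levels : List Level}
    {ex : List (List (ℕ × ℕ))} {allowed : List (List Vec)}
    (hok : certOK A D N v w levels ex = true) (hcert : cert A D N v w levels ex allowed = true)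
    (hlev : levelsOK A D N P.gens P.els levels = true)
    (hv : vecOK A D v = true) (hw : vecOK A D w = true)
    (g : linG fr) (hgv : (g : G) • P.Φ v = P.Φ v) (hgw : (g : G) • P.Φ w = P.Φ w) :
    ∃ M ∈ allowed, IsMat D P.Rel g M := by
  classical
  have hgood : ∀ x, vecOK A D x = true → Good A D x := fun x hx => by
    simp only [vecOK, Bool.and_eq_true, beq_iff_eq, List.all_eq_true, decide_eq_true_eq] at hx
    exact hx.1
  have hτ : ∀ a ∈ (List.range (2 * N)).map (fun i => 2 ^ i),
      ∀ b ∈ (List.range (2 * N)).map (fun i => 2 ^ i),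
      symp N (P.tag g a) (P.tag g b) = symp N a b := fun a ha b hb => by
    simp only [List.mem_map, List.mem_range] at ha hb
    obtain ⟨i, hi, rfl⟩ := ha
    obtain ⟨j, hj, rfl⟩ := hb
    have hpow : ∀ i, i < 2 * N → P.prod (2 ^ i) = P.e i := fun i hi => by
      have : bits (2 * N) (2 ^ i) = [i] := by
        refine List.Perm.eq_singleton ((List.perm_ext_iff_of_nodup
          (List.nodup_range.filter _) (List.nodup_singleton i)).2 fun a => ?_)
        simp only [bits, List.mem_filter, List.mem_range, Nat.testBit_two_pow, decide_eq_true_eq,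
          List.mem_singleton]
        exact ⟨fun h => h.2.symm, fun h => ⟨h ▸ hi, h.symm⟩⟩
      rw [prod, this]; simp
    have key : sgn fr.F (symp N (P.tag g (2 ^ i)) (P.tag g (2 ^ j))) =
        sgn fr.F (symp N (2 ^ i) (2 ^ j)) := by
      rw [← P.β_prod, ← P.β_prod, P.tag_pow g hi, P.tag_pow g hj, hpow i hi, hpow j hj,
        ← β_conj g.2 (P.heM i hi) (P.heM j hj)]
      exact (β_congr (P.prod_mem _) (P.prod_mem _)
        (P.code_spec (fr.hMn.conj_mem _ (P.heM i hi) g) hne)
        (P.code_spec (fr.hMn.conj_mem _ (P.heM j hj) g) hne)).symm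
    revert key
    cases symp N (P.tag g (2 ^ i)) (P.tag g (2 ^ j)) <;> cases symp N (2 ^ i) (2 ^ j) <;>
      simp [sgn, hne, Ne.symm hne]
  suffices hgen : ∀ ℓ ∈ levels, ℓ.tag ∈ (List.range (2 * N)).map (fun i => 2 ^ i) ∧
      ∃ o ∈ ℓ.cands, o.1 = P.tag g ℓ.tag ∧ Carries A P.Rel g ℓ.gen o.2 by
    obtain ⟨M, hM, h1, h2⟩ := cert_sound P.isRel (g := g) (P.tag g) _ hτ hok hcert
      ⟨hgood v hv, hgood v hv, hgv⟩ ⟨hgood w hw, hgood w hw, hgw⟩ hgen
    exact ⟨M, hM, h1, h2⟩
  intro ℓ hℓ
  simp only [levelsOK, List.all_eq_true, List.any_eq_true, List.mem_range, Bool.and_eq_true,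
    beq_iff_eq] at hlev
  obtain ⟨i, hi, ⟨htag, hgen⟩, σ, hσ, hcands, hsq⟩ := hlev ℓ hℓ
  refine ⟨List.mem_map.2 ⟨i, List.mem_range.2 hi, htag.symm⟩, ?_⟩
  rw [hgen] at hsq
  rw [htag, P.tag_pow g hi, hgen, hcands]
  set a := (g : G) * P.e i * (g : G)⁻¹
  have haM : a ∈ fr.M := fr.hMn.conj_mem _ (P.heM i hi) g
  set m := P.code a
  have hm : m < 4 ^ N := P.code_lt a
  obtain ⟨c, hc, hcgen⟩ := P.gen_sem hi
  obtain ⟨d, hd, hdels⟩ := P.els_sem hm
  have hU := P.code_spec haM hne
  set r := (P.prod m)⁻¹ * a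
  obtain ⟨u, hu, hιu⟩ := P.S.hsurj (c * fr.ψ r * d⁻¹)
  have hopE : opOK A D (P.els.getD m []) = true := by
    rw [List.getD_eq_getElem _ _ (by rw [P.hok'.2.2.1]; exact hm)]
    exact P.hok'.2.2.2.1 _ (List.getElem_mem _)
  obtain ⟨hopS, hlinS⟩ := scale_spec P.S hu hopE
  have hsem : ∀ y, Good A D y →
      P.Φ (app A (scaleOp A u (P.els.getD m [])) y) = c • a • P.Φ y := fun y hy => by
    have h1 : P.Φ (app A (scaleOp A u (P.els.getD m [])) y) =
        P.S.ι u • P.Φ (app A (P.els.getD m []) y) := by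
      simp only [Φ, (app_spec P.S hopS hy).2, (app_spec P.S hopE hy).2, hlinS, LinearMap.smul_apply,
        map_smul]
    rw [h1, hdels y hy, hιu, show a = P.prod m * r by simp only [r]; group, mul_smul (P.prod m),
      fr.hψ r hU, fr.hMlin _ (P.prod_mem m), smul_smul, smul_smul]
    congr 1
    field_simp
  refine ⟨(m, scaleOp A u (P.els.getD m [])), ?_, rfl, fun x y ⟨hx, hy, hxy⟩ => ?_⟩
  · rw [candsOf, List.mem_filter]
    refine ⟨List.mem_flatMap.2 ⟨m, List.mem_range.2 (by rw [P.hok'.2.2.1]; exact hm),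
      List.mem_map.2 ⟨u, List.mem_filter.2 ⟨List.mem_range.2 hu, ?_⟩, rfl⟩⟩, ?_⟩
    · rw [bne_iff_ne]
      intro h
      rw [h, P.S.h0] at hιu
      exact mul_ne_zero (mul_ne_zero hc (fr.ψ_ne hU)) (inv_ne_zero hd) hιu.symm
    set x0 := unitVec D 0
    have g0 : Good A D x0 := good_unit P.S 0
    have g1 := (app_spec P.S hopS g0).1
    have g2 := (app_spec P.S (P.gens_ok hi) g0).1
    rw [beq_iff_eq]
    refine coef_inj P.S (app_spec P.S hopS g1).1 (good_vscale P.S hσ g0) (P.hlc ?_)
    show P.Φ _ = P.Φ _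
    have hsq' : c • P.e i • c • P.e i • P.Φ x0 = P.S.ι σ • P.Φ x0 := by
      rw [← hcgen _ g0, ← hcgen _ g2, hsq]
      simp only [Φ, coef_vscale P.S hσ g0, map_smul]
    rw [hsem _ g1, hsem _ g0]
    simp only [Φ, coef_vscale P.S hσ g0, map_smul]
    show c • a • c • a • P.Φ x0 = P.S.ι σ • P.Φ x0
    have he2 : P.e i ^ 2 ∈ fr.U := by
      refine P.hcomplete _ (fr.M.pow_mem (P.heM i hi) 2) fun j hj => ?_
      rw [sq, fr.β_left (P.heM i hi) (P.heM i hi) (P.heM j hj), P.hsymp i j hi hj]
      cases decide (mate i = j) <;> simp [sgn]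
    have ha2 : a ^ 2 ∈ fr.U := by
      rw [show a ^ 2 = (g : G) * P.e i ^ 2 * (g : G)⁻¹ by simp only [a, sq]; group]
      exact fr.hUn.conj_mem _ he2 g
    rw [fr.hMlin _ haM, ← mul_smul a a, ← sq, fr.hψ _ ha2,
      show fr.ψ (a ^ 2) = fr.ψ (P.e i ^ 2) by
        rw [show a ^ 2 = (g : G) * P.e i ^ 2 * (g : G)⁻¹ by simp only [a, sq]; group,
          psi_conj g.2 he2], ← hsq', fr.hMlin _ (P.heM i hi), ← mul_smul (P.e i), ← sq,
      fr.hψ _ he2]
  · refine ⟨(app_spec P.S (P.gens_ok hi) hx).1, (app_spec P.S hopS hy).1, ?_⟩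
    rw [hcgen x hx, hsem y hy, ← hxy, g.2, ← mul_smul a, ← mul_smul (g : G)]
    congr 2
    simp only [a]; group

theorem hone (j : ℕ) (_ : j < D) : P.Rel 1 (unitVec D j) (unitVec D j) :=
  ⟨good_unit P.S j, good_unit P.S j, by rw [Subgroup.coe_one, one_smul]⟩

theorem hmul (g k : linG fr) (x y z : Vec) :
    P.Rel k x y → P.Rel g y z → P.Rel (g * k) x z :=
  fun ⟨h1, _, h3⟩ ⟨_, h5, h6⟩ => ⟨h1, h5, by rw [Subgroup.coe_mul, mul_smul, h3, h6]⟩

theorem hker' (g : linG fr) (h : ∀ j, j < D → P.Rel g (unitVec D j) (unitVec D j)) : g = 1 := by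
  refine Subtype.ext (P.hker g g.2 fun j => ?_)
  have := (h j j.2).2.2
  rwa [Φ, coef_unit] at this

theorem eq_one_of_units {g : linG fr} (h : IsMat D P.Rel g (units D)) : g = 1 :=
  P.hker' g fun j hj => by have := h.2 j hj; rwa [units_getD hj] at this

theorem Φ_ne {v : Vec} (hv : vecOK A D v = true) : P.Φ v ≠ 0 := by
  simp only [vecOK, Bool.and_eq_true, beq_iff_eq, List.all_eq_true, decide_eq_true_eq,
    List.any_eq_true, bne_iff_ne] at hv
  intro h
  have : v = List.replicate D 0 := coef_inj P.S hv.1 (good_zero P.S) (P.hlc (by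
    rw [coef_zero, map_zero]; exact h))
  obtain ⟨a, ha, hne⟩ := hv.2
  rw [this] at ha
  exact hne (List.mem_replicate.1 ha).2

/-- One certificate without exceptions. -/
theorem pair_single (hne : (-1 : fr.F) ≠ 1) {v w : Vec} {levels : List Level}
    {ex : List (List (ℕ × ℕ))} {allowed : List (List Vec)}
    (hok : certOK A D N v w levels ex = true) (hcert : cert A D N v w levels ex allowed = true)
    (hlev : levelsOK A D N P.gens P.els levels = true)
    (hv : vecOK A D v = true) (hw : vecOK A D w = true) (hall : allowed = [units D]) :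
    LinPair fr := by
  refine ⟨P.Φ v, P.Φ w, P.Φ_ne hv, fun g hg h1 h2 => ?_⟩
  obtain ⟨M, hM, hIs⟩ := P.stab hne hok hcert hlev hv hw ⟨g, hg⟩ h1 h2
  rw [hall, List.mem_singleton] at hM
  subst hM
  exact congrArg Subtype.val (P.eq_one_of_units hIs)

/-- Some certificate of a family has no exception. -/
theorem pair_family [Finite G] (hne : (-1 : fr.F) ≠ 1) (hcop : (Nat.card G).Coprime 3)
    (cs : List (Vec × Vec × List Level × List (List (ℕ × ℕ)) × List (List Vec)))
    (hcs : ∀ c ∈ cs, certOK A D N c.1 c.2.1 c.2.2.1 c.2.2.2.1 = true ∧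
      cert A D N c.1 c.2.1 c.2.2.1 c.2.2.2.1 c.2.2.2.2 = true ∧
      levelsOK A D N P.gens P.els c.2.2.1 = true ∧ vecOK A D c.1 = true ∧
      vecOK A D c.2.1 = true ∧ c.2.2.2.2.head? = some (units D))
    (hfam : family A D (cs.map fun c => c.2.2.2.2.tail) [] = true) : LinPair fr := by
  by_contra hno
  refine family_sound P.isRel P.hone P.hmul P.hker' (fun g => ⟨orderOf g, fun h => ?_,
    pow_orderOf_eq_one g⟩) _ [] (fun L hL => ?_) (by simp) hfam
  · have h1 : orderOf g ∣ Nat.card G := by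
      rw [← Subgroup.orderOf_coe]; exact orderOf_dvd_natCard _
    exact Nat.prime_three.coprime_iff_not_dvd.1 hcop.symm (h.trans h1)
  · obtain ⟨c, hc, rfl⟩ := List.mem_map.1 hL
    obtain ⟨hok, hcert, hlev, hv, hw, hhead⟩ := hcs c hc
    by_contra hall
    refine hno ⟨P.Φ c.1, P.Φ c.2.1, P.Φ_ne hv, fun g hg h1 h2 => ?_⟩
    obtain ⟨M, hM, hIs⟩ := P.stab hne hok hcert hlev hv hw ⟨g, hg⟩ h1 h2
    rcases hc' : c.2.2.2.2 with _ | ⟨a, rest⟩
    · rw [hc'] at hM; simp at hM
    rw [hc'] at hM hhead hall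
    obtain rfl : a = units D := by simpa using hhead
    rcases List.mem_cons.1 hM with rfl | hM
    · exact congrArg Subtype.val (P.eq_one_of_units hIs)
    · exact (hall ⟨M, hM, ⟨g, hg⟩, hIs⟩).elim

end Sys

end Pauli

end CfsgLib.Perm.CoprimeBase
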