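import Cfsg.Prelude.Def_OddOrderLocal
import Cfsg.Agent.Lib.Solvable.Cores
import Cfsg.Agent.Lib.Perm.CoprimeBase.Auto

/-!
# Three conjugates of a Hall subgroup of a `π`-solvable group

Modulo `O_π` a Hall `π`-subgroup is solvable and acts faithfully and coprimely on `O_π'`; two points
with trivial common centralizer give the two conjugating elements.
-/

namespace CfsgLib.Perm.CoprimeBase

namespace PiHall

open scoped Pointwise commutatorElement

variable {G : Type*} [Group G]

/-- A number whose prime divisors lie in `π`. -/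
def IsPi (π : Set ℕ) (n : ℕ) : Prop := ∀ q : ℕ, q.Prime → q ∣ n → q ∈ π

/-- An admissible index. -/
def Step (π : Set ℕ) (n : ℕ) : Prop :=
  (∃ p ∈ π, p.Prime ∧ ∃ k : ℕ, n = p ^ k) ∨ ∀ q : ℕ, q.Prime → q ∣ n → q ∉ π

theorem Step.of_dvd {π : Set ℕ} {m n : ℕ} (h : Step π n) (hd : m ∣ n) : Step π m := by
  rcases h with ⟨p, hp, hpp, k, rfl⟩ | h
  · obtain ⟨j, -, rfl⟩ := (Nat.dvd_prime_pow hpp).1 hd
    exact Or.inl ⟨p, hp, hpp, j, rfl⟩
  · exact Or.inr fun q hq hqd => h q hq (hqd.trans hd)

theorem eq_one_of_isPi {π : Set ℕ} {n : ℕ} (h1 : IsPi π n) (h2 : ∀ q : ℕ, q.Prime → q ∣ n → q ∉ π) :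
    n = 1 :=
  Nat.eq_one_iff_not_exists_prime_dvd.2 fun q hq hqd => h2 q hq hqd (h1 q hq hqd)

theorem isPi_mul {π : Set ℕ} {m n : ℕ} (hm : IsPi π m) (hn : IsPi π n) : IsPi π (m * n) :=
  fun q hq h => ((Nat.Prime.dvd_mul hq).1 h).elim (hm q hq) (hn q hq)

/-- A chain of normal subgroups with admissible indices. -/
def Chain (π : Set ℕ) (G : Type*) [Group G] : Prop :=
  ∃ (n : ℕ) (N : Fin (n + 1) → Subgroup G), N 0 = ⊥ ∧ N (Fin.last n) = ⊤ ∧ Monotone N ∧
    (∀ i, (N i).Normal) ∧ ∀ i : Fin n, Step π ((N i.castSucc).relIndex (N i.succ))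

theorem relIndex_dvd_of_le_right {N K K' : Subgroup G} [N.Normal] (h : K' ≤ K) :
    N.relIndex K' ∣ N.relIndex K := by
  rw [← QuotientGroup.ker_mk' N, Subgroup.relIndex_ker, Subgroup.relIndex_ker]
  exact Subgroup.card_dvd_of_le (Subgroup.map_mono h)

theorem Chain.map {π : Set ℕ} {G' : Type*} [Group G'] (h : Chain π G) (f : G →* G')
    (hf : Function.Surjective f) : Chain π G' := by
  obtain ⟨n, N, h0, h1, hmono, hn, hstep⟩ := h
  refine ⟨n, fun i => (N i).map f, by simp [h0], ?_, fun i j hij => Subgroup.map_mono (hmono hij),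
    fun i => (hn i).map f hf, fun i => (hstep i).of_dvd ?_⟩
  · simp only [h1, Subgroup.map_top_of_surjective f hf]
  haveI := (hn i.castSucc).map f hf
  set g := (QuotientGroup.mk' ((N i.castSucc).map f)).comp f
  have h2 : ((N i.castSucc).map f).relIndex ((N i.succ).map f) = g.ker.relIndex (N i.succ) := by
    rw [Subgroup.relIndex_ker (N i.succ) g, ← Subgroup.map_map, ← Subgroup.relIndex_ker,
      QuotientGroup.ker_mk']
  rw [h2]
  refine Subgroup.relIndex_dvd_of_le_left _ fun x hx => ?_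
  show QuotientGroup.mk (f x) = (1 : G' ⧸ (N i.castSucc).map f)
  exact (QuotientGroup.eq_one_iff _).2 (Subgroup.mem_map_of_mem f hx)

theorem le_piCore {π : Set ℕ} {N : Subgroup G} (hn : N.Normal) (h : IsPi π (Nat.card N)) :
    N ≤ Cfsg.piCore π G :=
  le_sSup (show N ∈ {N : Subgroup G | N.Normal ∧ ∀ p : ℕ, p.Prime → p ∣ Nat.card N → p ∈ π}
    from ⟨hn, h⟩)

theorem isPi_piCore [Finite G] (π : Set ℕ) : IsPi π (Nat.card (Cfsg.piCore π G)) := by
  intro t ht h
  by_contra hn
  have hc : (Nat.card (Cfsg.piCore π G)).Coprime t := by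
    rw [Cfsg.piCore]
    refine CfsgLib.Solvable.Cores.coprime_card_sSup t _ (fun N hN => hN.1) fun N hN => ?_
    exact (ht.coprime_iff_not_dvd.mpr fun h' => hn (hN.2 t ht h')).symm
  exact ht.ne_one (Nat.eq_one_of_dvd_coprimes hc h dvd_rfl)

theorem le_of_isPiHall [Finite G] {π : Set ℕ} {H N : Subgroup G} [N.Normal]
    (hH : Cfsg.IsPiHall π H) (hN : IsPi π (Nat.card N)) : N ≤ H := by
  have h1 : IsPi π (Nat.card (H ⊔ N : Subgroup G)) := by
    rw [← Subgroup.relIndex_bot_left, ← Subgroup.relIndex_mul_relIndex _ _ _ bot_le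
      (le_sup_right : N ≤ H ⊔ N), Subgroup.relIndex_bot_left, Subgroup.relIndex_sup_right]
    exact isPi_mul hN fun q hq hqd => hH.1 q hq (hqd.trans (Subgroup.relIndex_dvd_card ..))
  have h2 : H.relIndex (H ⊔ N) = 1 := eq_one_of_isPi
    (fun q hq hqd => h1 q hq (hqd.trans (Subgroup.relIndex_dvd_card ..)))
    (fun q hq hqd hqπ => hH.2 q hq hqπ (hqd.trans (Subgroup.relIndex_dvd_index_of_le le_sup_left)))
  exact le_trans le_sup_right (Subgroup.relIndex_eq_one.1 h2)

/-- The centralizer of `O_π'` lies in it when `O_π` is trivial. -/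
theorem centralizer_le [Finite G] {π : Set ℕ} (hch : Chain π G) (hcore : Cfsg.piCore π G = ⊥) :
    Subgroup.centralizer (Cfsg.piCore πᶜ G : Set G) ≤ Cfsg.piCore πᶜ G := by
  obtain ⟨n, N, h0, h1, hmono, hn, hstep⟩ := hch
  set P := Cfsg.piCore πᶜ G
  set C := Subgroup.centralizer (P : Set G)
  haveI hCn : C.Normal := ⟨fun c hc g => Subgroup.mem_centralizer_iff.2 fun u hu => by
    have h2 := Subgroup.mem_centralizer_iff.1 hc (g⁻¹ * u * g)
      (by simpa using (inferInstance : P.Normal).conj_mem u hu g⁻¹)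
    calc u * (g * c * g⁻¹) = g * ((g⁻¹ * u * g) * c) * g⁻¹ := by group
      _ = g * (c * (g⁻¹ * u * g)) * g⁻¹ := by rw [h2]
      _ = g * c * g⁻¹ * u := by group⟩
  suffices key : ∀ i, C ⊓ N i ≤ P by
    have := key (Fin.last n)
    rwa [h1, inf_top_eq] at this
  intro i
  induction i using Fin.induction with
  | zero => rw [h0, inf_bot_eq]; exact bot_le
  | succ i ih =>
    haveI := hn i.succ
    haveI := hn i.castSucc
    set D := C ⊓ N i.succ
    haveI : D.Normal := Subgroup.normal_inf_normal _ _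
    set Z := D ⊓ P
    have hle : C ⊓ N i.castSucc ≤ Z :=
      le_inf (inf_le_inf_left C (hmono (Fin.castSucc_le_succ i))) ih
    have hk : Step π (Z.relIndex D) := by
      refine (hstep i).of_dvd ((Subgroup.relIndex_dvd_of_le_left _ hle).trans ?_)
      have e : (C ⊓ N i.castSucc).relIndex D = (N i.castSucc).relIndex D := by
        rw [← Subgroup.inf_relIndex_right (N i.castSucc) D]
        congr 1
        apply le_antisymm
        · exact le_inf inf_le_right (inf_le_inf_left C (hmono (Fin.castSucc_le_succ i)))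
        · exact le_inf (inf_le_right.trans inf_le_left) inf_le_left
      rw [e]
      exact relIndex_dvd_of_le_right inf_le_right
    have hcard : Nat.card D = Nat.card Z * Z.relIndex D := by
      rw [← Subgroup.relIndex_bot_left, ← Subgroup.relIndex_bot_left, Subgroup.relIndex_mul_relIndex]
      exacts [bot_le, inf_le_left]
    have hZπ : IsPi πᶜ (Nat.card Z) := fun q hq h =>
      isPi_piCore πᶜ q hq (h.trans (Subgroup.card_dvd_of_le inf_le_right))
    rcases hk with ⟨p, hpπ, hpp, k, hk⟩ | hk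
    · haveI := Fact.mk hpp
      let Z' := Z.subgroupOf D
      haveI hZn : Z'.Normal := by
        refine ⟨fun z hz d => ?_⟩
        have : (z : G) ∈ Z := hz
        show ((d * z * d⁻¹ : D) : G) ∈ Z
        exact (Subgroup.normal_inf_normal D P).conj_mem _ this d
      have hcen : Z' ≤ Subgroup.center D := fun z hz => Subgroup.mem_center_iff.2 fun d =>
        Subtype.ext (Subgroup.mem_centralizer_iff.1 d.2.1 z (Subgroup.mem_inf.1 hz).2).symm
      have hQ : IsPGroup p (D ⧸ Z') := IsPGroup.of_card (n := k) (by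
        rw [← hk]; rfl)
      haveI := hQ.isNilpotent
      haveI hnil : Group.IsNilpotent D := Subgroup.isNilpotent_of_ker_le_center (QuotientGroup.mk' Z')
        (by rw [QuotientGroup.ker_mk']; exact hcen)
      let S : Sylow p D := default
      haveI hSn : (S : Subgroup D).Normal := inferInstance
      haveI := S.characteristic_of_normal hSn
      have hle' : (S : Subgroup D).map D.subtype ≤ Cfsg.piCore π G := by
        refine le_piCore inferInstance fun q hq hqd => ?_
        obtain ⟨m, hm⟩ := S.isPGroup'.exists_card_eq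
        rw [Subgroup.card_map_of_injective D.subtype_injective, hm] at hqd
        exact ((Nat.prime_dvd_prime_iff_eq hq hpp).1 (hq.dvd_of_dvd_pow hqd)).symm ▸ hpπ
      rw [hcore, le_bot_iff, Subgroup.map_eq_bot_iff_of_injective _ D.subtype_injective] at hle'
      have hS1 : Nat.card (S : Subgroup D) = 1 := by rw [hle', Subgroup.card_bot]
      have hk0 : k = 0 := by
        by_contra hk0
        have hdvd : p ∣ Nat.card D := hcard ▸ hk ▸ dvd_mul_of_dvd_right (dvd_pow_self p hk0) _
        have := S.dvd_card_of_dvd_card hdvd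
        rw [hS1] at this
        exact hpp.one_lt.ne' (Nat.dvd_one.1 this)
      rw [hk0, pow_zero] at hk
      exact le_trans (Subgroup.relIndex_eq_one.1 hk) inf_le_right
    · refine le_piCore inferInstance ?_
      rw [hcard]
      exact isPi_mul hZπ hk

theorem isSolvable_of_isPi [Finite G] {π : Set ℕ} (hch : Chain π G) (H : Subgroup G)
    (hH : IsPi π (Nat.card H)) : Group.IsSolvable H := by
  obtain ⟨n, N, h0, h1, hmono, hn, hstep⟩ := hch
  suffices key : ∀ i, Group.IsSolvable ((N i).subgroupOf H) by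
    haveI := key (Fin.last n)
    refine solvable_of_surjective (f := ((N (Fin.last n)).subgroupOf H).subtype) fun x => ?_
    exact ⟨⟨x, by rw [Subgroup.mem_subgroupOf, h1]; trivial⟩, rfl⟩
  intro i
  induction i using Fin.induction with
  | zero =>
    haveI : Subsingleton ((N 0).subgroupOf H) := by
      rw [h0, Subgroup.bot_subgroupOf]; infer_instance
    exact Group.isSolvable_of_comm fun a b => Subsingleton.elim _ _
  | succ i ih =>
    haveI := ih
    haveI := hn i.castSucc
    set X := (N i.castSucc).subgroupOf H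
    set Y := (N i.succ).subgroupOf H
    have hXY : X ≤ Y := fun x hx => hmono (Fin.castSucc_le_succ i) hx
    have hd : X.relIndex Y ∣ (N i.castSucc).relIndex (N i.succ) := by
      refine dvd_trans (dvd_of_eq ?_)
        (@relIndex_dvd_of_le_right G _ (N i.castSucc) (N i.succ) (Y.map H.subtype) (hn i.castSucc) ?_)
      · rw [← Subgroup.relIndex_comap]; rfl
      · rintro _ ⟨y, hy, rfl⟩; exact hy
    haveI hq : Group.IsSolvable (Y ⧸ X.subgroupOf Y) := by
      rcases (hstep i).of_dvd hd with ⟨p, -, hpp, k, hk⟩ | hk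
      · haveI := Fact.mk hpp
        haveI := (IsPGroup.of_card (G := Y ⧸ X.subgroupOf Y) (n := k) hk).isNilpotent
        infer_instance
      · have h1' : X.relIndex Y = 1 := eq_one_of_isPi (fun q hq hqd => hH q hq
          ((hqd.trans (Subgroup.relIndex_dvd_card ..)).trans (Subgroup.card_subgroup_dvd_card Y))) hk
        haveI : Subsingleton (Y ⧸ X.subgroupOf Y) :=
          (Nat.card_eq_one_iff_unique.1 h1').1
        exact Group.isSolvable_of_comm fun a b => Subsingleton.elim _ _
    haveI : Group.IsSolvable (X.subgroupOf Y) :=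
      solvable_of_surjective (f := (Subgroup.subgroupOfEquivOfLe hXY).symm.toMonoidHom)
        (MulEquiv.surjective _)
    exact solvable_of_ker_le_range (X.subgroupOf Y).subtype (QuotientGroup.mk' (X.subgroupOf Y))
      (by rw [QuotientGroup.ker_mk', Subgroup.range_subtype])

/-- Three conjugates of a Hall subgroup meet in `O_π`. -/
theorem three_conjugates [Finite G] {π : Set ℕ} (hch : Chain π G) {H : Subgroup G}
    (hH : Cfsg.IsPiHall π H) :
    ∃ x y : G, H ⊓ MulAut.conj x • H ⊓ MulAut.conj y • H = Cfsg.piCore π G := by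
  classical
  set O := Cfsg.piCore π G
  have hO : IsPi π (Nat.card O) := isPi_piCore π
  have hOH : O ≤ H := le_of_isPiHall hH hO
  have hchQ : Chain π (G ⧸ O) := hch.map (QuotientGroup.mk' O) (QuotientGroup.mk'_surjective O)
  set H' := H.map (QuotientGroup.mk' O)
  have hH'card : IsPi π (Nat.card H') := fun q hq hqd =>
    hH.1 q hq (hqd.trans (Subgroup.card_map_dvd _ _))
  have hcore : Cfsg.piCore π (G ⧸ O) = ⊥ := by
    set M := Cfsg.piCore π (G ⧸ O)
    have hle : M.comap (QuotientGroup.mk' O) ≤ O := by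
      refine le_piCore (inferInstance : (M.comap (QuotientGroup.mk' O)).Normal) ?_
      have e : Nat.card (M.comap (QuotientGroup.mk' O)) = Nat.card O * Nat.card M := by
        refine Nat.eq_of_mul_eq_mul_right (Nat.pos_of_ne_zero M.index_ne_zero_of_finite) ?_
        rw [mul_assoc, Subgroup.card_mul_index]
        conv_lhs => rw [← Subgroup.index_comap_of_surjective M (QuotientGroup.mk'_surjective O)]
        rw [Subgroup.card_mul_index, ← Subgroup.card_mul_index O]
        rfl
      rw [e]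
      exact isPi_mul hO (isPi_piCore π)
    rw [eq_bot_iff]
    intro q hq
    obtain ⟨g, rfl⟩ := QuotientGroup.mk'_surjective O q
    exact (QuotientGroup.eq_one_iff g).2 (hle hq)
  set N := Cfsg.piCore πᶜ (G ⧸ O)
  haveI : Group.IsSolvable H' := isSolvable_of_isPi hchQ H' hH'card
  have hcopN : (Nat.card H').Coprime (Nat.card N) := Nat.coprime_of_dvd fun q hq h1 h2 =>
    isPi_piCore πᶜ q hq h2 (hH'card q hq h1)
  letI : MulDistribMulAction H' N :=
    MulDistribMulAction.compHom _ ((MulAut.conjNormal (H := N)).comp H'.subtype)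
  have hsmul : ∀ (h : H') (n : N), ((h • n : N) : G ⧸ O) = h * n * (h : G ⧸ O)⁻¹ := fun h n =>
    MulAut.conjNormal_apply (h : G ⧸ O) n
  have hbot : H' ⊓ N = ⊥ := Subgroup.inf_eq_bot_of_coprime hcopN
  haveI : FaithfulSMul H' N := ⟨fun {a b} hab => by
    have h1 : (a : G ⧸ O)⁻¹ * b ∈ Subgroup.centralizer (N : Set (G ⧸ O)) :=
      Subgroup.mem_centralizer_iff.2 fun n hn => by
        have := congrArg (fun z : N => (z : G ⧸ O)) (hab ⟨n, hn⟩)
        simp only [hsmul] at this
        calc n * ((a : G ⧸ O)⁻¹ * b) = (a : G ⧸ O)⁻¹ * (a * n * (a : G ⧸ O)⁻¹) * b := by group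
          _ = (a : G ⧸ O)⁻¹ * b * n := by rw [this]; group
    have h2 : (a : G ⧸ O)⁻¹ * b ∈ H' ⊓ N :=
      ⟨H'.mul_mem (H'.inv_mem a.2) b.2, centralizer_le hchQ hcore h1⟩
    rw [hbot, Subgroup.mem_bot, inv_mul_eq_one] at h2
    exact Subtype.ext h2⟩
  obtain ⟨x, y, hxy⟩ := Auto.exists_two (A := H') (K := N) hcopN
  obtain ⟨a, ha⟩ := QuotientGroup.mk'_surjective O (x : G ⧸ O)
  obtain ⟨b, hb⟩ := QuotientGroup.mk'_surjective O (y : G ⧸ O)
  refine ⟨a, b, le_antisymm (fun g hg => ?_) ?_⟩
  · obtain ⟨hg12, hgb⟩ := Subgroup.mem_inf.1 hg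
    obtain ⟨hg1, hga⟩ := Subgroup.mem_inf.1 hg12
    rw [Subgroup.mem_pointwise_smul_iff_inv_smul_mem] at hga hgb
    set h : H' := ⟨QuotientGroup.mk' O g, Subgroup.mem_map_of_mem _ hg1⟩
    have hfix : ∀ (c : G) (z : N), QuotientGroup.mk' O c = (z : G ⧸ O) →
        (MulAut.conj c)⁻¹ • g ∈ H → h • z = z := by
      intro c z hc hcg
      refine Subtype.ext ?_
      rw [hsmul]
      have h1 : (z : G ⧸ O)⁻¹ * h * z ∈ H' := by
        refine ⟨(MulAut.conj c)⁻¹ • g, hcg, ?_⟩
        rw [MulAut.smul_def, MulAut.inv_def, MulAut.conj_symm_apply, map_mul, map_mul, map_inv, hc]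
      have h2 : (h : G ⧸ O)⁻¹ * ((z : G ⧸ O)⁻¹ * h * z) ∈ H' ⊓ N := by
        refine ⟨H'.mul_mem (H'.inv_mem h.2) h1, ?_⟩
        rw [show (h : G ⧸ O)⁻¹ * ((z : G ⧸ O)⁻¹ * h * z) =
          ((h : G ⧸ O)⁻¹ * (z : G ⧸ O)⁻¹ * h) * z by group]
        refine N.mul_mem ?_ z.2
        have h3 := (inferInstance : N.Normal).conj_mem _ (N.inv_mem z.2) (h : G ⧸ O)⁻¹
        rwa [inv_inv] at h3
      rw [hbot, Subgroup.mem_bot, inv_mul_eq_one] at h2
      calc (h : G ⧸ O) * z * (h : G ⧸ O)⁻¹ =
            (z : G ⧸ O) * ((z : G ⧸ O)⁻¹ * h * z) * (h : G ⧸ O)⁻¹ := by group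
        _ = z := by rw [← h2, mul_inv_cancel_right]
    have h1 := hxy h (hfix a x ha hga) (hfix b y hb hgb)
    exact (QuotientGroup.eq_one_iff g).1 (congrArg Subtype.val h1)
  · intro g hg
    refine Subgroup.mem_inf.2 ⟨Subgroup.mem_inf.2 ⟨hOH hg, ?_⟩, ?_⟩ <;>
      rw [Subgroup.mem_pointwise_smul_iff_inv_smul_mem, MulAut.smul_def,
        MulAut.inv_def, MulAut.conj_symm_apply]
    · exact hOH (by simpa using (inferInstance : O.Normal).conj_mem g hg a⁻¹)
    · exact hOH (by simpa using (inferInstance : O.Normal).conj_mem g hg b⁻¹)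

end PiHall

end CfsgLib.Perm.CoprimeBase
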