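import Cfsg.Agent.Lib.Perm.CoprimeBase.RigidPath

/-!
# Rigid subsets of elementary abelian two-groups of order `2 ^ n`, `5 ≤ n ≤ 8`, by a finite search
-/

namespace CfsgLib.Perm.CoprimeBase

/-- A set of points which may be left out: either it is small, or the rest generates everything
by completing cubes. -/
def Admissible {X : Type*} [AddCommGroup X] (T : Finset X) : Prop :=
  4 * T.card < Nat.card X ∨ ∀ K : Set X, (∀ x, x ∉ T → x ∈ K) →
    (∀ x p q r : X, x + p ∈ K → x + q ∈ K → x + r ∈ K → x + p + q ∈ K → x + p + r ∈ K →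
      x + q + r ∈ K → x + p + q + r ∈ K → x ∈ K) → ∀ x, x ∈ K

namespace Cert

/-- Number of members of `T` whose sum with `T[i]` lies in `T`. -/
def degree (T : List ℕ) (i : ℕ) : ℕ :=
  ((List.range T.length).filter fun j => T.contains ((T.getD i 0) ^^^ (T.getD j 0))).length

/-- The new image `c` agrees with the images `im` chosen so far. -/
def fits (T : List ℕ) (im : List ℕ) (c : ℕ) : Bool :=
  !im.contains c && degree T c == degree T im.length &&
    (List.range im.length).all fun j =>
      let x := (T.getD im.length 0) ^^^ (T.getD j 0)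
      let y := (T.getD c 0) ^^^ (T.getD (im.getD j 0) 0)
      (T.contains x == T.contains y) &&
        (List.range im.length).all fun k =>
          !(T.getD k 0 == x) || (y == T.getD (im.getD k 0) 0)

/-- Every complete assignment is the identity. -/
def search (T : List ℕ) : List ℕ → ℕ → Bool
  | im, 0 => im == List.range T.length
  | im, k + 1 => (List.range T.length).all fun c => !fits T im c || search T (im ++ [c]) k

/-- The conditions checked on a certificate. -/
def valid (n : ℕ) (T : List ℕ) : Bool :=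
  T.Nodup && (T.all fun t => decide (0 < t) && decide (t < 2 ^ n)) &&
    ((List.range n).all fun i => T.contains (2 ^ i)) && search T [] T.length

variable {n : ℕ} {X : Type*} [AddCommGroup X] [Module (ZMod 2) X]
  (b : Module.Basis (Fin n) (ZMod 2) X)

/-- The element with a given binary code. -/
noncomputable def emb (code : ℕ) : X := ∑ i : Fin n, if code.testBit i then b i else 0

theorem repr_emb (code : ℕ) (i : Fin n) :
    b.repr (emb b code) i = if code.testBit i then 1 else 0 := by
  rw [emb, map_sum, Finsupp.finsetSum_apply, Finset.sum_eq_single i]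
  · split_ifs <;> simp
  · intro j _ hji
    split_ifs <;> simp [hji.symm]
  · simp

theorem emb_xor (x y : ℕ) : emb b (x ^^^ y) = emb b x + emb b y := by
  refine b.repr.injective (Finsupp.ext fun i => ?_)
  rw [map_add, Finsupp.add_apply, repr_emb, repr_emb, repr_emb, Nat.testBit_xor]
  cases x.testBit i <;> cases y.testBit i <;> decide

theorem emb_inj {x y : ℕ} (hx : x < 2 ^ n) (hy : y < 2 ^ n) (h : emb b x = emb b y) : x = y := by
  refine Nat.eq_of_testBit_eq fun i => ?_
  by_cases hi : i < n
  · have := congrArg (fun v => b.repr v ⟨i, hi⟩) h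
    simp only [repr_emb] at this
    cases h1 : x.testBit i <;> cases h2 : y.testBit i <;> simp_all
  · rw [Nat.testBit_lt_two_pow (lt_of_lt_of_le hx (Nat.pow_le_pow_right (by norm_num) (by omega))),
      Nat.testBit_lt_two_pow (lt_of_lt_of_le hy (Nat.pow_le_pow_right (by norm_num) (by omega)))]

theorem emb_pow (i : Fin n) : emb b (2 ^ (i : ℕ)) = b i := by
  refine b.repr.injective (Finsupp.ext fun j => ?_)
  rw [repr_emb, b.repr_self, Finsupp.single_apply, Nat.testBit_two_pow]
  simp [Fin.ext_iff, decide_eq_true_eq]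

theorem emb_surj (x : X) : ∃ code, code < 2 ^ n ∧ emb b code = x := by
  classical
  haveI : Fintype X := Module.fintypeOfFintype b
  have hinj : Function.Injective fun c : Fin (2 ^ n) => emb b (c : ℕ) := fun c d h =>
    Fin.ext (emb_inj b c.2 d.2 h)
  have hbij := (Fintype.bijective_iff_injective_and_card _).2 ⟨hinj, by
    rw [Fintype.card_fin, Module.card_fintype b, ZMod.card, Fintype.card_fin]⟩
  obtain ⟨c, hc⟩ := hbij.2 x
  exact ⟨c, c.2, hc⟩

open Classical in
/-- The subset given by a certificate. -/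
noncomputable def setOf' (T : List ℕ) : Finset X := T.toFinset.image (emb b)

theorem rigid (T : List ℕ) (hv : valid n T = true) : IsRigid (setOf' b T) := by
  classical
  simp only [valid, Bool.and_eq_true, List.all_eq_true, decide_eq_true_eq,
    List.contains_iff_mem, List.mem_range] at hv
  obtain ⟨⟨⟨hnd, hlt⟩, hbas⟩, hs⟩ := hv
  set m := T.length with hm
  set p : ℕ → X := fun i => emb b (T.getD i 0) with hp
  have hTget : ∀ i, i < m → T.getD i 0 ∈ T := fun i hi => by
    rw [List.getD_eq_getElem _ _ hi]; exact List.getElem_mem _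
  have hmem : ∀ x, x ∈ setOf' b T ↔ ∃ i, i < m ∧ p i = x := by
    intro x
    simp only [setOf', Finset.mem_image, List.mem_toFinset]
    constructor
    · rintro ⟨t, ht, rfl⟩
      obtain ⟨i, hi, rfl⟩ := List.getElem_of_mem ht
      exact ⟨i, hi, by rw [hp]; show emb b (T.getD i 0) = _; rw [List.getD_eq_getElem _ _ hi]⟩
    · rintro ⟨i, hi, rfl⟩
      exact ⟨_, hTget i hi, rfl⟩
  have hlt' : ∀ x y, x < 2 ^ n → y < 2 ^ n → x ^^^ y < 2 ^ n := fun x y => Nat.xor_lt_two_pow
  have hpinj : ∀ i j, i < m → j < m → p i = p j → i = j := fun i j hi hj h => by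
    have := emb_inj b (hlt _ (hTget i hi)).2 (hlt _ (hTget j hj)).2 h
    rw [List.getD_eq_getElem _ _ hi, List.getD_eq_getElem _ _ hj] at this
    exact (hnd.getElem_inj_iff).1 this
  have hcontains : ∀ i j, i < m → j < m →
      (T.contains (T.getD i 0 ^^^ T.getD j 0) = true ↔ p i + p j ∈ setOf' b T) := by
    intro i j hi hj
    rw [List.contains_iff_mem]
    simp only [setOf', Finset.mem_image, List.mem_toFinset, hp, ← emb_xor]
    exact ⟨fun h => ⟨_, h, rfl⟩, fun ⟨t, ht, he⟩ =>
      emb_inj b (hlt _ ht).2 (hlt' _ _ (hlt _ (hTget i hi)).2 (hlt _ (hTget j hj)).2) he ▸ ht⟩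
  refine ⟨fun h0 => ?_, fun g hinj hg => ?_⟩
  · obtain ⟨t, ht, h⟩ := Finset.mem_image.1 h0
    have hz : emb b 0 = (0 : X) := by simp [emb]
    have := emb_inj b (hlt t (List.mem_toFinset.1 ht)).2 (by positivity) (h.trans hz.symm)
    exact absurd this (hlt t (List.mem_toFinset.1 ht)).1.ne'
  have hex : ∀ i, ∃ c, i < m → c < m ∧ g (p i) = p c := fun i => by
    by_cases hi : i < m
    · obtain ⟨c, hc, e⟩ := (hmem _).1 (hg _ ((hmem _).2 ⟨i, hi, rfl⟩))
      exact ⟨c, fun _ => ⟨hc, e.symm⟩⟩
    · exact ⟨0, fun h => absurd h hi⟩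
  choose σ hσ using hex
  have hσinj : ∀ i j, i < m → j < m → σ i = σ j → i = j := fun i j hi hj h =>
    hpinj i j hi hj (hinj (by rw [(hσ i hi).2, (hσ j hj).2, h]))
  have himage : (setOf' b T).image g = setOf' b T :=
    Finset.eq_of_subset_of_card_le (fun x hx => by
      obtain ⟨y, hy, rfl⟩ := Finset.mem_image.1 hx; exact hg y hy)
      (by rw [Finset.card_image_of_injective _ hinj])
  have hiff : ∀ i j, i < m → j < m →
      (p i + p j ∈ setOf' b T ↔ p (σ i) + p (σ j) ∈ setOf' b T) := by
    intro i j hi hj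
    rw [← (hσ i hi).2, ← (hσ j hj).2, ← map_add]
    refine ⟨hg _, fun h => ?_⟩
    rw [← himage] at h
    obtain ⟨y, hy, e⟩ := Finset.mem_image.1 h
    rwa [← hinj e]
  have hdeg : ∀ i, i < m → degree T (σ i) = degree T i := by
    intro i hi
    have key : ∀ k, k < m → degree T k =
        ((Finset.range m).filter fun j => p k + p j ∈ setOf' b T).card := by
      intro k hk
      rw [degree, ← List.toFinset_card_of_nodup (List.nodup_range.filter _)]
      congr 1
      ext j
      simp only [List.mem_toFinset, List.mem_filter, List.mem_range, Finset.mem_filter,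
        Finset.mem_range]
      exact ⟨fun h => ⟨h.1, (hcontains k j hk h.1).1 h.2⟩, fun h => ⟨h.1, (hcontains k j hk h.1).2 h.2⟩⟩
    rw [key _ (hσ i hi).1, key i hi]
    refine (Finset.card_bij (fun j _ => σ j) (fun j hj => ?_) (fun j hj k hk h => ?_)
      (fun c hc => ?_)).symm
    · rw [Finset.mem_filter, Finset.mem_range] at hj ⊢
      exact ⟨(hσ j hj.1).1, (hiff i j hi hj.1).1 hj.2⟩
    · exact hσinj j k (Finset.mem_range.1 (Finset.mem_filter.1 hj).1)
        (Finset.mem_range.1 (Finset.mem_filter.1 hk).1) h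
    · rw [Finset.mem_filter, Finset.mem_range] at hc
      have : p c ∈ (setOf' b T).image g := by rw [himage]; exact (hmem _).2 ⟨c, hc.1, rfl⟩
      obtain ⟨y, hy, e⟩ := Finset.mem_image.1 this
      obtain ⟨j, hj, rfl⟩ := (hmem y).1 hy
      have hjc : σ j = c := hpinj _ _ (hσ j hj).1 hc.1 ((hσ j hj).2.symm.trans e)
      refine ⟨j, Finset.mem_filter.2 ⟨Finset.mem_range.2 hj, (hiff i j hi hj).2 ?_⟩, hjc⟩
      rw [hjc]; exact hc.2
  have hfits : ∀ l, l < m → fits T ((List.range l).map σ) (σ l) = true := by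
    intro l hl
    have hlen : ((List.range l).map σ).length = l := by simp
    have hget : ∀ j, j < l → ((List.range l).map σ).getD j 0 = σ j := fun j hj => by
      rw [List.getD_eq_getElem _ _ (by rw [hlen]; exact hj)]; simp
    simp only [fits, hlen, Bool.and_eq_true, List.all_eq_true, List.mem_range, Bool.not_eq_true',
      beq_iff_eq, Bool.or_eq_true]
    refine ⟨⟨?_, hdeg l hl⟩, fun j hj => ?_⟩
    · rw [← Bool.not_eq_true, List.contains_iff_mem, List.mem_map]
      rintro ⟨j, hj, e⟩
      rw [List.mem_range] at hj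
      exact absurd (hσinj j l (by omega) hl e) (by omega)
    · rw [hget j hj]
      refine ⟨Bool.eq_iff_iff.2 ?_, fun k hk => ?_⟩
      · rw [hcontains l j hl (by omega), hcontains _ _ (hσ l hl).1 (hσ j (by omega)).1]
        exact hiff l j hl (by omega)
      · rw [hget k hk]
        by_cases he : T.getD k 0 = T.getD l 0 ^^^ T.getD j 0
        · refine Or.inr ?_
          have e1 : p l + p j = p k := by simp only [hp]; rw [← emb_xor, ← he]
          have e2 : p (σ l) + p (σ j) = p (σ k) := by
            rw [← (hσ l hl).2, ← (hσ j (by omega)).2, ← (hσ k (by omega)).2, ← map_add, e1]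
          refine emb_inj b (hlt' _ _ (hlt _ (hTget _ (hσ l hl).1)).2 (hlt _ (hTget _ (hσ j (by omega)).1)).2)
            (hlt _ (hTget _ (hσ k (by omega)).1)).2 ?_
          rw [emb_xor]; exact e2
        · exact Or.inl (by simpa using he)
  have hsearch : ∀ k l, l + k = m → search T ((List.range l).map σ) k = true →
      (List.range m).map σ = List.range m := by
    intro k
    induction k with
    | zero =>
      intro l hl h
      simp only [search, beq_iff_eq] at h
      rwa [show l = m by omega] at h
    | succ k ih =>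
      intro l hl h
      simp only [search, List.all_eq_true, List.mem_range, Bool.or_eq_true] at h
      refine ih (l + 1) (by omega) ?_
      rcases h (σ l) (hσ l (by omega)).1 with h1 | h1
      · rw [hfits l (by omega)] at h1; simp at h1
      · rwa [List.range_succ, List.map_append]
  have hid := hsearch m 0 (by omega) hs
  have hfix : ∀ i, i < m → σ i = i := fun i hi => by
    have := congrArg (fun L => L.getD i 0) hid
    simpa [List.getD_eq_getElem?_getD, hi] using this
  have hb : ∀ i, g (b i) = b i := fun i => by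
    obtain ⟨k, hk, e⟩ := (hmem (b i)).1 (Finset.mem_image.2
      ⟨_, List.mem_toFinset.2 (hbas i i.2), emb_pow b i⟩)
    rw [← e, (hσ k hk).2, hfix k hk]
  have : g.toZModLinearMap 2 = LinearMap.id := b.ext hb
  exact fun x => DFunLike.congr_fun this x

theorem card_le (T : List ℕ) : (setOf' b T).card ≤ T.length := by
  classical
  exact Finset.card_image_le.trans (List.toFinset_card_le T)

/-- Completing cubes along the given steps reaches every code. -/
def spreads (N : ℕ) : List ℕ → List (ℕ × ℕ × ℕ × ℕ) → Bool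
  | K, [] => (List.range N).all fun x => K.contains x
  | K, (x, p, q, r) :: rest =>
    (K.contains (x ^^^ p) && K.contains (x ^^^ q) && K.contains (x ^^^ r) &&
      K.contains (x ^^^ p ^^^ q) && K.contains (x ^^^ p ^^^ r) && K.contains (x ^^^ q ^^^ r) &&
      K.contains (x ^^^ p ^^^ q ^^^ r)) && spreads N (x :: K) rest

theorem spreads_sound (K0 : Set X)
    (hcl : ∀ x p q r : X, x + p ∈ K0 → x + q ∈ K0 → x + r ∈ K0 → x + p + q ∈ K0 →
      x + p + r ∈ K0 → x + q + r ∈ K0 → x + p + q + r ∈ K0 → x ∈ K0) :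
    ∀ steps (K : List ℕ), (∀ c ∈ K, emb b c ∈ K0) → spreads (2 ^ n) K steps = true →
      ∀ x, x ∈ K0 := by
  intro steps
  induction steps with
  | nil =>
    intro K hK h x
    obtain ⟨c, hc, rfl⟩ := emb_surj b x
    simp only [spreads, List.all_eq_true, List.mem_range, List.contains_iff_mem] at h
    exact hK c (h c hc)
  | cons s rest ih =>
    obtain ⟨x, p, q, r⟩ := s
    intro K hK h
    simp only [spreads, Bool.and_eq_true, List.contains_iff_mem] at h
    obtain ⟨⟨⟨⟨⟨⟨⟨h1, h2⟩, h3⟩, h4⟩, h5⟩, h6⟩, h7⟩, h8⟩ := h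
    refine ih (x :: K) (fun c hc => ?_) h8
    rcases List.mem_cons.1 hc with rfl | hc
    · refine hcl _ (emb b p) (emb b q) (emb b r) ?_ ?_ ?_ ?_ ?_ ?_ ?_ <;>
        simp only [← emb_xor]
      exacts [hK _ h1, hK _ h2, hK _ h3, hK _ h4, hK _ h5, hK _ h6, hK _ h7]
    · exact hK c hc

def cert5 : List ℕ := [9, 11, 31, 1, 5, 12, 28, 2, 4, 8, 16, 30, 25]
def steps5 : List (ℕ × ℕ × ℕ × ℕ) := [(1, 1, 6, 18), (2, 1, 2, 20), (4, 2, 4, 17), (5, 1, 2, 4),
  (8, 2, 5, 8), (9, 1, 6, 8), (11, 1, 2, 8), (12, 1, 2, 4), (16, 1, 2, 4), (25, 1, 2, 8),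
  (28, 1, 4, 8), (30, 2, 4, 8), (31, 1, 2, 4)]
def cert6 : List ℕ := [32, 16, 1, 4, 2, 8, 40, 39, 15, 34, 3, 36, 47, 10]
def cert7 : List ℕ := [91, 4, 17, 72, 1, 8, 43, 123, 2, 16, 32, 64, 75, 19, 89, 11]
def cert8 : List ℕ := [16, 4, 8, 64, 128, 80, 18, 48, 19, 1, 2, 32, 72, 56, 208, 147]

theorem valid5 : valid 5 cert5 = true := by decide +kernel
theorem valid6 : valid 6 cert6 = true := by decide +kernel
theorem valid7 : valid 7 cert7 = true := by decide +kernel
theorem valid8 : valid 8 cert8 = true := by decide +kernel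
theorem spreads5 : spreads (2 ^ 5) ((List.range 32).filter fun x => !cert5.contains x) steps5 = true := by
  decide +kernel

theorem exists_of_le (b : Module.Basis (Fin n) (ZMod 2) X) (h5 : 5 ≤ n) (h8 : n ≤ 8) :
    ∃ T : Finset X, IsRigid T ∧ Admissible T ∧
      (4 * T.card < Nat.card X ∨ Nat.card X = 32 ∧ T.card ≤ 13) := by
  classical
  haveI : Fintype X := Module.fintypeOfFintype b
  have hX : Nat.card X = 2 ^ n := by
    rw [Nat.card_eq_fintype_card, Module.card_fintype b, ZMod.card, Fintype.card_fin]
  have small : ∀ T, valid n T = true → 4 * T.length < 2 ^ n →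
      ∃ T : Finset X, IsRigid T ∧ Admissible T ∧
        (4 * T.card < Nat.card X ∨ Nat.card X = 32 ∧ T.card ≤ 13) := fun T hT hlt => by
    have := card_le b T
    exact ⟨_, rigid b T hT, Or.inl (by omega), Or.inl (by omega)⟩
  have : n = 5 ∨ n = 6 ∨ n = 7 ∨ n = 8 := by omega
  rcases this with rfl | rfl | rfl | rfl
  · refine ⟨_, rigid b cert5 valid5, Or.inr fun K hK hcl =>
      spreads_sound b K hcl _ _ (fun c hc => hK _ fun hT => ?_) spreads5,
      Or.inr ⟨by rw [hX]; norm_num, card_le b cert5⟩⟩
    simp only [List.mem_filter, List.mem_range, Bool.not_eq_true', ← Bool.not_eq_true,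
      List.contains_iff_mem] at hc
    obtain ⟨t, ht, e⟩ := Finset.mem_image.1 hT
    rw [List.mem_toFinset] at ht
    have ht' : t < 2 ^ 5 := by
      have h := valid5
      simp only [valid, Bool.and_eq_true, List.all_eq_true, decide_eq_true_eq] at h
      exact (h.1.1.2 t ht).2
    exact hc.2 (emb_inj b ht' hc.1 e ▸ ht)
  · exact small cert6 valid6 (by decide)
  · exact small cert7 valid7 (by decide)
  · exact small cert8 valid8 (by decide)

end Cert

end CfsgLib.Perm.CoprimeBase
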