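import Cfsg.Agent.Lib.Perm.CoprimeBase.RigidCert

/-!
# Rigid subsets of elementary abelian two-groups of order `2 ^ n`, `9 ≤ n`

The basis together with the edges of an `n`-cycle with the two chords `{0, 3}` and `{0, 5}`: this
graph is asymmetric, free of triangles and without leaves.
-/

namespace CfsgLib.Perm.CoprimeBase

namespace Graph

/-- Adjacency. -/
def Adj (n i j : ℕ) : Prop :=
  j = i + 1 ∨ i = j + 1 ∨ (i = 0 ∧ (j = n - 1 ∨ j = 3 ∨ j = 5)) ∨
    (j = 0 ∧ (i = n - 1 ∨ i = 3 ∨ i = 5))

theorem symm {n i j : ℕ} (h : Adj n i j) : Adj n j i := by unfold Adj at *; omega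

theorem ne {n i j : ℕ} (hn : 9 ≤ n) (h : Adj n i j) : i ≠ j := by unfold Adj at *; omega

theorem no_triangle {n i j l : ℕ} (hn : 9 ≤ n) (hi : i < n) (hj : j < n) (hl : l < n)
    (h1 : Adj n i j) (h2 : Adj n i l) (h3 : Adj n j l) : False := by
  unfold Adj at *; omega

theorem two_nbrs {n i : ℕ} (hn : 9 ≤ n) (hi : i < n) :
    ∃ j k, j < n ∧ k < n ∧ j ≠ k ∧ Adj n i j ∧ Adj n i k := by
  by_cases h0 : i = 0
  · exact ⟨1, 3, by omega, by omega, by omega, by unfold Adj; omega, by unfold Adj; omega⟩
  by_cases h1 : i = n - 1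
  · exact ⟨i - 1, 0, by omega, by omega, by omega, by unfold Adj; omega, by unfold Adj; omega⟩
  · exact ⟨i - 1, i + 1, by omega, by omega, by omega, by unfold Adj; omega, by unfold Adj; omega⟩

/-- The graph has no symmetry. -/
theorem rigid {n : ℕ} (hn : 9 ≤ n) (σ : Fin n → Fin n) (hinj : Function.Injective σ)
    (hσ : ∀ i j : Fin n, Adj n i j → Adj n (σ i) (σ j)) : ∀ i, σ i = i := by
  let s : ℕ → ℕ := fun k => if h : k < n then σ ⟨k, h⟩ else k
  have hs : ∀ k, (h : k < n) → s k = σ ⟨k, h⟩ := fun k h => dif_pos h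
  have hlt : ∀ k, k < n → s k < n := fun k h => by rw [hs k h]; exact (σ ⟨k, h⟩).2
  have hne : ∀ j k, j < n → k < n → j ≠ k → s j ≠ s k := fun j k hj hk h e => by
    rw [hs j hj, hs k hk] at e
    exact h (congrArg Fin.val (hinj (Fin.ext e)))
  have hadj : ∀ j k, j < n → k < n → Adj n j k → Adj n (s j) (s k) := fun j k hj hk h => by
    rw [hs j hj, hs k hk]; exact hσ ⟨j, hj⟩ ⟨k, hk⟩ h
  have A : ∀ j k, j < n → k < n → (k = j + 1 ∨ (j = 0 ∧ (k = n - 1 ∨ k = 3 ∨ k = 5))) →
      Adj n (s j) (s k) ∧ s j < n ∧ s k < n := fun j k hj hk h =>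
    ⟨hadj j k hj hk (by unfold Adj; omega), hlt j hj, hlt k hk⟩
  have B : ∀ j k, j < n → k < n → j ≠ k → s j ≠ s k := hne
  have h0 : s 0 = 0 := by
    have a := A 0 1 (by omega) (by omega) (by omega)
    have b := A 0 3 (by omega) (by omega) (by omega)
    have c := A 0 5 (by omega) (by omega) (by omega)
    have d := A 0 (n - 1) (by omega) (by omega) (by omega)
    have := B 1 3 (by omega) (by omega) (by omega)
    have := B 1 5 (by omega) (by omega) (by omega)
    have := B 1 (n - 1) (by omega) (by omega) (by omega)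
    have := B 3 5 (by omega) (by omega) (by omega)
    have := B 3 (n - 1) (by omega) (by omega) (by omega)
    have := B 5 (n - 1) (by omega) (by omega) (by omega)
    unfold Adj at a b c d
    omega
  have h35 : (s 3 = 3 ∨ s 3 = 5) ∧ (s 5 = 3 ∨ s 5 = 5) ∧ s 4 = 4 := by
    have a := A 0 3 (by omega) (by omega) (by omega)
    have b := A 2 3 (by omega) (by omega) (by omega)
    have c := A 3 4 (by omega) (by omega) (by omega)
    have a' := A 0 5 (by omega) (by omega) (by omega)
    have b' := A 4 5 (by omega) (by omega) (by omega)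
    have c' := A 5 6 (by omega) (by omega) (by omega)
    have := B 0 2 (by omega) (by omega) (by omega)
    have := B 0 4 (by omega) (by omega) (by omega)
    have := B 0 6 (by omega) (by omega) (by omega)
    have := B 2 4 (by omega) (by omega) (by omega)
    have := B 4 6 (by omega) (by omega) (by omega)
    have := B 3 5 (by omega) (by omega) (by omega)
    unfold Adj at a b c a' b' c'
    omega
  obtain ⟨h3, h5, h4⟩ := h35
  have h12 : s 1 = 1 ∧ s 2 = 2 ∧ s 3 = 3 ∧ s 5 = 5 := by
    have a := A 0 1 (by omega) (by omega) (by omega)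
    have b := A 1 2 (by omega) (by omega) (by omega)
    have c := A 2 3 (by omega) (by omega) (by omega)
    have := B 1 3 (by omega) (by omega) (by omega)
    have := B 1 5 (by omega) (by omega) (by omega)
    have := B 1 4 (by omega) (by omega) (by omega)
    have := B 0 2 (by omega) (by omega) (by omega)
    have := B 1 2 (by omega) (by omega) (by omega)
    have := B 3 5 (by omega) (by omega) (by omega)
    unfold Adj at a b c
    omega
  have hall : ∀ k, k < n → s k = k := by
    intro k
    induction k using Nat.strong_induction_on with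
    | _ k ih =>
      intro hk
      rcases Nat.lt_or_ge k 6 with h | h
      · interval_cases k <;> omega
      · have a := A (k - 1) k (by omega) hk (by omega)
        have e1 := ih (k - 1) (by omega) (by omega)
        have e2 := ih (k - 2) (by omega) (by omega)
        have := B (k - 2) k (by omega) hk (by omega)
        have := B 0 k (by omega) hk (by omega)
        unfold Adj at a
        omega
  intro i
  have := hall i i.2
  rw [hs i i.2] at this
  exact Fin.ext this

variable {n : ℕ} {X : Type*} [AddCommGroup X] [Module (ZMod 2) X]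
  (b : Module.Basis (Fin n) (ZMod 2) X)

/-- Membership in the configuration. -/
def Mem (x : X) : Prop := (∃ i, x = b i) ∨ ∃ i j : Fin n, Adj n i j ∧ x = b i + b j

theorem self_add (x : X) : x + x = 0 := by
  have : ((1 : ZMod 2) + 1) • x = 0 := by rw [show (1 : ZMod 2) + 1 = 0 from rfl, zero_smul]
  rwa [add_smul, one_smul] at this

theorem ne_edge {i j k : Fin n} (hij : i ≠ j) : b k ≠ b i + b j := fun h => by
  have := congrArg (Path.weight b) h
  rw [map_add, Path.weight_b, Path.weight_b, Path.weight_b] at this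
  exact absurd this (by decide)

/-- An edge forms sums only with its two ends. -/
theorem edge_partner (hn : 9 ≤ n) {i j : Fin n} (hij : Adj n i j) {y : X} (hy : Mem b y)
    (h : Mem b (b i + b j + y)) : y = b i ∨ y = b j := by
  have hne : i ≠ j := fun e => Graph.ne hn hij (congrArg Fin.val e)
  rcases hy with ⟨k, rfl⟩ | ⟨k, l, hkl, rfl⟩
  · by_contra hk
    simp only [not_or] at hk
    have hki : k ≠ i := fun e => hk.1 (by rw [e])
    have hkj : k ≠ j := fun e => hk.2 (by rw [e])
    rcases h with ⟨p, hp⟩ | ⟨p, q, -, hp⟩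
    · have h1 := congrArg (fun v => b.repr v i) hp
      have h2 := congrArg (fun v => b.repr v j) hp
      simp only [map_add, Finsupp.add_apply, Path.coord, if_true, if_neg hne, if_neg (Ne.symm hne),
        if_neg hki, if_neg hkj, add_zero, zero_add] at h1 h2
      split_ifs at h1 h2 with a c <;>
        first | exact hne (a.symm.trans c) | exact one_ne_zero h1 | exact one_ne_zero h2
    · have := congrArg (Path.weight b) hp
      simp only [map_add, Path.weight_b] at this
      exact absurd this (by decide)
  · exfalso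
    have hne' : k ≠ l := fun e => Graph.ne hn hkl (congrArg Fin.val e)
    rcases h with ⟨p, hp⟩ | ⟨p, q, hpq, hp⟩
    · have := congrArg (Path.weight b) hp
      simp only [map_add, Path.weight_b] at this
      exact absurd this (by decide)
    have hpq' : p ≠ q := fun e => Graph.ne hn hpq (congrArg Fin.val e)
    have share : ∀ i j l : Fin n, Adj n i j → Adj n i l →
        b i + b j + (b i + b l) = b p + b q → False := by
      intro i j l h1 h2 he
      have e : b i + b j + (b i + b l) = b j + b l := by
        rw [show b i + b j + (b i + b l) = (b i + b i) + (b j + b l) by abel, self_add, zero_add]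
      rw [e] at he
      by_cases hjl : j = l
      · rw [hjl, self_add] at he
        have h3 := congrArg (fun v => b.repr v p) he
        simp [hpq'.symm] at h3
      rcases Path.edge_eq b hjl hpq' he with ⟨a, c⟩ | ⟨a, c⟩
      · subst a c; exact no_triangle hn i.2 j.2 l.2 h1 h2 hpq
      · subst a c; exact no_triangle hn i.2 j.2 l.2 h1 h2 (symm hpq)
    by_cases c1 : k = i
    · subst c1; exact share k j l hij hkl hp
    by_cases c2 : l = i
    · subst c2; exact share l j k hij (symm hkl) (by rwa [add_comm (b k)] at hp)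
    by_cases c3 : k = j
    · subst c3; exact share k i l (symm hij) hkl (by rwa [add_comm (b i)] at hp)
    by_cases c4 : l = j
    · subst c4
      exact share l i k (symm hij) (symm hkl) (by rwa [add_comm (b i), add_comm (b k)] at hp)
    have h1 := congrArg (fun v => b.repr v i) hp
    have h2 := congrArg (fun v => b.repr v j) hp
    have h3 := congrArg (fun v => b.repr v k) hp
    simp only [map_add, Finsupp.add_apply, Path.coord, if_true, if_neg hne, if_neg (Ne.symm hne),
      if_neg hne', if_neg (Ne.symm hne'), if_neg c1, if_neg c2, if_neg c3, if_neg c4,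
      if_neg (Ne.symm c1), if_neg (Ne.symm c3), add_zero, zero_add] at h1 h2 h3
    have z : ∀ x : Fin n, (1 : ZMod 2) = (if p = x then 1 else 0) + (if q = x then 1 else 0) →
        p = x ∨ q = x := fun x hx => by
      by_contra hcon
      simp only [not_or] at hcon
      rw [if_neg hcon.1, if_neg hcon.2, add_zero] at hx
      exact one_ne_zero hx
    rcases z i h1 with a | a <;> rcases z j h2 with c | c <;> rcases z k h3 with d | d <;>
      first | exact hne (a.symm.trans c) | exact c1 (d.symm.trans a) | exact c3 (d.symm.trans c)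

theorem fix (hn : 9 ≤ n) (g : X →+ X) (hinj : Function.Injective g)
    (hg : ∀ x, Mem b x → Mem b (g x)) : ∀ x, g x = x := by
  have hv : ∀ i, ∃ j, g (b i) = b j := by
    intro i
    rcases hg _ (Or.inl ⟨i, rfl⟩) with h | ⟨p, q, hpq, hp⟩
    · exact h
    exfalso
    obtain ⟨j, k, hj, hk, hjk, h1, h2⟩ := two_nbrs hn i.2
    have hne : (i : ℕ) ≠ j := Graph.ne hn h1
    have hne2 : (i : ℕ) ≠ k := Graph.ne hn h2
    set J : Fin n := ⟨j, hj⟩
    set K : Fin n := ⟨k, hk⟩
    have hiJ : i ≠ J := fun e => hne (congrArg Fin.val e)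
    have hiK : i ≠ K := fun e => hne2 (congrArg Fin.val e)
    have key : ∀ y, Mem b y → Mem b (b i + y) → g y = b p ∨ g y = b q := fun y hy hs =>
      edge_partner b hn hpq (hg _ hy) (by have := hg _ hs; rwa [map_add, hp] at this)
    have e1 : b i + (b i + b J) = b J := by rw [← add_assoc, self_add, zero_add]
    have a1 := key (b J) (Or.inl ⟨J, rfl⟩) (Or.inr ⟨i, J, h1, rfl⟩)
    have a2 := key (b i + b J) (Or.inr ⟨i, J, h1, rfl⟩) (Or.inl ⟨J, e1⟩)
    have a3 := key (b K) (Or.inl ⟨K, rfl⟩) (Or.inr ⟨i, K, h2, rfl⟩)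
    have d1 : g (b J) ≠ g (b i + b J) := fun e => ne_edge b hiJ (hinj e)
    have d2 : g (b J) ≠ g (b K) := fun e => hjk (congrArg Fin.val (b.injective (hinj e)))
    have d3 : g (b i + b J) ≠ g (b K) := fun e => ne_edge b hiJ (hinj e).symm
    rcases a1 with a1 | a1 <;> rcases a2 with a2 | a2 <;> rcases a3 with a3 | a3 <;>
      first | exact d1 (a1.trans a2.symm) | exact d2 (a1.trans a3.symm) | exact d3 (a2.trans a3.symm)
  choose σ hσ using hv
  have hσinj : Function.Injective σ := fun i j h => b.injective (hinj (by rw [hσ, hσ, h]))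
  have hfix := rigid hn σ hσinj fun i j hij => by
    have hne : σ i ≠ σ j := fun e => Graph.ne hn hij (congrArg Fin.val (hσinj e))
    rcases hg _ (Or.inr ⟨i, j, hij, rfl⟩) with ⟨k, h⟩ | ⟨k, l, hkl, h⟩ <;>
      rw [map_add, hσ, hσ] at h
    · exact (ne_edge b hne h.symm).elim
    · rcases Path.edge_eq b hne (fun e => Graph.ne hn hkl (congrArg Fin.val e)) h with
        ⟨a, c⟩ | ⟨a, c⟩
      · rw [a, c]; exact hkl
      · rw [a, c]; exact symm hkl
  have : g.toZModLinearMap 2 = LinearMap.id := b.ext fun i => by
    show g (b i) = b i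
    rw [hσ, hfix]
  exact fun x => DFunLike.congr_fun this x

include b in
theorem exists_rigid (hn : 9 ≤ n) : ∃ T : Finset X, IsRigid T ∧ 4 * T.card < Nat.card X := by
  classical
  haveI : Fintype X := Module.fintypeOfFintype b
  let z : Fin n := ⟨0, by omega⟩
  refine ⟨Finset.univ.filter (Mem b), ⟨?_, fun g hinj hg => fix b hn g hinj fun x hx =>
    (Finset.mem_filter.1 (hg x (Finset.mem_filter.2 ⟨Finset.mem_univ _, hx⟩))).2⟩, ?_⟩
  · intro h
    rcases (Finset.mem_filter.1 h).2 with ⟨i, hi⟩ | ⟨i, j, hij, hi⟩
    · exact b.ne_zero i hi.symm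
    · have := congrArg (fun v => b.repr v i) hi
      have hji : j ≠ i := fun e => Graph.ne hn hij (congrArg Fin.val e).symm
      simp [hji] at this
  · let E : Finset (Fin n × Fin n) := (Finset.univ.image fun i : Fin n =>
      (i, (⟨if (i : ℕ) + 1 < n then (i : ℕ) + 1 else 0, by split_ifs <;> omega⟩ : Fin n))) ∪
      {(z, ⟨3, by omega⟩), (z, ⟨5, by omega⟩)}
    have hsub : Finset.univ.filter (Mem b) ⊆
        Finset.univ.image b ∪ E.image fun p => b p.1 + b p.2 := by
      intro x hx
      simp only [Finset.mem_union, Finset.mem_image]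
      rcases (Finset.mem_filter.1 hx).2 with ⟨i, rfl⟩ | ⟨i, j, hij, rfl⟩
      · exact Or.inl ⟨i, Finset.mem_univ _, rfl⟩
      right
      have : (i, j) ∈ E ∨ (j, i) ∈ E := by
        simp only [E, z, Finset.mem_union, Finset.mem_image, Finset.mem_univ, true_and,
          Finset.mem_insert, Finset.mem_singleton, Prod.ext_iff, Fin.ext_iff]
        have hi := i.2
        have hj := j.2
        unfold Adj at hij
        rcases hij with h | h | ⟨h0, h | h | h⟩ | ⟨h0, h | h | h⟩
        · exact Or.inl (Or.inl ⟨i, rfl, by split_ifs <;> omega⟩)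
        · exact Or.inr (Or.inl ⟨j, rfl, by split_ifs <;> omega⟩)
        · exact Or.inr (Or.inl ⟨j, rfl, by split_ifs <;> omega⟩)
        · exact Or.inl (Or.inr (Or.inl ⟨h0, h⟩))
        · exact Or.inl (Or.inr (Or.inr ⟨h0, h⟩))
        · exact Or.inl (Or.inl ⟨i, rfl, by split_ifs <;> omega⟩)
        · exact Or.inr (Or.inr (Or.inl ⟨h0, h⟩))
        · exact Or.inr (Or.inr (Or.inr ⟨h0, h⟩))
      rcases this with h | h
      · exact ⟨(i, j), h, rfl⟩
      · exact ⟨(j, i), h, add_comm _ _⟩
    have hE : E.card ≤ n + 2 := (Finset.card_union_le _ _).trans (Nat.add_le_add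
      (Finset.card_image_le.trans (le_of_eq (Finset.card_fin n))) Finset.card_le_two)
    have hc := (Finset.card_le_card hsub).trans ((Finset.card_union_le _ _).trans
      (Nat.add_le_add (Finset.card_image_le.trans (le_of_eq (Finset.card_fin n)))
        (Finset.card_image_le.trans hE)))
    have hX : Nat.card X = 2 ^ n := by
      rw [Nat.card_eq_fintype_card, Module.card_fintype b, ZMod.card, Fintype.card_fin]
    have h2 : ∀ k, 9 ≤ k → 8 * k + 8 < 2 ^ k := by
      intro k hk
      induction k, hk using Nat.le_induction with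
      | base => norm_num
      | succ k hk ih => rw [pow_succ]; omega
    have := h2 n hn
    omega

end Graph

end CfsgLib.Perm.CoprimeBase
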