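import Mathlib

/-!
# Small rigid subsets of elementary abelian groups: odd primes

A subset `T` of a finite abelian group is rigid when no nontrivial automorphism maps it to itself.
For exponent an odd prime `r` the basis `b i`, the sums of neighbours and the multiple `2 • b 0` do.
-/

namespace CfsgLib.Perm.CoprimeBase

/-- Only the identity maps `T` into itself. -/
def IsRigid {X : Type*} [AddCommGroup X] (T : Finset X) : Prop :=
  (0 : X) ∉ T ∧ ∀ g : X →+ X, Function.Injective g → (∀ x ∈ T, g x ∈ T) → ∀ x, g x = x

namespace Path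

variable {r n : ℕ} [Fact r.Prime] {X : Type*} [AddCommGroup X] [Module (ZMod r) X]
  (b : Module.Basis (Fin n) (ZMod r) X)

/-- Membership in the basic configuration. -/
def Mem (x : X) : Prop :=
  (∃ i, x = b i) ∨ (∃ i j : Fin n, (j : ℕ) = i + 1 ∧ x = b i + b j) ∨
    (∃ i : Fin n, (i : ℕ) = 0 ∧ x = (2 : ZMod r) • b i)

/-- The sum of the coordinates. -/
noncomputable def weight : X →ₗ[ZMod r] ZMod r := b.constr (ZMod r) fun _ => 1

theorem weight_b (i : Fin n) : weight b (b i) = 1 := b.constr_basis _ _ i

theorem mem_weight {x : X} (h : Mem b x) : weight b x = 1 ∨ weight b x = 2 := by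
  rcases h with ⟨i, rfl⟩ | ⟨i, j, -, rfl⟩ | ⟨i, -, rfl⟩
  · exact Or.inl (weight_b b i)
  · exact Or.inr (by rw [map_add, weight_b, weight_b]; exact one_add_one_eq_two)
  · exact Or.inr (by rw [map_smul, weight_b, smul_eq_mul, mul_one])

theorem cast_ne (hr : 3 ≤ r) {k : ℕ} (h0 : 0 < k) (h1 : k < r) : (k : ZMod r) ≠ 0 := by
  intro h
  rw [ZMod.natCast_eq_zero_iff] at h
  exact absurd (Nat.le_of_dvd h0 h) (by omega)

theorem two_ne (hr : 3 ≤ r) : (2 : ZMod r) ≠ 0 := by
  simpa using cast_ne (r := r) hr (k := 2) (by norm_num) (by omega)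

theorem two_ne_one (hr : 3 ≤ r) : (2 : ZMod r) ≠ 1 := by
  intro h
  exact one_ne_zero (α := ZMod r) (by linear_combination h)

theorem mem_one (hr : 3 ≤ r) {x : X} (h : Mem b x) (hw : weight b x = 1) : ∃ i, x = b i := by
  rcases h with h | ⟨i, j, -, rfl⟩ | ⟨i, -, rfl⟩
  · exact h
  · rw [map_add, weight_b, weight_b] at hw
    exact absurd (by linear_combination hw) (one_ne_zero (α := ZMod r))
  · rw [map_smul, weight_b, smul_eq_mul, mul_one] at hw
    exact absurd hw (two_ne_one hr)

theorem mem_two (hr : 3 ≤ r) {x : X} (h : Mem b x) (hw : weight b x = 2) :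
    (∃ i j : Fin n, (j : ℕ) = i + 1 ∧ x = b i + b j) ∨
      ∃ i : Fin n, (i : ℕ) = 0 ∧ x = (2 : ZMod r) • b i := by
  rcases h with ⟨i, rfl⟩ | h
  · rw [weight_b] at hw
    exact absurd hw.symm (two_ne_one hr)
  · exact h

/-- Coordinates of a basis vector. -/
theorem coord (i k : Fin n) : b.repr (b i) k = if i = k then 1 else 0 := by
  rw [b.repr_self, Finsupp.single_apply]

theorem two_smul_eq (hr : 3 ≤ r) {i k : Fin n} {x : X}
    (hx : x = b i ∨ ∃ j, j ≠ i ∧ x = b i + b j) (h : x = (2 : ZMod r) • b k) : False := by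
  have h2 : (2 : ZMod r) ≠ 0 := two_ne hr
  rcases hx with rfl | ⟨j, hji, rfl⟩
  · have := congrArg (fun v => b.repr v i) h
    simp only [map_smul, Finsupp.smul_apply, coord, if_pos] at this
    split_ifs at this with hk
    · exact two_ne_one hr (by simpa using this.symm)
    · simp at this
  · have e1 := congrArg (fun v => b.repr v i) h
    have e2 := congrArg (fun v => b.repr v j) h
    simp only [map_add, map_smul, Finsupp.add_apply, Finsupp.smul_apply, coord, if_pos,
      if_neg hji, if_neg (Ne.symm hji), add_zero, zero_add] at e1 e2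
    by_cases hk : k = i
    · subst hk
      rw [if_neg (Ne.symm hji)] at e2
      simp at e2
    · rw [if_neg hk] at e1
      simp at e1

theorem edge_eq {i k l m : Fin n} (hik : i ≠ k) (hlm : l ≠ m) (h : b i + b k = b l + b m) :
    (i = l ∧ k = m) ∨ (i = m ∧ k = l) := by
  have hi := congrArg (fun v => b.repr v i) h
  have hk := congrArg (fun v => b.repr v k) h
  simp only [map_add, Finsupp.add_apply, coord, if_true, if_neg (Ne.symm hik), if_neg hik,
    add_zero, zero_add] at hi hk
  by_cases h1 : l = i
  · subst h1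
    refine Or.inl ⟨rfl, ?_⟩
    rw [if_neg hik, zero_add] at hk
    by_contra hne
    rw [if_neg (Ne.symm hne)] at hk
    exact one_ne_zero hk
  · rw [if_neg h1, zero_add] at hi
    have h2 : m = i := by
      by_contra hne
      rw [if_neg hne] at hi
      exact one_ne_zero hi
    subst h2
    refine Or.inr ⟨rfl, ?_⟩
    rw [if_neg hik, add_zero] at hk
    by_contra hne
    rw [if_neg (Ne.symm hne)] at hk
    exact one_ne_zero hk

/-- The basis elements pairing with a given one are its neighbours. -/
theorem partner (hr : 3 ≤ r) {i : Fin n} {y : X} (hy : Mem b y) (hne : y ≠ b i)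
    (h : Mem b (b i + y)) : ∃ j : Fin n, y = b j ∧ ((j : ℕ) = i + 1 ∨ (i : ℕ) = j + 1) := by
  have hwy : weight b y = 1 := by
    rcases mem_weight b hy with h1 | h1
    · exact h1
    rcases mem_weight b h with h2 | h2 <;> rw [map_add, weight_b, h1] at h2
    · exact absurd (by linear_combination h2) (two_ne (r := r) hr)
    · exact absurd (by linear_combination h2) (one_ne_zero (α := ZMod r))
  obtain ⟨j, rfl⟩ := mem_one b hr hy hwy
  have hji : j ≠ i := fun e => hne (by rw [e])
  refine ⟨j, rfl, ?_⟩
  rcases mem_two b hr h (by rw [map_add, weight_b, weight_b]; exact one_add_one_eq_two) with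
    ⟨k, l, hkl, e⟩ | ⟨k, -, e⟩
  · rcases edge_eq b hji.symm (fun e' => by rw [e'] at hkl; omega) e with ⟨e1, e2⟩ | ⟨e1, e2⟩
    · subst e1 e2; exact Or.inl hkl
    · subst e1 e2; exact Or.inr hkl
  · exact (two_smul_eq b hr (Or.inr ⟨j, hji, rfl⟩) e).elim

theorem mem_b (i : Fin n) : Mem b (b i) := Or.inl ⟨i, rfl⟩

theorem mem_edge {i j : Fin n} (h : (j : ℕ) = i + 1) : Mem b (b i + b j) := Or.inr (Or.inl ⟨i, j, h, rfl⟩)

theorem z1 : (2 : ZMod 3) * 1 + 1 ≠ 1 := by decide
theorem z2 : (2 : ZMod 3) * 1 + 1 ≠ 2 := by decide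
theorem z3 : (1 : ZMod 3) + 1 + 1 ≠ 1 := by decide
theorem z4 : (1 : ZMod 3) + 1 + 1 ≠ 2 := by decide
theorem z5 : (1 : ZMod 3) + 1 ≠ 1 := by decide
theorem z6 : (1 : ZMod 3) + 1 ≠ 0 := by decide

/-- An injective endomorphism preserving the configuration is the identity. -/
theorem fix (hr : 3 ≤ r) (hn : 2 ≤ n) (h3 : r = 3 → 3 ≤ n) (g : X →+ X)
    (hinj : Function.Injective g) (hg : ∀ x, Mem b x → Mem b (g x)) : ∀ x, g x = x := by
  set z : Fin n := ⟨0, by omega⟩ with hz
  set z' : Fin n := ⟨1, by omega⟩ with hz'
  have hz01 : (z' : ℕ) = z + 1 := rfl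
  have hlin : ∀ (c : ZMod r) (x : X), g (c • x) = c • g x := fun c x => map_smul (g.toZModLinearMap r) c x
  have hdouble : ∀ x, Mem b x → Mem b ((2 : ZMod r) • x) → x = b z ∨ (r = 3 ∧ x = (2 : ZMod r) • b z) := by
    intro x hx hx2
    rcases mem_weight b hx with h1 | h1
    · obtain ⟨j, rfl⟩ := mem_one b hr hx h1
      refine Or.inl ?_
      rcases mem_two b hr hx2 (by rw [map_smul, h1, smul_eq_mul, mul_one]) with
        ⟨k, l, hkl, e⟩ | ⟨k, hk, e⟩
      · exact (two_smul_eq b hr (Or.inr ⟨l, (fun e' => by rw [e'] at hkl; omega), e⟩) rfl).elim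
      · have := smul_right_injective X (two_ne (r := r) hr) e
        rw [b.injective this, show k = z from Fin.ext hk]
    · rcases mem_weight b hx2 with h2 | h2 <;> rw [map_smul, h1, smul_eq_mul] at h2
      · have hr3 : r = 3 := by
          by_contra hne
          exact cast_ne (r := r) hr (k := 3) (by norm_num) (by omega)
            (by push_cast; linear_combination h2)
        refine Or.inr ⟨hr3, ?_⟩
        obtain ⟨k, hk⟩ := mem_one b hr hx2 (by rw [map_smul, h1, smul_eq_mul]; exact h2)
        have h22 : (2 : ZMod r) * 2 = 1 := h2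
        have hxk : x = (2 : ZMod r) • b k := by
          rw [← hk, smul_smul, h22, one_smul]
        rcases mem_two b hr hx h1 with ⟨i, l, hil, e⟩ | ⟨i, hi, e⟩
        · exact (two_smul_eq b hr (Or.inr ⟨l, (fun e' => by rw [e'] at hil; omega), e⟩) hxk).elim
        · rw [e, show i = z from Fin.ext hi]
      · exact absurd (by linear_combination h2) (two_ne (r := r) hr)
  have h0 : g (b z) = b z := by
    rcases hdouble _ (hg _ (mem_b b z)) (by
      rw [← hlin]; exact hg _ (Or.inr (Or.inr ⟨z, rfl, rfl⟩))) with h | ⟨hr3, h⟩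
    · exact h
    exfalso
    subst hr3
    set z'' : Fin n := ⟨2, by have := h3 rfl; omega⟩ with hz''
    have h12 : (z'' : ℕ) = z' + 1 := rfl
    have e3 : (3 : ZMod 3) = 0 := rfl
    -- the image of the second basis vector
    have hs := hg _ (mem_edge b hz01)
    rw [map_add, h] at hs
    have hgz' := hg _ (mem_b b z')
    have h1 : g (b z') = b z + b z' := by
      rcases mem_weight b hgz' with hw | hw
      · obtain ⟨j, hj⟩ := mem_one b hr hgz' hw
        rcases mem_weight b hs with hw' | hw' <;>
          rw [map_add, map_smul, weight_b, hj, weight_b, smul_eq_mul] at hw' <;>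
            first | exact (z1 hw').elim | exact (z2 hw').elim | exact (z3 hw').elim | exact (z4 hw').elim
      · obtain ⟨k, hk⟩ := mem_one b hr hs (by
          rw [map_add, map_smul, weight_b, hw, smul_eq_mul]; rfl)
        have e : g (b z') = b k + b z := by
          have e2 : (2 : ZMod 3) • b z + b z = 0 := by
            calc (2 : ZMod 3) • b z + b z = ((2 : ZMod 3) + 1) • b z := by rw [add_smul, one_smul]
              _ = 0 := by rw [show (2 : ZMod 3) + 1 = 0 from rfl, zero_smul]
          rw [← hk, add_comm ((2 : ZMod 3) • b z), add_assoc, e2, add_zero]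
        rcases mem_two b hr hgz' hw with ⟨i, j, hij, e'⟩ | ⟨i, hi, e'⟩
        · rw [e'] at e
          by_cases hkz : k = z
          · exfalso
            refine two_smul_eq b hr (Or.inr ⟨j, (fun e1 => by rw [e1] at hij; omega), rfl⟩)
              (k := z) (e.trans ?_)
            rw [hkz, two_smul]
          rcases edge_eq b (fun e1 => by rw [e1] at hij; omega) hkz e with ⟨e1, e2⟩ | ⟨e1, e2⟩
          · subst e1 e2; exact absurd hij (Nat.succ_ne_zero _).symm
          · subst e1 e2
            rw [e', show j = z' from Fin.ext (by rw [hij])]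
        · rw [show i = z from Fin.ext hi, ← h] at e'
          exact absurd (Fin.val_eq_of_eq (b.injective (hinj e'))) (by simp [z, z'])
    -- and of the third
    have ht := hg _ (mem_edge b h12)
    rw [map_add, h1] at ht
    have hgz'' := hg _ (mem_b b z'')
    rcases mem_weight b hgz'' with hw | hw
    · rcases mem_weight b ht with hw' | hw' <;>
        rw [map_add, map_add, weight_b, weight_b, hw] at hw' <;>
          first | exact (z1 hw').elim | exact (z2 hw').elim | exact (z3 hw').elim | exact (z4 hw').elim
    · obtain ⟨k, hk⟩ := mem_one b hr ht (by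
        rw [map_add, map_add, weight_b, weight_b, hw]; rfl)
      rcases mem_two b hr hgz'' hw with ⟨i, j, hij, e⟩ | ⟨i, hi, e⟩
      · rw [e] at hk
        have hjz : j ≠ z := fun e1 => by rw [e1] at hij; simp [z] at hij
        have hzz : z ≠ z' := by simp [z, z']
        have q0 := congrArg (fun v => b.repr v z) hk
        have q1 := congrArg (fun v => b.repr v z') hk
        simp only [map_add, Finsupp.add_apply, coord, if_true, if_neg hzz, if_neg (Ne.symm hzz),
          if_neg hjz, add_zero, zero_add] at q0 q1
        by_cases hi0 : i = z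
        · rw [if_pos hi0] at q0
          split_ifs at q0 <;> first | exact z5 q0 | exact z6 q0
        · rw [if_neg hi0, add_zero] at q0
          have hkz : k = z := by
            by_contra hne
            rw [if_neg hne] at q0
            exact one_ne_zero q0
          subst hkz
          rw [if_neg hzz] at q1
          have hijne : i ≠ j := fun e1 => by rw [e1] at hij; omega
          by_cases a1 : i = z' <;> by_cases a2 : j = z'
          · exact hijne (a1.trans a2.symm)
          all_goals simp [a1, a2] at q1
          all_goals first | exact z6 q1 | exact one_ne_zero q1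
      · rw [show i = z from Fin.ext hi, ← h] at e
        exact absurd (Fin.val_eq_of_eq (b.injective (hinj e))) (by simp [z, z''])
  -- along the path
  have hfix : ∀ k : ℕ, ∀ i : Fin n, (i : ℕ) = k → g (b i) = b i := by
    intro k
    induction k using Nat.strong_induction_on with
    | _ k ih =>
      intro i hi
      rcases Nat.eq_zero_or_pos k with hk | hk
      · rw [show i = z from Fin.ext (show (i : ℕ) = 0 by omega), h0]
      let p : Fin n := ⟨k - 1, by omega⟩
      have hip : (i : ℕ) = (p : ℕ) + 1 := by simp only [p]; omega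
      have hgp : g (b p) = b p := ih (k - 1) (by omega) p rfl
      have hs := hg _ (mem_edge b hip)
      rw [map_add, hgp] at hs
      obtain ⟨j, hj, hor⟩ := partner b hr (hg _ (mem_b b i)) (fun e => by
        rw [← hgp] at e
        exact absurd (congrArg Fin.val (b.injective (hinj e))) (by omega)) hs
      rcases hor with h1 | h1
      · rw [hj]; exact congrArg b (Fin.ext (by omega))
      · exfalso
        have hgj : g (b j) = b j := ih (j : ℕ) (by omega) j rfl
        exact absurd (congrArg Fin.val (b.injective (hinj (hgj.trans hj.symm)))) (by omega)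
  have : g.toZModLinearMap r = LinearMap.id := b.ext fun i => hfix i i rfl
  exact fun x => DFunLike.congr_fun this x

end Path

/-- Small rigid subsets for an odd prime exponent. -/
theorem exists_rigid_odd {X : Type*} [AddCommGroup X] [Finite X] (r : ℕ) [Fact r.Prime] (h3 : 3 ≤ r)
    (hr : ∀ x : X, r • x = 0) (hcard : 5 ≤ Nat.card X) (h9 : Nat.card X ≠ 9) :
    ∃ T : Finset X, IsRigid T ∧ 4 * T.card < Nat.card X := by
  classical
  letI : Module (ZMod r) X := AddCommGroup.zmodModule (n := r) hr
  haveI : Module.Finite (ZMod r) X := Module.Finite.of_finite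
  haveI : Fintype X := Fintype.ofFinite X
  set n := Module.finrank (ZMod r) X
  let b : Module.Basis (Fin n) (ZMod r) X := Module.finBasis (ZMod r) X
  have hX : Nat.card X = r ^ n := by
    rw [Module.natCard_eq_pow_finrank (K := ZMod r), Nat.card_zmod]
  have hn1 : 1 ≤ n := by
    by_contra h
    rw [show n = 0 by omega, pow_zero] at hX
    omega
  by_cases hn : n = 1
  · rw [hn, pow_one] at hX
    refine ⟨{b ⟨0, hn1⟩}, ⟨?_, fun g hinj hg x => ?_⟩, by rw [Finset.card_singleton]; omega⟩
    · rw [Finset.mem_singleton]; exact (b.ne_zero _).symm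
    · have h0 : g (b ⟨0, hn1⟩) = b ⟨0, hn1⟩ := Finset.mem_singleton.1 (hg _ (Finset.mem_singleton_self _))
      have : g.toZModLinearMap r = LinearMap.id := b.ext fun i => by
        rw [show i = ⟨0, hn1⟩ from Fin.ext (by omega)]; exact h0
      exact DFunLike.congr_fun this x
  have h3n : r = 3 → 3 ≤ n := by
    intro e
    subst e
    by_contra hlt
    rw [show n = 2 by omega] at hX
    exact h9 hX
  refine ⟨Finset.univ.filter (Path.Mem b), ⟨?_, fun g hinj hg => Path.fix b h3 (by omega) h3n g hinj
    (fun x hx => (Finset.mem_filter.1 (hg x (Finset.mem_filter.2 ⟨Finset.mem_univ _, hx⟩))).2)⟩, ?_⟩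
  · intro h
    rcases Path.mem_weight b (Finset.mem_filter.1 h).2 with h1 | h1 <;> rw [map_zero] at h1
    · exact zero_ne_one h1
    · exact Path.two_ne h3 h1.symm
  · let z : Fin n := ⟨0, by omega⟩
    have hsub : Finset.univ.filter (Path.Mem b) ⊆ Finset.univ.image b ∪
        (((Finset.univ.erase z).image fun j : Fin n => b ⟨j - 1, by omega⟩ + b j) ∪
          {(2 : ZMod r) • b z}) := by
      intro x hx
      simp only [Finset.mem_union, Finset.mem_image, Finset.mem_singleton]
      rcases (Finset.mem_filter.1 hx).2 with ⟨i, rfl⟩ | ⟨i, j, hij, rfl⟩ | ⟨i, hi, rfl⟩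
      · exact Or.inl ⟨i, Finset.mem_univ _, rfl⟩
      · refine Or.inr (Or.inl ⟨j, Finset.mem_erase.2 ⟨fun e => ?_, Finset.mem_univ _⟩, ?_⟩)
        · rw [e] at hij; simp [z] at hij
        · rw [show (⟨(j : ℕ) - 1, by omega⟩ : Fin n) = i from Fin.ext (by simp; omega)]
      · rw [show i = z from Fin.ext hi]
        exact Or.inr (Or.inr rfl)
    have hc := (Finset.card_le_card hsub).trans ((Finset.card_union_le _ _).trans
      (Nat.add_le_add Finset.card_image_le ((Finset.card_union_le _ _).trans
        (Nat.add_le_add Finset.card_image_le (Finset.card_singleton _).le))))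
    rw [Finset.card_erase_of_mem (Finset.mem_univ _), Finset.card_univ, Fintype.card_fin] at hc
    have h27 : ∀ k, 3 ≤ k → 8 * k < 3 ^ k := by
      intro k hk
      induction k, hk using Nat.le_induction with
      | base => norm_num
      | succ k hk ih => rw [pow_succ]; omega
    rcases Nat.lt_or_ge n 3 with h | h
    · have hn2 : n = 2 := by omega
      have hXc : Nat.card X = r ^ 2 := by rw [hX, hn2]
      have h5 : 5 ≤ r := by
        by_contra hlt
        have : r = 3 ∨ r = 4 := by omega
        rcases this with e | e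
        · exact absurd (h3n e) (by omega)
        · exact absurd (Fact.out : r.Prime) (by rw [e]; norm_num)
      have := Nat.pow_le_pow_left h5 2
      omega
    · have := h27 n h
      have := Nat.pow_le_pow_left h3 n
      omega

end CfsgLib.Perm.CoprimeBase
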